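import Cfsg.Agent.Lib.Fusion.QdSectionFree
import Cfsg.Agent.Lib.Fusion.FunctorNormal
import Cfsg.Agent.Lib.Fusion.LocalFree
import Cfsg.Prelude.Def_EvenType

set_option autoImplicit false
set_option linter.unusedSectionVars false

/-! The fusion system of an `S₄`-free group, and fusion control by a normal subgroup of the system. -/

namespace CfsgLib.SFour

open Cfsg Cfsg.FusionSystem Subgroup CfsgLib.LocalEven CfsgLib.Fusion CfsgLib.Fusion.QdFree

universe u

variable {G : Type u} [Group G] [Finite G]

/-- All models at centric subgroups of the system of an `S₄`-free group are `S₄`-free. -/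
theorem groupSystem_centricFree (P : Sylow 2 G) (h : ¬ Involves (Equiv.Perm (Fin 4)) G) :
    CentricFree (groupFusionSystem (P : Subgroup G)) 2
      (fun (L : Type u) [Group L] => ¬ Involves (Equiv.Perm (Fin 4)) L) := by
  haveI : Fact (Nat.Prime 2) := ⟨Nat.prime_two⟩
  intro Q hQn hQc E hE L _ ι hL hinv
  obtain ⟨K, hK, -, ι', hι'⟩ := exists_normalizer_model P hQn hQc hE
  obtain ⟨φ, -⟩ := model_unique hι' hL
  exact h (Involved.involves_of_subgroup (Involved.involves_of_surjective (QuotientGroup.mk' K)
    (QuotientGroup.mk'_surjective K)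
    (Involved.involves_of_surjective φ.toMonoidHom φ.surjective hinv)))

/-- The normalizer of a subgroup normal in the system of `G` controls strong fusion. -/
theorem controlsStrongFusionOf_of_isNormal {S W : Subgroup G}
    (hW : (groupFusionSystem S).IsNormal W) {A : Set G} (hA : A ⊆ S) :
    Cfsg.ControlsStrongFusionOf (normalizer (W : Set G)) S A := by
  refine ⟨hA, fun g hg => ?_⟩
  have hP : closure A ≤ S := (closure_le S).2 hA
  have hgP : ∀ a ∈ closure A, g * a * g⁻¹ ∈ S := by
    intro a ha
    have hle : closure A ≤ S.comap (MulAut.conj g).toMonoidHom :=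
      (closure_le _).2 fun b hb => hg ⟨b, hb, rfl⟩
    exact hle ha
  let φ : ↥(closure A) →* G := (MulAut.conj g).toMonoidHom.comp (closure A).subtype
  obtain ⟨ψ, ⟨-, -, x, hx⟩, hψe, hψW⟩ :=
    hW.2 (closure A) φ ⟨hP, fun a => hgP a a.2, g, fun a => rfl⟩
  refine ⟨x, ?_, fun a ha => ?_⟩
  · rw [mem_normalizer_iff]
    intro w
    constructor
    · intro hw
      rw [← hψW]
      exact ⟨⟨w, (le_sup_right : W ≤ closure A ⊔ W) hw⟩, hw, hx _⟩
    · intro hw
      rw [← hψW] at hw
      obtain ⟨w', hw', he⟩ := hw
      have he' : x * (w' : G) * x⁻¹ = x * w * x⁻¹ := (hx w').symm.trans he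
      rw [← mul_left_cancel (mul_right_cancel he')]
      exact hw'
  · exact ((hψe ⟨a, subset_closure ha⟩).symm.trans (hx _))

end CfsgLib.SFour
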