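import Cfsg.Agent.Lib.SFour.ThetaCaseA
import Cfsg.Agent.Lib.SFour.GroupSystem
import Cfsg.Agent.Lib.Fusion.Group

set_option autoImplicit false
set_option linter.unusedSectionVars false
set_option linter.style.haveILetI false

/-! A functor normal in all constrained models of smaller 2-groups controls fusion in all their models. -/

namespace CfsgLib.SFour

open Cfsg Cfsg.FusionSystem Subgroup CfsgLib.Fusion
open scoped commutatorElement

universe u

/-- The functor on groups of order below `n`, the whole group elsewhere. -/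
noncomputable def cutW (n : ℕ) (W : ∀ (Q : Type u) [Group Q], Subgroup Q) (Q : Type u) [Group Q] : Subgroup Q :=
  if Nat.card Q < n then W Q else ⊤

/-- The class of `S₄`-free groups with small Sylow 2-subgroups. -/
def SmallFree (n : ℕ) (L : Type u) [Group L] : Prop :=
  Finite L ∧ 2 ^ (Nat.card L).factorization 2 < n ∧ ¬ Involves (Equiv.Perm (Fin 4)) L

theorem sectionClosed_smallFree (n : ℕ) : SectionClosed.{u} (fun L _ => SmallFree n L) where
  sub {L L'} _ _ f hf h := by
    haveI := h.1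
    haveI := Finite.of_injective f hf
    refine ⟨inferInstance, lt_of_le_of_lt (Nat.pow_le_pow_right (by norm_num) ?_) h.2.1,
      sectionClosed_not_involves.sub f hf h.2.2⟩
    exact (Nat.factorization_le_iff_dvd Nat.card_pos.ne' Nat.card_pos.ne').2
      (Subgroup.card_dvd_of_injective f hf) 2
  quot {L L'} _ _ f hf h := by
    haveI := h.1
    haveI := Finite.of_surjective f hf
    refine ⟨inferInstance, lt_of_le_of_lt (Nat.pow_le_pow_right (by norm_num) ?_) h.2.1,
      sectionClosed_not_involves.quot f hf h.2.2⟩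
    exact (Nat.factorization_le_iff_dvd Nat.card_pos.ne' Nat.card_pos.ne').2
      (Subgroup.card_dvd_of_surjective f hf) 2

/-- Fusion modulo `K` is controlled by the subgroup given by the functor on the quotient. -/
theorem exists_ctrl {n : ℕ} (W : ∀ (Q : Type u) [Group Q], Subgroup Q)
    (hW1 : ∀ (Q : Type u) [Group Q] [Finite Q], IsPGroup 2 Q → Nontrivial Q → Nat.card Q < n → W Q ≠ ⊥)
    (hW2 : ∀ (Q R : Type u) [Group Q] [Group R] [Finite Q], IsPGroup 2 Q → ∀ φ : Q ≃* R,
      (W Q).map φ.toMonoidHom = W R)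
    (hW3 : ∀ (Q : Type u) [Group Q] [Finite Q] (m : Model Q), IsPGroup 2 Q → Nat.card Q < n →
      centralizer (pCore 2 m.G : Set m.G) ≤ pCore 2 m.G → m.Norm (W Q)) :
    CtrlBelow.{u} n := by
  intro S _ _ K _ hS hK hn
  classical
  haveI : Fact (Nat.Prime 2) := ⟨Nat.prime_two⟩
  set W' := cutW n W with hW'
  have hQ : IsPGroup 2 (S ⧸ K) := hS.to_quotient K
  haveI hnt : Nontrivial (S ⧸ K) := QuotientGroup.nontrivial_iff.2 hK
  have e1 : W' (S ⧸ K) = W (S ⧸ K) := if_pos hn
  have hW1' : ∀ (Q : Type u) [Group Q] [Finite Q], IsPGroup 2 Q → Nontrivial Q → W' Q ≠ ⊥ := by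
    intro Q _ _ hp hnt'
    by_cases hc : Nat.card Q < n
    · rw [hW', cutW, if_pos hc]; exact hW1 Q hp hnt' hc
    · rw [hW', cutW, if_neg hc]; exact bot_ne_top.symm
  have hW2' : ∀ (Q R : Type u) [Group Q] [Group R] [Finite Q], IsPGroup 2 Q → ∀ φ : Q ≃* R,
      (W' Q).map φ.toMonoidHom = W' R := by
    intro Q R _ _ _ hp φ
    rw [hW', cutW, cutW, ← Nat.card_congr φ.toEquiv]
    by_cases hc : Nat.card Q < n
    · rw [if_pos hc, if_pos hc]; exact hW2 Q R hp φ
    · rw [if_neg hc, if_neg hc]; exact map_top_of_surjective _ φ.surjective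
  have hW3' : ∀ (L : Type u) [Group L] [Finite L] (T : Sylow 2 L),
      centralizer ((pCore 2 L : Subgroup L) : Set L) ≤ pCore 2 L → SmallFree n L →
      (charSub W' (T : Subgroup L)).Normal := by
    intro L _ _ T hc hgood
    have hT : Nat.card (T : Subgroup L) < n := by
      rw [Sylow.card_eq_multiplicity]; exact hgood.2.1
    let m : Model (T : Subgroup L) := ⟨L, (T : Subgroup L).subtype, Subtype.val_injective,
      ⟨T, (range_subtype _).symm⟩, hgood.2.2⟩
    have := hW3 _ m T.2 hT hc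
    rw [charSub, hW', cutW, if_pos hT]
    exact this
  refine ⟨(W (S ⧸ K)).comap (QuotientGroup.mk' K), ?_, ?_, fun m hm A g hg => ?_⟩
  · refine Normal.comap ⟨fun x hx q => ?_⟩ _
    have h1 := hW2 _ _ hQ (MulAut.conj q)
    exact h1.le ⟨x, hx, rfl⟩
  · refine lt_of_le_not_ge (fun x hx => ?_) fun hle => hW1 (S ⧸ K) hQ hnt hn (eq_bot_iff.2 fun q hq => ?_)
    · show QuotientGroup.mk x ∈ W (S ⧸ K)
      rw [(QuotientGroup.eq_one_iff x).2 hx]; exact one_mem _
    · induction q using QuotientGroup.induction_on with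
      | H x => exact Subgroup.mem_bot.2 ((QuotientGroup.eq_one_iff x).2 (hle hq))
  -- the quotient of the model
  set KG := K.map m.emb with hKG
  haveI : KG.Normal := hm
  set π := QuotientGroup.mk' KG
  let ι : S ⧸ K →* m.G ⧸ KG := QuotientGroup.map K KG m.emb (Subgroup.le_comap_map _ _)
  have hι : ∀ s : S, ι s = π (m.emb s) := fun s => rfl
  have hιinj : Function.Injective ι := (injective_iff_map_eq_one ι).2 fun q hq => by
    induction q using QuotientGroup.induction_on with
    | H x =>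
      obtain ⟨k, hk, e⟩ := (QuotientGroup.eq_one_iff (m.emb x)).1 hq
      exact (QuotientGroup.eq_one_iff x).2 (m.inj e ▸ hk)
  obtain ⟨P, hP⟩ := m.syl
  set T := P.mapSurjective (QuotientGroup.mk'_surjective KG) with hT
  have hTι : (T : Subgroup (m.G ⧸ KG)) = ι.range := by
    rw [hT, Sylow.coe_mapSurjective, hP]
    ext y
    constructor
    · rintro ⟨_, ⟨s, rfl⟩, rfl⟩; exact ⟨s, rfl⟩
    · rintro ⟨q, rfl⟩
      induction q using QuotientGroup.induction_on with
      | H s => exact ⟨m.emb s, ⟨s, rfl⟩, rfl⟩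
  have hcardT : Nat.card (T : Subgroup (m.G ⧸ KG)) < n := by
    rw [hTι, Nat.card_congr (MonoidHom.ofInjective hιinj).toEquiv.symm]; exact hn
  have hfree : ¬ Involves (Equiv.Perm (Fin 4)) (m.G ⧸ KG) := fun h =>
    m.free (CfsgLib.LocalEven.Involved.involves_of_surjective π (QuotientGroup.mk'_surjective KG) h)
  have hcf : CentricFree (groupFusionSystem (T : Subgroup (m.G ⧸ KG))) 2 (fun L _ => SmallFree n L) := by
    intro Q hQn hQc E hE L _ ι' hL
    haveI := hL.1
    refine ⟨hL.1, ?_, groupSystem_centricFree T hfree Q hQn hQc E hE L ι' hL⟩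
    obtain ⟨T', hT'⟩ := hL.2.2.1
    rw [← Sylow.card_eq_multiplicity T', hT']
    refine lt_of_le_of_lt (Nat.le_of_dvd Nat.card_pos ((card_range_dvd ι').trans ?_)) hcardT
    exact Subgroup.card_dvd_of_le inf_le_left
  have hnorm := isNormal_charSub (sectionClosed_smallFree n) hW1' hW2' hW3' T.2 (group_saturated T) hcf
  have hV : charSub W' (T : Subgroup (m.G ⧸ KG)) = (W (S ⧸ K)).map ι := by
    rw [hTι, charSub, ← hW2' _ _ hQ (MonoidHom.ofInjective hιinj), e1, Subgroup.map_map]
    rfl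
  obtain ⟨-, hc⟩ := controlsStrongFusionOf_of_isNormal hnorm (A := π '' (m.emb '' (A : Set S))) (by
    rintro _ ⟨_, ⟨s, hs, rfl⟩, rfl⟩
    exact hTι.ge ⟨s, rfl⟩)
  obtain ⟨x, hx, he⟩ := hc (π g) (by
    rintro _ ⟨_, ⟨_, ⟨s, hs, rfl⟩, rfl⟩, rfl⟩
    obtain ⟨y, hy⟩ := hg s hs
    refine hTι.ge ⟨y, ?_⟩
    show π (m.emb y) = π g * π (m.emb s) * (π g)⁻¹
    rw [hy, map_mul, map_mul, map_inv])
  obtain ⟨x, rfl⟩ := QuotientGroup.mk'_surjective KG x
  refine ⟨x, Subgroup.mem_normalizer_fintype ?_, fun a ha => ?_⟩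
  · rintro _ ⟨v, hv, rfl⟩
    rw [hV] at hx
    obtain ⟨w, hw, e⟩ := (mem_normalizer_iff.1 hx _).1 ⟨_, hv, rfl⟩
    induction w using QuotientGroup.induction_on with
    | H w =>
      have e' : π (m.emb w) = π (x * m.emb v * x⁻¹) := by
        rw [map_mul, map_mul, map_inv]; exact e
      obtain ⟨k, hk, hk'⟩ := QuotientGroup.eq.1 e'
      refine ⟨w * k, ?_, by rw [map_mul, hk', mul_inv_cancel_left]⟩
      show QuotientGroup.mk (w * k) ∈ W (S ⧸ K)
      rwa [QuotientGroup.mk_mul, (QuotientGroup.eq_one_iff k).2 hk, mul_one]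
  · refine (QuotientGroup.eq_one_iff _).1 ?_
    show π (g * m.emb a * g⁻¹ * (x * m.emb a * x⁻¹)⁻¹) = 1
    rw [map_mul π (g * m.emb a * g⁻¹), map_inv, mul_inv_eq_one]
    have h1 := he (π (m.emb a)) ⟨m.emb a, ⟨a, ha, rfl⟩, rfl⟩
    simpa only [map_mul, map_inv] using h1

end CfsgLib.SFour
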