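import Cfsg.Agent.Lib.SFour.ThetaCaseC

set_option autoImplicit false
set_option linter.unusedSectionVars false
set_option linter.style.haveILetI false

/-! The main induction: no good subgroup above `U` is generated by central elements under models. -/

namespace CfsgLib.SFour

open Subgroup IsMulCommutative CfsgLib.Techniques CfsgLib.Techniques.SThree CfsgLib.LLemma
open scoped commutatorElement

universe u

variable {S : Type u} [Group S] [Finite S]

theorem elementary_of_le {A B : Subgroup S} (hA : Cfsg.IsElementaryAbelian 2 A) (h : B ≤ A) :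
    Cfsg.IsElementaryAbelian 2 B :=
  ⟨⟨⟨fun x y => Subtype.ext (show (x : S) * y = y * x from
      congrArg Subtype.val (hA.1.1.comm (⟨x, h x.2⟩ : A) ⟨y, h y.2⟩))⟩⟩,
    fun x hx => hA.2 x (h hx)⟩

theorem goodSub_inf_center (c : Ctx S) {M : Subgroup S} (hMN : M ≤ c.N) :
    GoodSub (⊤ : Subgroup S) (M ⊓ center S) := by
  refine GoodSub.of_le_centralizer (elementary_of_le c.good.elem
    (inf_le_left.trans hMN)) fun s _ => mem_centralizer_iff.2 fun x hx => ?_
  exact (mem_center_iff.1 hx.2 s).symm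

/-- The image of `T` is settled for every list. -/
theorem theta (c : Ctx S) (hS : IsPGroup 2 S) (hC : CtrlBelow.{u} (Nat.card S)) :
    ∀ {M : Subgroup S} [M.Normal] [IsMulCommutative M], M ≤ c.N → ¬ M ≤ c.d.U → ∀ l : List (Model S),
      (∀ m ∈ l, m.Norm M) → Settled M c l := by
  suffices H : ∀ n : ℕ, ∀ {M : Subgroup S} [M.Normal] [IsMulCommutative M], Nat.card M < n → M ≤ c.N →
      ¬ M ≤ c.d.U → ∀ l : List (Model S), (∀ m ∈ l, m.Norm M) → Settled M c l from
    fun {M} _ _ => H (Nat.card M + 1) (Nat.lt_succ_self _)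
  intro n
  induction n with
  | zero => intro M _ _ h; omega
  | succ n ihM =>
    intro M _ _ hn hMN hMU
    obtain ⟨v₀, hv₀, hv₀U⟩ := SetLike.not_le_iff_exists.1 hMU
    suffices H : ∀ k : ℕ, ∀ l : List (Model S), msr l < k → (∀ m ∈ l, m.Norm M) → Settled M c l from
      fun l => H (msr l + 1) l (Nat.lt_succ_self _)
    intro k
    induction k with
    | zero => intro l h; omega
    | succ k ih =>
      intro l hk hl
      have ih' : ∀ l' : List (Model S), msr l' < msr l → (∀ m ∈ l', m.Norm M) → Settled M c l' :=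
        fun l' h => ih l' (by omega)
      obtain ⟨X, hX⟩ := Set.Finite.exists_minimal
        (s := {K : Subgroup S | K.Normal ∧ M ⊓ center S ≤ K ∧ K ≤ M ∧ ∀ m ∈ l, m.Norm K}) (Set.toFinite _)
        ⟨M, inferInstance, inf_le_left, le_rfl, hl⟩
      obtain ⟨hXn, hZX, hXM, hXl⟩ := hX.prop
      haveI := hXn
      have hclo : ∀ K : Subgroup S, K.Normal → M ⊓ center S ≤ K → K ≤ X → (∀ m ∈ l, m.Norm K) → K = X :=
        fun K h1 h3 h4 h5 => le_antisymm h4 (hX.le_of_le ⟨h1, h3, h4.trans hXM, h5⟩ h4)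
      by_cases hXe : X = M
      · subst hXe
        exact caseA c hS hC hMN hv₀ hv₀U l hl hclo ih'
      by_cases hXU : X ≤ c.d.U
      · -- `X` is good, hence normal in `m₀`
        obtain ⟨K, hK⟩ := Set.Finite.exists_maximal
          (s := {K : Subgroup S | GoodSub (⊤ : Subgroup S) K ∧ M ⊓ center S ≤ K ∧ K ≤ X}) (Set.toFinite _)
          ⟨_, goodSub_inf_center c hMN, le_rfl, hZX⟩
        obtain ⟨hKg, hZK, hKX⟩ := hK.prop
        have hKl : ∀ m ∈ l, m.Norm K := fun m hm => by
          obtain ⟨K', h1, h2, h3, h4⟩ := exists_goodSub_norm m hKg (hXl m hm) (hS.to_subgroup X) hKX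
          exact (le_antisymm (hK.le_of_ge ⟨h1, hZK.trans h3, h4⟩ h3) h3 : K' = K) ▸ h2
        have hKn : K.Normal := normalizer_eq_top_iff.1 (top_le_iff.1 hKg.norm)
        obtain rfl := hclo K hKn hZK hKX hKl
        refine caseC c hS hC hMN hv₀ hv₀U l hl (c.small _ hXU hKg) (fun e => ?_) hXl ih'
        have hbot : M ⊓ center S = ⊥ := le_bot_iff.1 (e ▸ hZX)
        have hMne : M ≠ ⊥ := fun e' => hMU (e' ▸ bot_le)
        haveI : Nontrivial M := M.nontrivial_iff_ne_bot.2 hMne
        obtain ⟨w, hw⟩ := exists_ne (1 : M)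
        obtain ⟨v, hv0, hv⟩ := exists_fixed_ne_zero (ρ := (repM M).comp (bar M))
          (two_eq_zero (c.sq_M hMN)) (R := (⊤ : Subgroup S)) (hS.to_subgroup ⊤) (v₀ := Additive.ofMul w) hw
        refine hv0 (Additive.toMul.injective (Subtype.ext (Subgroup.mem_bot.1 (hbot ▸ ⟨v.toMul.2,
          mem_center_iff.2 fun g => ?_⟩ : (v.toMul : S) ∈ (⊥ : Subgroup S)))))
        have h1 := congrArg (fun y : Additive M => ((y.toMul : M) : S)) (hv g (mem_top g))
        simp only [MonoidHom.comp_apply, val_bar] at h1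
        exact mul_inv_eq_iff_eq_mul.1 h1
      · -- a smaller subgroup outside `U`
        haveI : IsMulCommutative X := (elementary_of_le c.good.elem (hXM.trans hMN)).1
        have hlt : Nat.card X < n := by
          have h1 : Nat.card X < Nat.card M := by
            refine lt_of_le_of_ne (Subgroup.card_le_of_le hXM) fun e => hXe ?_
            exact Subgroup.eq_of_le_of_card_ge hXM e.ge
          omega
        obtain ⟨Z, hZP, hTZ, hPZ, hZl⟩ := ihM hlt (hXM.trans hMN) hXU l hXl
        exfalso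
        obtain ⟨a, ha, haU⟩ := SetLike.not_le_iff_exists.1 hXU
        have hfix : fixSub X Z = X := hclo _ (fixSub_normal hPZ)
          (fun x hx => inf_center_le_fixSub hZP ⟨hZX hx, hx.2⟩) (fixSub_le _)
          fun m hm => fixSub_norm (hXl m hm) (hZl m hm)
        have hZ1 := eq_one_of_fixSub_eq hfix.ge
        refine haU (c.d.Y_le ((c.d.fixed a (hMN (hXM ha))).1 fun f hf => ?_)).1
        have h1 : bar X f = 1 := Subgroup.mem_bot.1 (hZ1 ▸ hTZ ⟨f, hf, rfl⟩)
        have h2 := congrArg (fun γ : MulAut X => ((γ ⟨a, ha⟩ : X) : S)) h1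
        simp only [MulAut.one_apply] at h2
        rw [show ((bar X f ⟨a, ha⟩ : X) : S) = f * a * f⁻¹ from MulAut.conjNormal_apply f _] at h2
        exact mul_inv_eq_iff_eq_mul.1 h2

/-- No good subgroup outside `U` is the closure of its central elements under models normalising it. -/
theorem theta_false (c : Ctx S) (hS : IsPGroup 2 S) (hC : CtrlBelow.{u} (Nat.card S)) {M : Subgroup S}
    [M.Normal] [IsMulCommutative M] (hMN : M ≤ c.N) (hMU : ¬ M ≤ c.d.U) (l : List (Model S))
    (hl : ∀ m ∈ l, m.Norm M)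
    (hcl : ∀ K : Subgroup S, K.Normal → M ⊓ center S ≤ K → K ≤ M → (∀ m ∈ l, m.Norm K) → K = M) : False := by
  obtain ⟨Z, hZP, hTZ, hPZ, hZl⟩ := theta c hS hC hMN hMU l hl
  have hfix : fixSub M Z = M := hcl _ (fixSub_normal hPZ) (inf_center_le_fixSub hZP) (fixSub_le _)
    fun m hm => fixSub_norm (hl m hm) (hZl m hm)
  obtain ⟨v₀, hv₀, hv₀U⟩ := SetLike.not_le_iff_exists.1 hMU
  obtain ⟨t, ht, ht1⟩ := (c.config hMN hv₀ hv₀U).exists_move
  rw [eq_one_of_fixSub_eq hfix.ge] at hTZ
  exact ht1 (by rw [Subgroup.mem_bot.1 (hTZ ht), map_one])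

end CfsgLib.SFour
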