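import Cfsg.Agent.Lib.SFour.Universal
import Cfsg.Agent.Lib.SFour.Theta
import Cfsg.Agent.Lib.SFour.Ctrl

set_option autoImplicit false
set_option linter.unusedSectionVars false

/-! The universal theorem for the `S₄`-free groups and the resulting functor, unconditionally. -/

namespace CfsgLib.SFour

open Subgroup

universe u

/-- `wUniv S` is normal in every constrained model of `S`. -/
theorem norm_wUniv_all {S : Type u} [Group S] [Finite S] (hS : IsPGroup 2 S) (m : Model S)
    (hC : centralizer (Cfsg.pCore 2 m.G : Set m.G) ≤ Cfsg.pCore 2 m.G) : m.Norm (wUniv S) :=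
  norm_wUniv (fun _ _ _ c hS' hK M _ _ hMN hMU l hl hcl => theta_false c hS' hK hMN hMU l hl hcl)
    (fun _ W h1 h2 h3 => exists_ctrl W h1 h2 h3) S m hS hC

/-- The functor for the `S₄`-free groups. -/
theorem twoFunctor_all : CfsgLib.Fusion.TwoFunctor.{u} :=
  twoFunctor (fun _ _ _ c hS' hK M _ _ hMN hMU l hl hcl => theta_false c hS' hK hMN hMU l hl hcl)
    fun _ W h1 h2 h3 => exists_ctrl W h1 h2 h3

theorem characteristic_wUniv {S : Type u} [Group S] [Finite S] : (wUniv S).Characteristic :=
  Subgroup.characteristic_iff_map_eq.2 fun φ => map_wUniv φ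

end CfsgLib.SFour
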