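import Cfsg.Agent.Lib.Techniques.SThreeNoOffender
import Cfsg.Agent.Lib.LocalEven.SFour
import Cfsg.Agent.Lib.Involutions.BaerSuzuki

set_option autoImplicit false
set_option linter.unusedSectionVars false

/-! Elementary facts on 2-modules of groups without a section `S₃`: the kernel of the chief factors,
the cost of a quadratic subgroup, involutions with product of order three. -/

namespace CfsgLib.SFour

open Subgroup CfsgLib.Techniques CfsgLib.Techniques.SThree

universe u v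

variable {X : Type u} [Group X]

/-- `X` has no section isomorphic to the symmetric group of degree three. -/
abbrev S3Free (X : Type u) [Group X] : Prop := ¬ Cfsg.Involves (Equiv.Perm (Fin 3)) X

theorem S3Free.sfour [Finite X] (h : S3Free X) : ¬ Cfsg.Involves (Equiv.Perm (Fin 4)) X := by
  intro h4
  obtain ⟨K, f, hf⟩ := CfsgLib.LocalEven.Involved.exists_hom_of_involves h4
  exact h (CfsgLib.LocalEven.Involved.involves_of_hom K (CfsgLib.LocalEven.SFour.toThree.comp f)
    (CfsgLib.LocalEven.SFour.toThree_surjective.comp hf))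

theorem S3Free.sub (h : S3Free X) (H : Subgroup X) : S3Free H := fun h' =>
  h (CfsgLib.LocalEven.Involved.involves_of_subgroup h')

theorem S3Free.of_surjective {Y : Type u} [Group Y] (h : S3Free X) (f : X →* Y)
    (hf : Function.Surjective f) : S3Free Y := fun h' =>
  h (CfsgLib.LocalEven.Involved.involves_of_surjective f hf h')

/-- Two involutions with product of order dividing three are equal. -/
theorem S3Free.eq_of_cube [Finite X] (h : S3Free X) {a b : X} (ha : a * a = 1) (hb : b * b = 1)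
    (hab : (a * b) ^ 3 = 1) : a = b := by
  by_contra hne
  have hai : a⁻¹ = a := inv_eq_of_mul_eq_one_right ha
  have hbi : b⁻¹ = b := inv_eq_of_mul_eq_one_right hb
  have hne1 : a * b ≠ 1 := fun e => hne (by
    calc a = a * (b * b) := by rw [hb, mul_one]
      _ = b := by rw [← mul_assoc, e, one_mul])
  have ha1 : a ≠ 1 := by
    intro e
    rw [e, one_mul] at hab
    refine hne1 ?_
    rw [e, one_mul]
    calc b = b * (b * b) := by rw [hb, mul_one]
      _ = 1 := by rw [← hab, pow_succ, pow_two, mul_assoc]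
  have : Fact (Nat.Prime 3) := ⟨Nat.prime_three⟩
  have : Fact (Nat.Prime 2) := ⟨Nat.prime_two⟩
  obtain ⟨e⟩ := CfsgLib.LocalEven.SFour.dihedralThree_mulEquiv
  refine h (CfsgLib.LocalEven.Involved.involves_of_equiv e
    (CfsgLib.LocalEven.Involved.involves_dihedral_of_inverted (p := 3) (by norm_num) (x := a)
      (y := a * b) (k := 1) (l := 1) ?_ ?_ hne1 ?_))
  · rw [pow_one, orderOf_eq_prime (by rw [pow_two, ha]) ha1]
  · rw [pow_one, orderOf_eq_prime hab hne1]
  · rw [mul_inv_rev, hbi, hai, ← mul_assoc, ha, one_mul]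

/-- A 2-element outside the 2-core generates a non-2-group with one of its conjugates. -/
theorem exists_not_isPGroup [Finite X] {a : X} (ha : a ∉ Cfsg.pCore 2 X) :
    ∃ g : X, ¬ IsPGroup 2 (Subgroup.closure ({a, g * a * g⁻¹} : Set X)) := by
  have : Fact (Nat.Prime 2) := ⟨Nat.prime_two⟩
  by_contra! h
  obtain ⟨N, hN, hNp, haN⟩ := CfsgLib.Involutions.exists_normal_isPGroup_of_mem h
  exact ha (CfsgLib.PCore.le_pCore hN hNp haN)

variable {V : Type v} [AddCommGroup V]

/-- The action modulo its kernel. -/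
def faithRep (ρ : X →* AddMonoid.End V) : X ⧸ ρ.ker →* AddMonoid.End V :=
  QuotientGroup.lift ρ.ker ρ fun _ hx => hx

theorem faithRep_mk (ρ : X →* AddMonoid.End V) (x : X) :
    faithRep ρ (QuotientGroup.mk x) = ρ x := rfl

theorem faithRep_eq_one {ρ : X →* AddMonoid.End V} (y : X ⧸ ρ.ker) (h : faithRep ρ y = 1) : y = 1 := by
  induction y using QuotientGroup.induction_on with
  | H x => exact (QuotientGroup.eq_one_iff x).2 h

/-- The largest normal subgroup acting as a 2-group. -/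
def twoKer (ρ : X →* AddMonoid.End V) : Subgroup X :=
  (Cfsg.pCore 2 (X ⧸ ρ.ker)).comap (QuotientGroup.mk' ρ.ker)

instance twoKer_normal (ρ : X →* AddMonoid.End V) : (twoKer ρ).Normal :=
  (Cfsg.pCore_normal 2 _).comap _

variable [Finite X] {ρ : X →* AddMonoid.End V}

theorem ker_le_twoKer (ρ : X →* AddMonoid.End V) : ρ.ker ≤ twoKer ρ := fun x hx => by
  rw [twoKer, mem_comap, QuotientGroup.mk'_apply, (QuotientGroup.eq_one_iff x).2 hx]
  exact one_mem _

theorem exists_pow_of_mem_twoKer {x : X} (hx : x ∈ twoKer ρ) : ∃ k : ℕ, ρ (x ^ 2 ^ k) = 1 := by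
  obtain ⟨k, hk⟩ := CfsgLib.PCore.pCore_isPGroup (p := 2) ⟨_, hx⟩
  refine ⟨k, ?_⟩
  have h1 : (QuotientGroup.mk (x ^ 2 ^ k) : X ⧸ ρ.ker) = 1 := congrArg Subtype.val hk
  exact MonoidHom.mem_ker.1 ((QuotientGroup.eq_one_iff _).1 h1)

theorem le_twoKer {N : Subgroup X} (hN : N.Normal) (h : ∀ x ∈ N, ∃ k : ℕ, ρ (x ^ 2 ^ k) = 1) :
    N ≤ twoKer ρ := by
  rw [twoKer, ← map_le_iff_le_comap]
  refine CfsgLib.PCore.le_pCore (hN.map _ (QuotientGroup.mk'_surjective _)) ?_
  rintro ⟨_, x, hx, rfl⟩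
  obtain ⟨k, hk⟩ := h x hx
  exact ⟨k, Subtype.ext ((QuotientGroup.eq_one_iff _).2 hk)⟩

theorem twoKer_eq_bot (hρ : ∀ x, ρ x = 1 → x = 1) (hO : Cfsg.pCore 2 X = ⊥) : twoKer ρ = ⊥ := by
  refine le_bot_iff.1 (hO ▸ CfsgLib.PCore.le_pCore (twoKer_normal ρ) fun x => ?_)
  obtain ⟨k, hk⟩ := exists_pow_of_mem_twoKer x.2
  exact ⟨k, Subtype.ext (hρ _ hk)⟩

theorem twoKer_eq_pCore (hρ : ∀ x, ρ x = 1 → x = 1) : twoKer ρ = Cfsg.pCore 2 X := by
  refine le_antisymm (CfsgLib.PCore.le_pCore (twoKer_normal ρ) fun x => ?_)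
    (le_twoKer (Cfsg.pCore_normal 2 X) fun x hx => ?_)
  · obtain ⟨k, hk⟩ := exists_pow_of_mem_twoKer x.2
    exact ⟨k, Subtype.ext (hρ _ hk)⟩
  · obtain ⟨k, hk⟩ := CfsgLib.PCore.pCore_isPGroup (p := 2) ⟨x, hx⟩
    have : x ^ 2 ^ k = 1 := congrArg Subtype.val hk
    exact ⟨k, by rw [this, map_one]⟩

variable [Finite V] {W : AddSubgroup V} {hW : ∀ x : X, ∀ v ∈ W, ρ x v ∈ W}

theorem twoKer_le_sub : twoKer ρ ≤ twoKer (subRep ρ W hW) := le_twoKer inferInstance fun x hx => by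
  obtain ⟨k, hk⟩ := exists_pow_of_mem_twoKer hx
  exact ⟨k, AddMonoidHom.ext fun w => Subtype.ext (DFunLike.congr_fun hk (w : V))⟩

theorem twoKer_le_quot : twoKer ρ ≤ twoKer (quotRep ρ W hW) := le_twoKer inferInstance fun x hx => by
  obtain ⟨k, hk⟩ := exists_pow_of_mem_twoKer hx
  refine ⟨k, AddMonoidHom.ext fun q => QuotientAddGroup.induction_on q fun v => ?_⟩
  show QuotientAddGroup.mk (ρ (x ^ 2 ^ k) v) = QuotientAddGroup.mk v
  rw [hk]; rfl

/-- An element trivial on `W` and on `V / W` squares to an element acting trivially. -/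
theorem sq_eq_one_of_stab (hV2 : ∀ v : V, v + v = 0) {y : X} (h1 : ∀ w ∈ W, ρ y w = w)
    (h2 : ∀ v, ρ y v - v ∈ W) : ρ (y * y) = 1 :=
  act_mul_self hV2 fun v => h1 _ (h2 v)

theorem pow_stab {x : X} {k l : ℕ} (h1 : subRep ρ W hW (x ^ 2 ^ k) = 1)
    (h2 : quotRep ρ W hW (x ^ 2 ^ l) = 1) :
    (∀ w ∈ W, ρ (x ^ 2 ^ (k + l)) w = w) ∧ ∀ v, ρ (x ^ 2 ^ (k + l)) v - v ∈ W := by
  have hk' : subRep ρ W hW (x ^ 2 ^ (k + l)) = 1 := by rw [pow_add, pow_mul, map_pow, h1, one_pow]
  have hl' : quotRep ρ W hW (x ^ 2 ^ (k + l)) = 1 := by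
    rw [add_comm, pow_add, pow_mul, map_pow, h2, one_pow]
  refine ⟨fun w hw => congrArg Subtype.val (DFunLike.congr_fun hk' (⟨w, hw⟩ : W)), fun v => ?_⟩
  have h3 : (QuotientAddGroup.mk (ρ (x ^ 2 ^ (k + l)) v) : V ⧸ W) = QuotientAddGroup.mk v :=
    DFunLike.congr_fun hl' (QuotientAddGroup.mk v)
  have h4 := QuotientAddGroup.eq.1 h3.symm
  rwa [neg_add_eq_sub] at h4

theorem inf_twoKer_le (hV2 : ∀ v : V, v + v = 0) :
    twoKer (subRep ρ W hW) ⊓ twoKer (quotRep ρ W hW) ≤ twoKer ρ := le_twoKer inferInstance fun x hx => by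
  obtain ⟨k, hk⟩ := exists_pow_of_mem_twoKer hx.1
  obtain ⟨l, hl⟩ := exists_pow_of_mem_twoKer hx.2
  obtain ⟨h1, h2⟩ := pow_stab hk hl
  exact ⟨k + l + 1, by rw [pow_succ, pow_mul, pow_two]; exact sq_eq_one_of_stab hV2 h1 h2⟩

theorem exists_fixed_twoKer (hV2 : ∀ v : V, v + v = 0) {v₀ : V} (hv₀ : v₀ ≠ 0) :
    ∃ v : V, v ≠ 0 ∧ v ∈ fixedPts ρ (twoKer ρ) := by
  obtain ⟨v, hv, h⟩ := exists_fixed_ne_zero (ρ := faithRep ρ) hV2
    (R := Cfsg.pCore 2 (X ⧸ ρ.ker)) CfsgLib.PCore.pCore_isPGroup hv₀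
  exact ⟨v, hv, fun x hx => h _ hx⟩

theorem fixedPts_inv {N : Subgroup X} (hN : N.Normal) (x : X) : ∀ v ∈ fixedPts ρ N, ρ x v ∈ fixedPts ρ N := by
  intro v hv n hn
  have h1 : x⁻¹ * n * x ∈ N := by simpa using hN.conj_mem n hn x⁻¹
  calc ρ n (ρ x v) = ρ (x * (x⁻¹ * n * x)) v := by rw [← act_mul, show x * (x⁻¹ * n * x) = n * x by group]
    _ = ρ x v := by rw [act_mul, hv _ h1]

/-- On a minimal invariant subgroup the largest normal subgroup acting as a 2-group is trivial. -/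
theorem twoKer_sub_eq_ker (hV2 : ∀ v : V, v + v = 0) (hne : W ≠ ⊥)
    (hmin : ∀ W' : AddSubgroup V, (∀ x : X, ∀ v ∈ W', ρ x v ∈ W') → W' ≠ ⊥ → W' ≤ W → W' = W) :
    twoKer (subRep ρ W hW) = (subRep ρ W hW).ker := by
  refine le_antisymm (fun x hx => ?_) (ker_le_twoKer _)
  set σ := subRep ρ W hW
  obtain ⟨w₀, hw₀, hw₀'⟩ : ∃ w ∈ W, w ≠ (0 : V) := by
    by_contra hall
    push Not at hall
    exact hne (eq_bot_iff.2 fun v hv => AddSubgroup.mem_bot.2 (hall v hv))
  obtain ⟨w, hw, hfix⟩ := exists_fixed_twoKer (ρ := σ) (fun v => Subtype.ext (hV2 v))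
    (v₀ := (⟨w₀, hw₀⟩ : W)) fun e => hw₀' (congrArg Subtype.val e)
  have h := hmin ((fixedPts σ (twoKer σ)).map W.subtype) ?_ ?_ ?_
  · refine AddMonoidHom.ext fun u => ?_
    obtain ⟨u', hu', e⟩ := h.ge u.2
    exact (Subtype.ext e : u' = u) ▸ hu' x hx
  · rintro g _ ⟨u, hu, rfl⟩
    exact ⟨σ g u, fixedPts_inv inferInstance g u hu, rfl⟩
  · intro e
    exact hw (Subtype.ext (AddSubgroup.mem_bot.1 (e ▸ ⟨w, hfix, rfl⟩ : (w : V) ∈ (⊥ : AddSubgroup V))))
  · rintro _ ⟨u, -, rfl⟩; exact u.2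

theorem exists_minimal_inv (ρ : X →* AddMonoid.End V) (hne : ∃ v : V, v ≠ 0) :
    ∃ W : AddSubgroup V, W ≠ ⊥ ∧ (∀ x : X, ∀ v ∈ W, ρ x v ∈ W) ∧
      ∀ W' : AddSubgroup V, (∀ x : X, ∀ v ∈ W', ρ x v ∈ W') → W' ≠ ⊥ → W' ≤ W → W' = W := by
  obtain ⟨v, hv⟩ := hne
  have htop : (⊤ : AddSubgroup V) ≠ ⊥ := fun e =>
    hv (AddSubgroup.mem_bot.1 (e ▸ AddSubgroup.mem_top v : v ∈ (⊥ : AddSubgroup V)))
  obtain ⟨W, hW⟩ := Set.Finite.exists_minimal
    (s := {W : AddSubgroup V | W ≠ ⊥ ∧ ∀ x : X, ∀ v ∈ W, ρ x v ∈ W}) (Set.toFinite _)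
    ⟨⊤, htop, fun x u _ => AddSubgroup.mem_top _⟩
  exact ⟨W, hW.prop.1, hW.prop.2, fun W' h1 h2 h3 => le_antisymm h3 (hW.le_of_le ⟨h2, h1⟩ h3)⟩

theorem card_eq_sub_mul_quot (F W : AddSubgroup V) :
    Nat.card F = Nat.card (F ⊓ W : AddSubgroup V) * Nat.card (F.map (QuotientAddGroup.mk' W)) := by
  let f : F →+ (V ⧸ W) := (QuotientAddGroup.mk' W).comp F.subtype
  have hr : f.range = F.map (QuotientAddGroup.mk' W) := by
    rw [AddMonoidHom.range_comp, AddSubgroup.range_subtype]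
  have hk : Nat.card f.ker = Nat.card (F ⊓ W : AddSubgroup V) :=
    Nat.card_congr ⟨fun z => ⟨z.1, z.1.2, (QuotientAddGroup.eq_zero_iff _).1 z.2⟩,
      fun z => ⟨⟨z.1, z.2.1⟩, (QuotientAddGroup.eq_zero_iff _).2 z.2.2⟩, fun _ => rfl, fun _ => rfl⟩
  rw [← f.ker.card_mul_index, AddSubgroup.index_ker, hk, hr]

theorem card_inf_mul_range {Y : Type*} [Group Y] (A : Subgroup X) (f : X →* Y) :
    Nat.card A = Nat.card (A ⊓ f.ker : Subgroup X) * Nat.card (A.map f) := by
  let g : A →* Y := f.comp A.subtype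
  have hr : g.range = A.map f := by rw [MonoidHom.range_comp, range_subtype]
  have hk : Nat.card g.ker = Nat.card (A ⊓ f.ker : Subgroup X) :=
    Nat.card_congr ⟨fun z => ⟨z.1, z.1.2, z.2⟩, fun z => ⟨⟨z.1, z.2.1⟩, z.2.2⟩, fun _ => rfl, fun _ => rfl⟩
  rw [← g.ker.card_mul_index, index_ker, hk, hr]

/-- The cost of a quadratic subgroup modulo the kernel of the chief factors. -/
theorem cost : ∀ (V : Type v) [AddCommGroup V] [Finite V] (ρ : X →* AddMonoid.End V),
    (∀ v : V, v + v = 0) → S3Free X → ∀ A : Subgroup X, Quad ρ A →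
      A ≤ twoKer ρ ∨ Nat.card A * Nat.card (fixedPts ρ A) <
        Nat.card V * Nat.card (A ⊓ twoKer ρ : Subgroup X) := by
  suffices H : ∀ (n : ℕ) (V : Type v) [AddCommGroup V] [Finite V] (ρ : X →* AddMonoid.End V),
      Nat.card V < n → (∀ v : V, v + v = 0) → S3Free X → ∀ A : Subgroup X, Quad ρ A →
        A ≤ twoKer ρ ∨ Nat.card A * Nat.card (fixedPts ρ A) <
          Nat.card V * Nat.card (A ⊓ twoKer ρ : Subgroup X) from
    fun V _ _ ρ => H (Nat.card V + 1) V ρ (Nat.lt_succ_self _)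
  intro n
  induction n with
  | zero => intro V _ _ ρ h; omega
  | succ n ih =>
    intro V _ _ ρ hn hV2 hS A hq
    by_cases hne : ∃ v : V, v ≠ 0
    swap
    · push Not at hne
      exact Or.inl fun a _ => ker_le_twoKer ρ (AddMonoidHom.ext fun v => (hne _).trans (hne v).symm)
    obtain ⟨W, hWb, hW, hmin⟩ := exists_minimal_inv ρ hne
    set σ := subRep ρ W hW with hσ
    set τ := quotRep ρ W hW with hτ
    set K := twoKer σ with hK
    have hKker : K = σ.ker := twoKer_sub_eq_ker hV2 hWb hmin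
    set F := fixedPts ρ A
    set A' := A ⊓ K with hA'
    have hqτ : Quad τ A' := fun a ha v => QuotientAddGroup.induction_on v fun w b hb =>
      congrArg QuotientAddGroup.mk (hq a ha.1 w b hb.1)
    have hlt : Nat.card (V ⧸ W) < Nat.card V := by
      rw [W.card_eq_card_quotient_mul_card_addSubgroup]
      exact lt_mul_of_one_lt_right Nat.card_pos (W.one_lt_card_iff_ne_bot.2 hWb)
    have hF : Nat.card F ≤ Nat.card (F ⊓ W : AddSubgroup V) * Nat.card (fixedPts τ A') := by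
      rw [card_eq_sub_mul_quot F W]
      refine Nat.mul_le_mul_left _ (AddSubgroup.card_le_of_le ?_)
      rintro _ ⟨v, hv, rfl⟩ a ha
      exact congrArg QuotientAddGroup.mk (hv a ha.1)
    have hVW : Nat.card V = Nat.card (V ⧸ W) * Nat.card W := W.card_eq_card_quotient_mul_card_addSubgroup
    have hinf : A' ⊓ twoKer τ = A ⊓ twoKer ρ := by
      refine le_antisymm (fun a ha => ⟨ha.1.1, inf_twoKer_le hV2 ⟨ha.1.2, ha.2⟩⟩)
        fun a ha => ⟨⟨ha.1, twoKer_le_sub ha.2⟩, twoKer_le_quot ha.2⟩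
    have hquot : A' ≤ twoKer τ ∨ Nat.card A' * Nat.card (fixedPts τ A') <
        Nat.card (V ⧸ W) * Nat.card (A' ⊓ twoKer τ : Subgroup X) :=
      ih (V ⧸ W) τ (by omega)
        (fun v => QuotientAddGroup.induction_on v fun w => congrArg QuotientAddGroup.mk (hV2 w)) hS A' hqτ
    have hquot' : Nat.card A' * Nat.card (fixedPts τ A') ≤
        Nat.card (V ⧸ W) * Nat.card (A ⊓ twoKer ρ : Subgroup X) := by
      rw [← hinf]
      rcases hquot with h | h
      · rw [inf_eq_left.2 h, mul_comm]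
        exact Nat.mul_le_mul_right _ (Nat.card_le_card_of_injective _ Subtype.val_injective)
      · exact h.le
    by_cases hAK : A ≤ K
    · have e : A' = A := inf_eq_left.2 hAK
      rcases hquot with h | h
      · exact Or.inl (e ▸ fun a ha => inf_twoKer_le hV2 ⟨ha.2, h ha⟩)
      · rw [hinf, e] at h
        refine Or.inr ?_
        rw [e] at hF
        calc Nat.card A * Nat.card F ≤
              Nat.card A * (Nat.card (F ⊓ W : AddSubgroup V) * Nat.card (fixedPts τ A)) :=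
              Nat.mul_le_mul_left _ hF
          _ = Nat.card (F ⊓ W : AddSubgroup V) * (Nat.card A * Nat.card (fixedPts τ A)) := by ring
          _ < Nat.card (F ⊓ W : AddSubgroup V) * (Nat.card (V ⧸ W) * Nat.card (A ⊓ twoKer ρ : Subgroup X)) :=
              Nat.mul_lt_mul_of_pos_left h Nat.card_pos
          _ ≤ Nat.card W * (Nat.card (V ⧸ W) * Nat.card (A ⊓ twoKer ρ : Subgroup X)) :=
              Nat.mul_le_mul_right _ (AddSubgroup.card_le_of_le inf_le_right)
          _ = Nat.card V * Nat.card (A ⊓ twoKer ρ : Subgroup X) := by rw [hVW]; ring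
    · refine Or.inr ?_
      set π := QuotientGroup.mk' σ.ker
      have hbot : A.map π ≠ ⊥ := by
        intro e
        refine hAK fun a ha => ?_
        rw [hKker]
        exact (QuotientGroup.eq_one_iff a).1 (Subgroup.mem_bot.1 (e ▸ mem_map_of_mem π ha))
      have hO : Cfsg.pCore 2 (X ⧸ σ.ker) = ⊥ := by
        apply comap_injective (QuotientGroup.mk'_surjective σ.ker)
        rw [MonoidHom.comap_bot, QuotientGroup.ker_mk']
        exact hKker
      have hq' : Quad (faithRep σ) (A.map π) := by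
        rintro _ ⟨a, ha, rfl⟩ w _ ⟨b, hb, rfl⟩
        exact Subtype.ext (hq a ha (w : V) b hb)
      have hfix : fixedPts (faithRep σ) (A.map π) = (F ⊓ W).addSubgroupOf W := by
        ext w
        refine ⟨fun h => ⟨fun a ha => congrArg Subtype.val (h _ (mem_map_of_mem π ha)), w.2⟩, ?_⟩
        rintro h _ ⟨a, ha, rfl⟩
        exact Subtype.ext (h.1 a ha)
      have hoff : Nat.card (A.map π) * Nat.card (F ⊓ W : AddSubgroup V) < Nat.card W := by
        by_contra hle
        push Not at hle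
        refine no_quadratic_offender (faithRep σ) faithRep_eq_one (fun v => Subtype.ext (hV2 v)) hO
          (hS.of_surjective _ (QuotientGroup.mk'_surjective _)) hbot hq' ?_
        refine Nat.le_of_mul_le_mul_left ?_ (Nat.card_pos (α := fixedPts (faithRep σ) (A.map π)))
        rw [AddSubgroup.card_mul_index, hfix,
          Nat.card_congr (AddSubgroup.addSubgroupOfEquivOfLe inf_le_right).toEquiv, mul_comm]
        exact hle
      have hA : Nat.card A = Nat.card A' * Nat.card (A.map π) := by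
        rw [card_inf_mul_range A π, QuotientGroup.ker_mk', hA', hKker]
      have hpos : 0 < Nat.card A' * Nat.card (fixedPts τ A') := Nat.mul_pos Nat.card_pos Nat.card_pos
      calc Nat.card A * Nat.card F ≤
            Nat.card A * (Nat.card (F ⊓ W : AddSubgroup V) * Nat.card (fixedPts τ A')) :=
            Nat.mul_le_mul_left _ hF
        _ = (Nat.card (A.map π) * Nat.card (F ⊓ W : AddSubgroup V)) *
            (Nat.card A' * Nat.card (fixedPts τ A')) := by rw [hA]; ring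
        _ < Nat.card W * (Nat.card A' * Nat.card (fixedPts τ A')) := Nat.mul_lt_mul_of_pos_right hoff hpos
        _ ≤ Nat.card W * (Nat.card (V ⧸ W) * Nat.card (A ⊓ twoKer ρ : Subgroup X)) :=
            Nat.mul_le_mul_left _ hquot'
        _ = Nat.card V * Nat.card (A ⊓ twoKer ρ : Subgroup X) := by rw [hVW]; ring

end CfsgLib.SFour
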