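import Cfsg.Agent.Lib.SFour.Basic
import Mathlib.LinearAlgebra.Dual.Lemmas
import Mathlib.Algebra.Field.ZMod

set_option autoImplicit false
set_option linter.unusedSectionVars false
set_option linter.style.haveILetI false

/-! Configurations `(T, U, Y)` on a 2-module and the two centralizer lemmas. -/

namespace CfsgLib.SFour

open Subgroup CfsgLib.Techniques CfsgLib.Techniques.SThree

universe u v

variable {X : Type u} [Group X] {V : Type v} [AddCommGroup V]

/-- An abelian subgroup mapping every vector outside `U` onto `U / Y`. -/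
structure Config (ρ : X →* AddMonoid.End V) (T : Subgroup X) (U Y : AddSubgroup V) : Prop where
  inv : ∀ t ∈ T, ∀ v, ρ t v - v ∈ U
  inv' : ∀ t ∈ T, ∀ u ∈ U, ρ t u - u ∈ Y
  fixed : fixedPts ρ T = Y
  le : Y ≤ U
  ne_top : U ≠ ⊤
  comm : ∀ s ∈ T, ∀ t ∈ T, s * t = t * s
  sq : ∀ t ∈ T, t * t = 1
  faith : ∀ a, a ∉ U → ∀ t ∈ T, ρ t a - a ∈ Y → ρ t = 1
  surj : ∀ a, a ∉ U → ∀ u ∈ U, ∃ t ∈ T, ρ t a - a - u ∈ Y
  big : U.index ^ 2 * Nat.card Y < Nat.card U

variable {ρ : X →* AddMonoid.End V} {T : Subgroup X} {U Y : AddSubgroup V}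

namespace Config

theorem fixY (h : Config ρ T U Y) {t : X} (ht : t ∈ T) {y : V} (hy : y ∈ Y) : ρ t y = y :=
  (h.fixed.ge hy : y ∈ fixedPts ρ T) t ht

theorem exists_not_mem (h : Config ρ T U Y) : ∃ a, a ∉ U := by
  by_contra! hall
  exact h.ne_top (eq_top_iff.2 fun a _ => hall a)

theorem quad_sub (h : Config ρ T U Y) {W : AddSubgroup V} {hW : ∀ x : X, ∀ v ∈ W, ρ x v ∈ W}
    (hWU : W ≤ U) : Quad (subRep ρ W hW) T := fun t ht w s hs =>
  Subtype.ext (h.fixY hs (h.inv' t ht (w : V) (hWU w.2)))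

theorem move_comm (h : Config ρ T U Y) {s t : X} (hs : s ∈ T) (ht : t ∈ T) (v : V) :
    ρ s (ρ t v - v) - (ρ t v - v) = ρ t (ρ s v - v) - (ρ s v - v) := by
  rw [map_sub, map_sub, ← act_mul, ← act_mul, h.comm s hs t ht]
  abel

theorem sq_fix (h : Config ρ T U Y) (hV2 : ∀ v : V, v + v = 0) {t : X} (ht : t ∈ T) (v : V) :
    ρ t (ρ t v - v) = ρ t v - v := by
  rw [map_sub, ← act_mul, h.sq t ht, act_one, ← neg_sub (ρ t v) v, neg_eq_of_add_eq_zero_left (hV2 _)]

theorem move_mul (h : Config ρ T U Y) {s t : X} (hs : s ∈ T) (ht : t ∈ T) (v : V) :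
    ρ (s * t) v - v - ((ρ s v - v) + (ρ t v - v)) ∈ Y := by
  have e : ρ (s * t) v - v - ((ρ s v - v) + (ρ t v - v)) = ρ s (ρ t v - v) - (ρ t v - v) := by
    rw [act_mul, map_sub]; abel
  rw [e]
  exact h.inv' s hs _ (h.inv t ht v)

theorem card_eq [Finite X] [Finite V] (h : Config ρ T U Y) :
    Nat.card U * Nat.card (T ⊓ ρ.ker : Subgroup X) = Nat.card T * Nat.card Y := by
  obtain ⟨a, ha⟩ := h.exists_not_mem
  let Y' := Y.addSubgroupOf U
  let φ : T →* Multiplicative (U ⧸ Y') :=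
    { toFun := fun t => Multiplicative.ofAdd (QuotientAddGroup.mk (⟨ρ t a - a, h.inv t t.2 a⟩ : U))
      map_one' := by
        refine Multiplicative.toAdd.injective ((QuotientAddGroup.eq_zero_iff _).2 ?_)
        show ρ 1 a - a ∈ Y
        rw [act_one, sub_self]
        exact zero_mem _
      map_mul' := fun s t => by
        refine Multiplicative.toAdd.injective ?_
        show (QuotientAddGroup.mk _ : U ⧸ Y') = QuotientAddGroup.mk _ + QuotientAddGroup.mk _
        rw [← QuotientAddGroup.mk_add, QuotientAddGroup.eq_iff_sub_mem]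
        exact h.move_mul s.2 t.2 a }
  have hk : Nat.card φ.ker = Nat.card (T ⊓ ρ.ker : Subgroup X) := by
    have hmem : ∀ t : T, t ∈ φ.ker ↔ ρ t = 1 := fun t => by
      constructor
      · intro hφ
        have e : (QuotientAddGroup.mk (⟨ρ t a - a, h.inv t t.2 a⟩ : U) : U ⧸ Y') = 0 :=
          congrArg Multiplicative.toAdd (MonoidHom.mem_ker.1 hφ)
        exact h.faith a ha t t.2 ((QuotientAddGroup.eq_zero_iff (N := Y') _).1 e)
      · intro ht
        refine (QuotientAddGroup.eq_zero_iff _).2 ?_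
        show ρ (t : X) a - a ∈ Y
        rw [ht, AddMonoid.End.coe_one, id_eq, sub_self]
        exact zero_mem _
    exact Nat.card_congr ⟨fun z => ⟨z.1, z.1.2, (hmem z.1).1 z.2⟩,
      fun z => ⟨⟨z.1, z.2.1⟩, (hmem _).2 z.2.2⟩, fun _ => rfl, fun _ => rfl⟩
  have htop : φ.range = ⊤ := eq_top_iff.2 fun q _ => by
    obtain ⟨u, hu⟩ := QuotientAddGroup.mk_surjective q.toAdd
    obtain ⟨t, ht, htu⟩ := h.surj a ha u u.2
    refine ⟨⟨t, ht⟩, Multiplicative.toAdd.injective ?_⟩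
    rw [← hu]
    exact QuotientAddGroup.eq_iff_sub_mem.2 htu
  have h1 := φ.ker.card_mul_index
  rw [index_ker, hk, htop, card_top, Nat.card_congr Multiplicative.toAdd] at h1
  rw [Y'.card_eq_card_quotient_mul_card_addSubgroup,
    Nat.card_congr (AddSubgroup.addSubgroupOfEquivOfLe h.le).toEquiv, ← h1]
  ring

theorem ker_bot [Finite X] (hρ : ∀ x, ρ x = 1 → x = 1) : ρ.ker = ⊥ :=
  eq_bot_iff.2 fun x hx => mem_bot.2 (hρ x hx)

theorem card_eq_of_faithful [Finite X] [Finite V] (h : Config ρ T U Y) (hρ : ∀ x, ρ x = 1 → x = 1) :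
    Nat.card U = Nat.card T * Nat.card Y := by
  have := h.card_eq
  rwa [ker_bot hρ, inf_bot_eq, card_bot, mul_one] at this

theorem big_of_faithful [Finite X] [Finite V] (h : Config ρ T U Y) (hρ : ∀ x, ρ x = 1 → x = 1) :
    U.index ^ 2 < Nat.card T := by
  have h1 := h.big
  rw [h.card_eq_of_faithful hρ] at h1
  exact Nat.lt_of_mul_lt_mul_right h1

theorem exists_move [Finite X] [Finite V] (h : Config ρ T U Y) : ∃ t ∈ T, ρ t ≠ 1 := by
  by_contra! hall
  have hle : T ⊓ ρ.ker = T := inf_eq_left.2 fun t ht => hall t ht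
  have h1 := h.card_eq
  rw [hle, mul_comm (Nat.card T)] at h1
  have h2 := h.big
  rw [Nat.eq_of_mul_eq_mul_right Nat.card_pos h1] at h2
  have h3 : 1 ≤ U.index ^ 2 := Nat.one_le_pow _ _ (Nat.pos_of_ne_zero AddSubgroup.index_ne_zero_of_finite)
  nlinarith [Nat.card_pos (α := Y)]

theorem exists_fix [Finite X] [Finite V] (h : Config ρ T U Y) (hV2 : ∀ v : V, v + v = 0) {u : V}
    (hu : u ∈ U) : ∃ t ∈ T, ρ t ≠ 1 ∧ ρ t u = u := by
  by_cases huY : u ∈ Y
  · obtain ⟨t, ht, ht1⟩ := h.exists_move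
    exact ⟨t, ht, ht1, h.fixY ht huY⟩
  obtain ⟨a, ha⟩ := h.exists_not_mem
  obtain ⟨t, ht, htu⟩ := h.surj a ha u hu
  refine ⟨t, ht, fun h1 => huY ?_, ?_⟩
  · rw [h1, AddMonoid.End.coe_one, id_eq, sub_self, zero_sub] at htu
    simpa using neg_mem htu
  · have e : u = (ρ t a - a) - (ρ t a - a - u) := by abel
    rw [e, map_sub, h.sq_fix hV2 ht, h.fixY ht htu]

theorem comp {X' : Type u} [Group X'] (h : Config ρ T U Y) (f : X' →* X) {T' : Subgroup X'}
    (hf : Function.Injective f) (hT : T'.map f = T) : Config (ρ.comp f) T' U Y where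
  inv := fun t ht => h.inv _ (hT.le ⟨t, ht, rfl⟩)
  inv' := fun t ht => h.inv' _ (hT.le ⟨t, ht, rfl⟩)
  fixed := by rw [fixedPts_comp, hT, h.fixed]
  le := h.le
  ne_top := h.ne_top
  comm := fun s hs t ht => hf (by rw [map_mul, map_mul, h.comm _ (hT.le ⟨s, hs, rfl⟩) _ (hT.le ⟨t, ht, rfl⟩)])
  sq := fun t ht => hf (by rw [map_mul, h.sq _ (hT.le ⟨t, ht, rfl⟩), map_one])
  faith := fun a ha t ht => h.faith a ha _ (hT.le ⟨t, ht, rfl⟩)
  surj := fun a ha u hu => by
    obtain ⟨t, ht, e⟩ := h.surj a ha u hu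
    obtain ⟨t', ht', rfl⟩ := hT.ge ht
    exact ⟨t', ht', e⟩
  big := h.big

theorem image {X' : Type u} [Group X'] {ρ' : X' →* AddMonoid.End V} (h : Config ρ T U Y) (f : X →* X')
    (hf : ∀ t ∈ T, ρ' (f t) = ρ t) : Config ρ' (T.map f) U Y where
  inv := by rintro _ ⟨t, ht, rfl⟩ v; rw [hf t ht]; exact h.inv t ht v
  inv' := by rintro _ ⟨t, ht, rfl⟩ v hv; rw [hf t ht]; exact h.inv' t ht v hv
  fixed := by
    rw [← h.fixed]
    ext v
    exact ⟨fun hv t ht => by rw [← hf t ht]; exact hv _ (mem_map_of_mem f ht),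
      fun hv t' ht' => by obtain ⟨t, ht, rfl⟩ := ht'; rw [hf t ht]; exact hv t ht⟩
  le := h.le
  ne_top := h.ne_top
  comm := by rintro _ ⟨s, hs, rfl⟩ _ ⟨t, ht, rfl⟩; rw [← map_mul, ← map_mul, h.comm s hs t ht]
  sq := by rintro _ ⟨t, ht, rfl⟩; rw [← map_mul, h.sq t ht, map_one]
  faith := by rintro a ha _ ⟨t, ht, rfl⟩ h1; rw [hf t ht] at h1 ⊢; exact h.faith a ha t ht h1
  surj := fun a ha u hu => by
    obtain ⟨t, ht, e⟩ := h.surj a ha u hu
    exact ⟨f t, mem_map_of_mem f ht, by rw [hf t ht]; exact e⟩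
  big := h.big

theorem map_mem_iff (ρ : X →* AddMonoid.End V) (g : X) (A : AddSubgroup V) {v : V} :
    v ∈ A.map (ρ g : V →+ V) ↔ ρ g⁻¹ v ∈ A := by
  refine ⟨?_, fun h => ⟨_, h, act_cancel_inv ρ g v⟩⟩
  rintro ⟨w, hw, rfl⟩
  exact (congrArg (· ∈ A) (act_inv_cancel ρ g w)).mpr hw

theorem card_map (ρ : X →* AddMonoid.End V) (g : X) (A : AddSubgroup V) :
    Nat.card (A.map (ρ g : V →+ V)) = Nat.card A :=
  (Nat.card_congr (A.equivMapOfInjective (ρ g : V →+ V)
    fun a b e => (act_inv_cancel ρ g a).symm.trans ((congrArg (ρ g⁻¹) e).trans (act_inv_cancel ρ g b))).toEquiv).symm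

theorem conj [Finite V] (h : Config ρ T U Y) (g : X) :
    Config ρ (T.map (MulAut.conj g).toMonoidHom) (U.map (ρ g : V →+ V)) (Y.map (ρ g : V →+ V)) := by
  have key : ∀ t v, ρ g⁻¹ (ρ ((MulAut.conj g).toMonoidHom t) v - v) = ρ t (ρ g⁻¹ v) - ρ g⁻¹ v := by
    intro t v
    show ρ g⁻¹ (ρ (g * t * g⁻¹) v - v) = _
    rw [map_sub, ← act_mul, show g⁻¹ * (g * t * g⁻¹) = t * g⁻¹ by group, act_mul]
  refine ⟨?_, ?_, ?_, AddSubgroup.map_mono h.le, ?_, ?_, ?_, ?_, ?_, ?_⟩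
  · rintro _ ⟨t, ht, rfl⟩ v
    rw [map_mem_iff, key]; exact h.inv t ht _
  · rintro _ ⟨t, ht, rfl⟩ v hv
    rw [map_mem_iff] at hv ⊢
    rw [key]; exact h.inv' t ht _ hv
  · ext v
    rw [map_mem_iff, ← h.fixed, ← act_mem_fixedPts_conj ρ T g, act_cancel_inv]
  · intro e
    obtain ⟨a, ha⟩ := h.exists_not_mem
    have := (map_mem_iff ρ g U).1 (e ▸ AddSubgroup.mem_top (ρ g a) : ρ g a ∈ U.map (ρ g : V →+ V))
    rw [act_inv_cancel] at this
    exact ha this
  · rintro _ ⟨s, hs, rfl⟩ _ ⟨t, ht, rfl⟩; rw [← map_mul, ← map_mul, h.comm s hs t ht]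
  · rintro _ ⟨t, ht, rfl⟩; rw [← map_mul, h.sq t ht, map_one]
  · rintro a ha _ ⟨t, ht, rfl⟩ h1
    rw [map_mem_iff] at ha
    rw [map_mem_iff, key] at h1
    show ρ (g * t * g⁻¹) = 1
    rw [map_mul, map_mul, h.faith _ ha t ht h1, mul_one, ← map_mul, mul_inv_cancel, map_one]
  · intro a ha u hu
    rw [map_mem_iff] at ha hu
    obtain ⟨t, ht, e⟩ := h.surj _ ha _ hu
    refine ⟨_, mem_map_of_mem _ ht, ?_⟩
    rw [map_mem_iff, map_sub, key]
    exact e
  · have hidx : (U.map (ρ g : V →+ V)).index = U.index := by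
      refine Nat.eq_of_mul_eq_mul_left (Nat.card_pos (α := U)) ?_
      rw [U.card_mul_index, ← card_map ρ g U]
      exact (U.map (ρ g : V →+ V)).card_mul_index
    rw [card_map, card_map, hidx]
    exact h.big

theorem restrict [Finite X] [Finite V] (h : Config ρ T U Y) {W : AddSubgroup V}
    {hW : ∀ x : X, ∀ v ∈ W, ρ x v ∈ W} (hWU : ¬ W ≤ U) :
    Config (subRep ρ W hW) T (U.addSubgroupOf W) (Y.addSubgroupOf W) := by
  obtain ⟨a, haW, haU⟩ := SetLike.not_le_iff_exists.1 hWU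
  have hinv : ∀ t ∈ T, ∀ w : W, (subRep ρ W hW t w - w) ∈ U.addSubgroupOf W :=
    fun t ht w => h.inv t ht (w : V)
  have hfaith : ∀ b : W, b ∉ U.addSubgroupOf W → ∀ t ∈ T, (subRep ρ W hW t b - b) ∈ Y.addSubgroupOf W →
      ρ t = 1 := fun b hb t ht h1 => h.faith (b : V) hb t ht h1
  have hsurj : ∀ b : W, b ∉ U.addSubgroupOf W → ∀ u ∈ U.addSubgroupOf W, ∃ t ∈ T,
      subRep ρ W hW t b - b - u ∈ Y.addSubgroupOf W := fun b hb u hu => h.surj (b : V) hb (u : V) hu
  refine ⟨hinv, fun t ht u hu => h.inv' t ht (u : V) hu, ?_, fun w hw => h.le hw, ?_, h.comm, h.sq,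
    fun b hb t ht h1 => AddMonoidHom.ext fun w => Subtype.ext (DFunLike.congr_fun (hfaith b hb t ht h1) (w : V)),
    hsurj, ?_⟩
  · ext w
    show (∀ t ∈ T, subRep ρ W hW t w = w) ↔ (w : V) ∈ Y
    rw [← h.fixed]
    exact ⟨fun hw t ht => congrArg Subtype.val (hw t ht), fun hw t ht => Subtype.ext (hw t ht)⟩
  · exact fun e => haU (e ▸ AddSubgroup.mem_top (⟨a, haW⟩ : W) : (⟨a, haW⟩ : W) ∈ U.addSubgroupOf W)
  · have e1 : Nat.card (U.addSubgroupOf W) = Nat.card (U ⊓ W : AddSubgroup V) :=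
      Nat.card_congr ⟨fun z => ⟨z.1.1, z.2, z.1.2⟩, fun z => ⟨⟨z.1, z.2.2⟩, z.2.1⟩, fun _ => rfl, fun _ => rfl⟩
    have e2 : Nat.card (Y.addSubgroupOf W) = Nat.card (Y ⊓ W : AddSubgroup V) :=
      Nat.card_congr ⟨fun z => ⟨z.1.1, z.2, z.1.2⟩, fun z => ⟨⟨z.1, z.2.2⟩, z.2.1⟩, fun _ => rfl, fun _ => rfl⟩
    have hcard : Nat.card U * Nat.card (Y ⊓ W : AddSubgroup V) =
        Nat.card (U ⊓ W : AddSubgroup V) * Nat.card Y := by
      let f : (U ⊓ W : AddSubgroup V) × Y → U := fun z => ⟨(z.1 : V) + z.2, add_mem z.1.2.1 (h.le z.2.2)⟩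
      let F : (U ⊓ W : AddSubgroup V) × Y →+ U :=
        { toFun := f
          map_zero' := Subtype.ext (add_zero _)
          map_add' := fun p q => Subtype.ext (add_add_add_comm (p.1 : V) q.1 p.2 q.2) }
      have hsur : F.range = ⊤ := eq_top_iff.2 fun u _ => by
        obtain ⟨t, ht, e⟩ := h.surj a haU u u.2
        refine ⟨(⟨ρ t a - a, h.inv t ht a, AddSubgroup.sub_mem _ (hW t a haW) haW⟩,
          ⟨-(ρ t a - a - u), neg_mem e⟩), Subtype.ext ?_⟩
        show ρ t a - a + -(ρ t a - a - u) = (u : V)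
        abel
      have hk : Nat.card F.ker = Nat.card (Y ⊓ W : AddSubgroup V) :=
        Nat.card_congr
          ⟨fun z => ⟨z.1.1, by
              have e : (z.1.1 : V) + z.1.2 = 0 := congrArg Subtype.val z.2
              exact (eq_neg_of_add_eq_zero_left e).symm ▸ Y.neg_mem z.1.2.2, z.1.1.2.2⟩,
            fun z => ⟨(⟨z, h.le z.2.1, z.2.2⟩, ⟨-(z : V), Y.neg_mem z.2.1⟩), Subtype.ext (add_neg_cancel (z : V))⟩,
            fun z => by
              have e : (z.1.1 : V) + z.1.2 = 0 := congrArg Subtype.val z.2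
              exact Subtype.ext (Prod.ext rfl (Subtype.ext (neg_eq_of_add_eq_zero_right e))),
            fun _ => rfl⟩
      have h1 := F.ker.card_mul_index
      rw [AddSubgroup.index_ker, hk, hsur, AddSubgroup.card_top, Nat.card_prod] at h1
      rw [← h1, mul_comm]
    have hidx : (U.addSubgroupOf W).index ≤ U.index :=
      Nat.le_of_dvd (Nat.pos_of_ne_zero AddSubgroup.index_ne_zero_of_finite)
        (AddSubgroup.relIndex_dvd_index_of_normal U W)
    rw [e1, e2]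
    refine Nat.lt_of_mul_lt_mul_right (a := Nat.card Y) ?_
    calc (U.addSubgroupOf W).index ^ 2 * Nat.card (Y ⊓ W : AddSubgroup V) * Nat.card Y
        ≤ U.index ^ 2 * Nat.card Y * Nat.card (Y ⊓ W : AddSubgroup V) := by
          rw [mul_right_comm]
          exact Nat.mul_le_mul_right _ (Nat.mul_le_mul_right _ (Nat.pow_le_pow_left hidx 2))
      _ < Nat.card U * Nat.card (Y ⊓ W : AddSubgroup V) := Nat.mul_lt_mul_of_pos_right h.big Nat.card_pos
      _ = Nat.card (U ⊓ W : AddSubgroup V) * Nat.card Y := hcard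

end Config

theorem card_addHom_zmod_two (E : Type v) [AddCommGroup E] [Finite E] (h2 : ∀ e : E, e + e = 0) :
    Nat.card (E →+ ZMod 2) ≤ Nat.card E := by
  haveI : Fact (Nat.Prime 2) := ⟨Nat.prime_two⟩
  letI : Module (ZMod 2) E := AddCommGroup.zmodModule fun g => by rw [two_nsmul]; exact h2 g
  haveI : Finite (E →ₗ[ZMod 2] ZMod 2) := Finite.of_injective _ DFunLike.coe_injective
  refine (Nat.card_le_card_of_injective (AddMonoidHom.toZModLinearMap 2 (M := E) (M₁ := ZMod 2))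
    (AddMonoidHom.toZModLinearMap_injective 2)).trans (le_of_eq ?_)
  rw [Module.natCard_eq_pow_finrank (K := ZMod 2) (V := E →ₗ[ZMod 2] ZMod 2),
    Module.natCard_eq_pow_finrank (K := ZMod 2) (V := E)]
  congr 1
  exact Subspace.dual_finrank_eq

variable [Finite X] [Finite V]

/-- A subgroup moving every vector outside `F` onto `F` moves at least the index of `F`. -/
theorem card_pencil (hV2 : ∀ v : V, v + v = 0) {F : AddSubgroup V} (hF : F ≠ ⊥)
    (h1 : ∀ t ∈ T, ∀ v, ρ t v - v ∈ F) (h2 : ∀ t ∈ T, ∀ f ∈ F, ρ t f = f)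
    (h3 : ∀ v, v ∉ F → ∀ f ∈ F, ∃ t ∈ T, ρ t v - v = f) :
    Nat.card V * Nat.card (T ⊓ ρ.ker : Subgroup X) ≤ Nat.card T * Nat.card F := by
  haveI : Fact (Nat.Prime 2) := ⟨Nat.prime_two⟩
  have hF2 : ∀ f : F, f + f = 0 := fun f => Subtype.ext (hV2 f)
  letI : Module (ZMod 2) F := AddCommGroup.zmodModule fun g => by rw [two_nsmul]; exact hF2 g
  obtain ⟨f₀, hf₀, hf₀'⟩ : ∃ f ∈ F, f ≠ (0 : V) := by
    by_contra hall
    push Not at hall
    exact hF (eq_bot_iff.2 fun v hv => AddSubgroup.mem_bot.2 (hall v hv))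
  obtain ⟨φ, hφ⟩ : ∃ φ : Module.Dual (ZMod 2) F, φ ⟨f₀, hf₀⟩ ≠ 0 := by
    by_contra! hall
    exact hf₀' (congrArg Subtype.val ((Module.forall_dual_apply_eq_zero_iff (ZMod 2) _).1 hall))
  let D : T →* Multiplicative (V →+ F) :=
    { toFun := fun t => Multiplicative.ofAdd
        { toFun := fun v => ⟨ρ t v - v, h1 t t.2 v⟩
          map_zero' := Subtype.ext (by show ρ (t : X) 0 - 0 = 0; rw [map_zero, sub_zero])
          map_add' := fun v w => Subtype.ext (by
            show ρ (t : X) (v + w) - (v + w) = (ρ (t : X) v - v) + (ρ (t : X) w - w)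
            rw [map_add]; abel) }
      map_one' := by
        refine Multiplicative.toAdd.injective (AddMonoidHom.ext fun v => Subtype.ext ?_)
        show ρ 1 v - v = 0
        rw [act_one, sub_self]
      map_mul' := fun s t => by
        refine Multiplicative.toAdd.injective (AddMonoidHom.ext fun v => Subtype.ext ?_)
        show ρ ((s : X) * t) v - v = (ρ s v - v) + (ρ t v - v)
        have h := h2 s s.2 _ (h1 t t.2 v)
        rw [map_sub, ← act_mul] at h
        rw [← h]; abel }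
  have hk : Nat.card D.ker = Nat.card (T ⊓ ρ.ker : Subgroup X) := by
    have hmem : ∀ t : T, t ∈ D.ker ↔ ρ t = 1 := fun t => by
      refine ⟨fun h => AddMonoidHom.ext fun v => sub_eq_zero.1
        (congrArg Subtype.val (DFunLike.congr_fun (congrArg Multiplicative.toAdd h) v)), fun h => ?_⟩
      refine Multiplicative.toAdd.injective (AddMonoidHom.ext fun v => Subtype.ext ?_)
      show ρ (t : X) v - v = 0
      rw [h, AddMonoid.End.coe_one, id_eq, sub_self]
    exact Nat.card_congr ⟨fun z => ⟨z.1, z.1.2, (hmem z.1).1 z.2⟩,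
      fun z => ⟨⟨z.1, z.2.1⟩, (hmem _).2 z.2.2⟩, fun _ => rfl, fun _ => rfl⟩
  let E : AddSubgroup (V →+ F) := D.range.toAddSubgroup'
  have hE : Nat.card T = Nat.card (T ⊓ ρ.ker : Subgroup X) * Nat.card E := by
    rw [← D.ker.card_mul_index, index_ker, hk]
    rfl
  haveI : Finite (V →+ F) := Finite.of_injective _ DFunLike.coe_injective
  haveI : Finite (E →+ ZMod 2) := Finite.of_injective _ DFunLike.coe_injective
  let Φ : V →+ (E →+ ZMod 2) :=
    { toFun := fun v =>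
        { toFun := fun e => φ ((e : V →+ F) v)
          map_zero' := map_zero φ
          map_add' := fun e e' => map_add φ _ _ }
      map_zero' := AddMonoidHom.ext fun e => by
        show φ ((e : V →+ F) 0) = 0
        rw [map_zero, map_zero]
      map_add' := fun v w => AddMonoidHom.ext fun e => by
        show φ ((e : V →+ F) (v + w)) = φ ((e : V →+ F) v) + φ ((e : V →+ F) w)
        rw [map_add, map_add] }
  have hker : Φ.ker ≤ F := fun v hv => by
    by_contra hvF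
    obtain ⟨t, ht, e⟩ := h3 v hvF f₀ hf₀
    have h0 : φ ((Multiplicative.toAdd (D ⟨t, ht⟩)) v) = 0 :=
      DFunLike.congr_fun hv (⟨Multiplicative.toAdd (D ⟨t, ht⟩), ⟨⟨t, ht⟩, rfl⟩⟩ : E)
    exact hφ ((congrArg φ (Subtype.ext e.symm)).trans h0)
  have hcV : Nat.card V ≤ Nat.card F * Nat.card E := by
    rw [← Φ.ker.card_mul_index, AddSubgroup.index_ker]
    refine Nat.mul_le_mul (AddSubgroup.card_le_of_le hker) ?_
    exact (Nat.card_le_card_of_injective _ Subtype.val_injective).trans (card_addHom_zmod_two E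
      (fun e => Subtype.ext (AddMonoidHom.ext fun v => hF2 ((e : V →+ F) v))))
  calc Nat.card V * Nat.card (T ⊓ ρ.ker : Subgroup X)
      ≤ Nat.card F * Nat.card E * Nat.card (T ⊓ ρ.ker : Subgroup X) := Nat.mul_le_mul_right _ hcV
    _ = Nat.card T * Nat.card F := by rw [hE]; ring

/-- The conjugates of a subgroup moving every vector outside `F` onto `F` normalise `F`. -/
theorem pencil (hS : S3Free X) : ∀ (V : Type v) [AddCommGroup V] [Finite V] (ρ : X →* AddMonoid.End V),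
    (∀ v : V, v + v = 0) → ∀ F : AddSubgroup V, (∀ t ∈ T, ∀ v, ρ t v - v ∈ F) →
      (∀ t ∈ T, ∀ f ∈ F, ρ t f = f) → (∀ v, v ∉ F → ∀ f ∈ F, ∃ t ∈ T, ρ t v - v = f) →
      normalClosure (T : Set X) ≤ setStab ρ F := by
  suffices H : ∀ (n : ℕ) (V : Type v) [AddCommGroup V] [Finite V] (ρ : X →* AddMonoid.End V),
      Nat.card V < n → (∀ v : V, v + v = 0) → ∀ F : AddSubgroup V, (∀ t ∈ T, ∀ v, ρ t v - v ∈ F) →
        (∀ t ∈ T, ∀ f ∈ F, ρ t f = f) → (∀ v, v ∉ F → ∀ f ∈ F, ∃ t ∈ T, ρ t v - v = f) →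
        normalClosure (T : Set X) ≤ setStab ρ F from
    fun V _ _ ρ => H (Nat.card V + 1) V ρ (Nat.lt_succ_self _)
  intro n
  induction n with
  | zero => intro V _ _ ρ h; omega
  | succ n ih =>
    intro V _ _ ρ hn hV2 F h1 h2 h3
    by_cases hFb : F = ⊥
    · intro x _ v hv
      rw [hFb, AddSubgroup.mem_bot] at hv ⊢
      rw [hv, map_zero]
    by_cases hFt : F = ⊤
    · exact fun x _ v _ => hFt ▸ AddSubgroup.mem_top _
    obtain ⟨v₀, hv₀⟩ : ∃ v, v ∉ F := by
      by_contra! hall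
      exact hFt (eq_top_iff.2 fun a _ => hall a)
    obtain ⟨f₀, hf₀, hf₀'⟩ : ∃ f ∈ F, f ≠ (0 : V) := by
      by_contra hall
      push Not at hall
      exact hFb (eq_bot_iff.2 fun v hv => AddSubgroup.mem_bot.2 (hall v hv))
    have hfix : fixedPts ρ T = F := le_antisymm (fun v hv => by
      by_contra hvF
      obtain ⟨t, ht, e⟩ := h3 v hvF f₀ hf₀
      exact hf₀' (e.symm.trans (sub_eq_zero.2 (hv t ht)))) fun f hf t ht => h2 t ht f hf
    obtain ⟨t₁, ht₁, ht₁'⟩ : ∃ t ∈ T ⊓ twoKer ρ, ρ t ≠ 1 := by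
      by_contra! hall
      rcases cost V ρ hV2 hS T (fun t ht v => hfix.ge (h1 t ht v)) with hle | hlt
      · obtain ⟨t, ht, e⟩ := h3 v₀ hv₀ f₀ hf₀
        rw [hall t ⟨ht, hle ht⟩, AddMonoid.End.coe_one, id_eq, sub_self] at e
        exact hf₀' e.symm
      · have he : T ⊓ twoKer ρ = T ⊓ ρ.ker :=
          le_antisymm (fun t ht => ⟨ht.1, hall t ht⟩) (inf_le_inf_left _ (ker_le_twoKer ρ))
        rw [hfix, he] at hlt
        exact absurd (card_pencil hV2 hFb h1 h2 h3) hlt.not_ge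
    set Z := fixedPts ρ (twoKer ρ)
    have hZ : ∀ x : X, ∀ v ∈ Z, ρ x v ∈ Z := fixedPts_inv inferInstance
    have hZt : Z ≠ ⊤ := fun e => ht₁' (AddMonoidHom.ext fun v =>
      (e ▸ AddSubgroup.mem_top v : v ∈ Z) t₁ ht₁.2)
    by_cases hZF : Z ≤ F
    · obtain ⟨z, hz0, hz⟩ := exists_fixed_twoKer (ρ := ρ) hV2 (v₀ := f₀) hf₀'
      have hlt : Nat.card (V ⧸ Z) < Nat.card V := by
        rw [Z.card_eq_card_quotient_mul_card_addSubgroup]
        refine lt_mul_of_one_lt_right Nat.card_pos (Z.one_lt_card_iff_ne_bot.2 fun e => hz0 ?_)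
        exact AddSubgroup.mem_bot.1 (e ▸ hz)
      have hq := ih (V ⧸ Z) (quotRep ρ Z hZ) (by omega)
        (fun v => QuotientAddGroup.induction_on v fun w => congrArg QuotientAddGroup.mk (hV2 w))
        (F.map (QuotientAddGroup.mk' Z))
        (fun t ht v => QuotientAddGroup.induction_on v fun w => ⟨_, h1 t ht w, rfl⟩)
        (by rintro t ht _ ⟨f, hf, rfl⟩; exact congrArg QuotientAddGroup.mk (h2 t ht f hf))
        (by
          intro v
          refine QuotientAddGroup.induction_on v fun w hw => ?_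
          rintro _ ⟨f, hf, rfl⟩
          obtain ⟨t, ht, e⟩ := h3 w (fun h => hw ⟨w, h, rfl⟩) f hf
          exact ⟨t, ht, congrArg QuotientAddGroup.mk e⟩)
      intro x hx v hv
      obtain ⟨f, hf, e⟩ := hq hx _ (AddSubgroup.mem_map_of_mem _ hv)
      have h4 : -f + ρ x v ∈ Z := QuotientAddGroup.eq.1 e
      have h5 := F.add_mem hf (hZF h4)
      rwa [add_neg_cancel_left] at h5
    · obtain ⟨v₁, hv₁, hv₁'⟩ := SetLike.not_le_iff_exists.1 hZF
      have hFZ : F ≤ Z := fun f hf => by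
        obtain ⟨t, ht, e⟩ := h3 v₁ hv₁' f hf
        exact e ▸ Z.sub_mem (hZ t v₁ hv₁) hv₁
      have hlt : Nat.card Z < Nat.card V := lt_of_le_of_ne
        (Nat.card_le_card_of_injective _ Subtype.val_injective)
        fun e => hZt (AddSubgroup.eq_top_of_card_eq Z e)
      have hq := ih Z (subRep ρ Z hZ) (by omega) (fun v => Subtype.ext (hV2 v)) (F.addSubgroupOf Z)
        (fun t ht v => h1 t ht (v : V)) (fun t ht f hf => Subtype.ext (h2 t ht (f : V) hf))
        (fun v hv f hf => by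
          obtain ⟨t, ht, e⟩ := h3 (v : V) hv (f : V) hf
          exact ⟨t, ht, Subtype.ext e⟩)
      exact fun x hx v hv => hq hx ⟨v, hFZ hv⟩ hv

namespace Config

/-- The conjugates of `T` under the centralizer of one of its nontrivial elements normalise `U`. -/
theorem stab_of_central (h : Config ρ T U Y) (hV2 : ∀ v : V, v + v = 0) (hS : S3Free X) {t : X}
    (ht : t ∈ T) (ht1 : ρ t ≠ 1) (hc : ∀ x, x * t = t * x) :
    normalClosure (T : Set X) ≤ setStab ρ U := by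
  let d : V →+ V :=
    { toFun := fun v => ρ t v - v
      map_zero' := by rw [map_zero, sub_zero]
      map_add' := fun v w => by rw [map_add]; abel }
  have hd : ∀ x v, ρ x (d v) = d (ρ x v) := fun x v => by
    show ρ x (ρ t v - v) = ρ t (ρ x v) - ρ x v
    rw [map_sub, ← act_mul, ← act_mul, hc]
  have hI : ∀ x : X, ∀ w ∈ d.range, ρ x w ∈ d.range := by
    rintro x _ ⟨v, rfl⟩
    exact ⟨ρ x v, (hd x v).symm⟩
  have key := pencil (T := T) hS d.range (subRep ρ d.range hI) (fun v => Subtype.ext (hV2 v))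
    ((U.map d).addSubgroupOf d.range) ?_ ?_ ?_
  · intro x hx u hu
    obtain ⟨u', hu', e⟩ := key hx ⟨d u, u, rfl⟩ ⟨u, hu, rfl⟩
    have e1 : d (ρ x u) = d u' := (hd x u).symm.trans e.symm
    by_contra hxu
    refine ht1 (h.faith (ρ x u - u') (fun hm => hxu ?_) t ht ?_)
    · simpa using U.add_mem hm hu'
    · show d (ρ x u - u') ∈ Y
      rw [map_sub, e1, sub_self]
      exact zero_mem _
  · rintro s hs ⟨_, v, rfl⟩
    exact ⟨ρ s v - v, h.inv s hs v, (h.move_comm hs ht v).symm⟩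
  · rintro s hs ⟨_, -⟩ ⟨u, hu, rfl⟩
    exact Subtype.ext (h.fixY hs (h.inv' t ht u hu))
  · rintro ⟨_, a, rfl⟩ ha ⟨_, -⟩ ⟨u, hu, rfl⟩
    obtain ⟨s, hs, e⟩ := h.surj a (fun haU => ha ⟨a, haU, rfl⟩) u hu
    refine ⟨s, hs, Subtype.ext ?_⟩
    show ρ s (d a) - d a = d u
    have e2 : d (ρ s a - a - u) = 0 := sub_eq_zero.2 (h.fixY ht e)
    rw [map_sub, sub_eq_zero, map_sub] at e2
    rw [hd, ← e2]

end Config

/-- The elements moving `A` into `B`. -/
def moveSub (ρ : X →* AddMonoid.End V) (A B : AddSubgroup V) (hA : ∀ x : X, ∀ v ∈ A, ρ x v ∈ A)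
    (hB : ∀ x : X, ∀ v ∈ B, ρ x v ∈ B) : Subgroup X where
  carrier := {x | ∀ v ∈ A, ρ x v - v ∈ B}
  mul_mem' := fun {x y} hx hy v hv => by
    have e : ρ (x * y) v - v = (ρ x (ρ y v) - ρ y v) + (ρ y v - v) := by rw [act_mul]; abel
    rw [e]
    exact add_mem (hx _ (hA y v hv)) (hy v hv)
  one_mem' := fun v _ => by rw [act_one, sub_self]; exact zero_mem _
  inv_mem' := fun {x} hx v hv => by
    have e : ρ x⁻¹ v - v = -(ρ x⁻¹ (ρ x v - v)) := by rw [map_sub, act_inv_cancel]; abel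
    rw [e]
    exact neg_mem (hB _ _ (hx v hv))

theorem moveSub_normal {A B : AddSubgroup V} {hA : ∀ x : X, ∀ v ∈ A, ρ x v ∈ A}
    {hB : ∀ x : X, ∀ v ∈ B, ρ x v ∈ B} : (moveSub ρ A B hA hB).Normal := ⟨fun x hx g v hv => by
  have e : ρ (g * x * g⁻¹) v - v = ρ g (ρ x (ρ g⁻¹ v) - ρ g⁻¹ v) := by
    rw [map_sub, act_cancel_inv, act_mul, act_mul]
  rw [e]
  exact hB g _ (hx _ (hA _ v hv))⟩

theorem sq_move (hV2 : ∀ v : V, v + v = 0) {y : X} {A B C : AddSubgroup V}
    (h1 : ∀ v ∈ A, ρ y v - v ∈ B) (h2 : ∀ v ∈ B, ρ y v - v ∈ C) :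
    ∀ v ∈ A, ρ (y * y) v - v ∈ C := fun v hv => by
  have h := h2 _ (h1 v hv)
  have e : ρ y (ρ y v - v) - (ρ y v - v) = ρ (y * y) v - v - ((ρ y v - v) + (ρ y v - v)) := by
    rw [map_sub, act_mul]; abel
  rwa [e, hV2, sub_zero] at h

namespace Config

theorem le_pCore_of_central (h : Config ρ T U Y) (hV2 : ∀ v : V, v + v = 0) (hS : S3Free X)
    (hρ : ∀ x, ρ x = 1 → x = 1) (hU : ∀ x : X, ∀ v ∈ U, ρ x v ∈ U)
    (hc : ∀ t ∈ T ⊓ Cfsg.pCore 2 X, ∀ x : X, x * t = t * x) : T ≤ Cfsg.pCore 2 X := by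
  set T₀ := T ⊓ Cfsg.pCore 2 X with hT₀
  set W₂ := AddSubgroup.closure {w | ∃ t ∈ T₀, ∃ v, ρ t v - v = w}
  set W₁ := AddSubgroup.closure {w | ∃ t ∈ T₀, ∃ v ∈ U, ρ t v - v = w}
  have hmove : ∀ t ∈ T₀, ∀ x v, ρ x (ρ t v - v) = ρ t (ρ x v) - ρ x v := fun t ht x v => by
    rw [map_sub, ← act_mul, ← act_mul, hc t ht]
  have hW₂ : ∀ x : X, ∀ v ∈ W₂, ρ x v ∈ W₂ := fun x v hv => by
    induction hv using AddSubgroup.closure_induction with
    | mem w hw =>
      obtain ⟨t, ht, v, rfl⟩ := hw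
      exact AddSubgroup.subset_closure ⟨t, ht, ρ x v, (hmove t ht x v).symm⟩
    | zero => rw [map_zero]; exact zero_mem _
    | add a b _ _ ha hb => rw [map_add]; exact add_mem ha hb
    | neg a _ ha => rw [map_neg]; exact neg_mem ha
  have hW₁ : ∀ x : X, ∀ v ∈ W₁, ρ x v ∈ W₁ := fun x v hv => by
    induction hv using AddSubgroup.closure_induction with
    | mem w hw =>
      obtain ⟨t, ht, v, hvU, rfl⟩ := hw
      exact AddSubgroup.subset_closure ⟨t, ht, ρ x v, hU x v hvU, (hmove t ht x v).symm⟩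
    | zero => rw [map_zero]; exact zero_mem _
    | add a b _ _ ha hb => rw [map_add]; exact add_mem ha hb
    | neg a _ ha => rw [map_neg]; exact neg_mem ha
  have hW₂U : W₂ ≤ U := (AddSubgroup.closure_le _).2 (by
    rintro _ ⟨t, ht, v, rfl⟩; exact h.inv t ht.1 v)
  have hW₁Y : W₁ ≤ Y := (AddSubgroup.closure_le _).2 (by
    rintro _ ⟨t, ht, v, hv, rfl⟩; exact h.inv' t ht.1 v hv)
  have htop : ∀ x : X, ∀ v ∈ (⊤ : AddSubgroup V), ρ x v ∈ (⊤ : AddSubgroup V) :=
    fun _ _ _ => AddSubgroup.mem_top _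
  have hbot : ∀ x : X, ∀ v ∈ (⊥ : AddSubgroup V), ρ x v ∈ (⊥ : AddSubgroup V) := fun x v hv => by
    rw [AddSubgroup.mem_bot] at hv ⊢; rw [hv, map_zero]
  set N := moveSub ρ ⊤ U htop hU ⊓ moveSub ρ W₂ W₁ hW₂ hW₁ ⊓ moveSub ρ W₁ ⊥ hW₁ hbot
  haveI : N.Normal := by
    haveI h1 := moveSub_normal (ρ := ρ) (hA := htop) (hB := hU)
    haveI h2 := moveSub_normal (ρ := ρ) (hA := hW₂) (hB := hW₁)
    haveI h3 := moveSub_normal (ρ := ρ) (hA := hW₁) (hB := hbot)
    infer_instance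
  have hTN : T ≤ N := fun s hs => by
    refine ⟨⟨fun v _ => h.inv s hs v, ?_⟩, fun v hv => ?_⟩
    · show W₂ ≤ SThree.moveInto ρ s W₁
      refine (AddSubgroup.closure_le _).2 ?_
      rintro _ ⟨t, ht, v, rfl⟩
      exact AddSubgroup.subset_closure ⟨t, ht, ρ s v - v, h.inv s hs v, (h.move_comm hs ht.1 v).symm⟩
    · rw [AddSubgroup.mem_bot, sub_eq_zero]
      exact h.fixY hs (hW₁Y hv)
  set σ := subRep ρ U hU
  set τ := quotRep σ (W₂.addSubgroupOf U) (fun x v hv => hW₂ x (v : V) hv)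
  have hker : N ⊓ twoKer τ ≤ Cfsg.pCore 2 X := by
    refine CfsgLib.PCore.le_pCore inferInstance fun z => ?_
    obtain ⟨k, hk⟩ := exists_pow_of_mem_twoKer z.2.2
    set y := (z : X) ^ 2 ^ k with hy
    have hyN : y ∈ N := pow_mem z.2.1 _
    have h2 : ∀ v ∈ U, ρ y v - v ∈ W₂ := fun v hv => by
      have e : (QuotientAddGroup.mk (σ y ⟨v, hv⟩) : U ⧸ W₂.addSubgroupOf U) = QuotientAddGroup.mk ⟨v, hv⟩ :=
        DFunLike.congr_fun hk (QuotientAddGroup.mk (⟨v, hv⟩ : U))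
      exact (QuotientAddGroup.eq_iff_sub_mem (N := W₂.addSubgroupOf U)).1 e
    have h4 : ∀ v ∈ (⊤ : AddSubgroup V), ρ (y * y * (y * y)) v - v ∈ (⊥ : AddSubgroup V) :=
      sq_move hV2 (sq_move hV2 hyN.1.1 h2) (sq_move hV2 hyN.1.2 hyN.2)
    refine ⟨k + 2, Subtype.ext ?_⟩
    show (z : X) ^ 2 ^ (k + 2) = 1
    refine hρ _ (AddMonoidHom.ext fun v => ?_)
    rw [pow_add, pow_mul, ← hy, show (2 : ℕ) ^ 2 = 2 + 2 by norm_num, pow_add, pow_two]
    exact sub_eq_zero.1 (AddSubgroup.mem_bot.1 (h4 v (AddSubgroup.mem_top v)))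
  rcases cost _ τ (fun v => QuotientAddGroup.induction_on v fun w =>
      congrArg QuotientAddGroup.mk (Subtype.ext (hV2 w))) hS T (fun t ht v =>
      QuotientAddGroup.induction_on v fun w s hs =>
        congrArg QuotientAddGroup.mk (h.quad_sub le_rfl t ht w s hs)) with hle | hlt
  · exact fun t ht => hker ⟨hTN ht, hle ht⟩
  exfalso
  set Fx := fixedPts τ T
  have h1 : Nat.card (T ⊓ twoKer τ : Subgroup X) ≤ Nat.card T₀ :=
    Subgroup.card_le_of_le fun t ht => ⟨ht.1, hker ⟨hTN ht.1, ht.2⟩⟩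
  obtain ⟨a, ha⟩ := h.exists_not_mem
  let g : T₀ × Y → Fx.comap (QuotientAddGroup.mk' (W₂.addSubgroupOf U)) := fun z =>
    ⟨⟨(ρ (z.1 : X) a - a) + z.2, add_mem (h.inv _ z.1.2.1 a) (h.le z.2.2)⟩, fun s hs => by
      show (QuotientAddGroup.mk (σ s ⟨_, _⟩) : U ⧸ W₂.addSubgroupOf U) = QuotientAddGroup.mk _
      refine QuotientAddGroup.eq_iff_sub_mem.2 ?_
      show ρ s ((ρ (z.1 : X) a - a) + z.2) - ((ρ (z.1 : X) a - a) + z.2) ∈ W₂
      rw [map_add, h.fixY hs z.2.2, add_sub_add_right_eq_sub]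
      exact W₂.sub_mem (hW₂ s _ (AddSubgroup.subset_closure ⟨_, z.1.2, a, rfl⟩))
        (AddSubgroup.subset_closure ⟨_, z.1.2, a, rfl⟩)⟩
  have hg : Function.Injective g := by
    rintro ⟨⟨t, ht⟩, y⟩ ⟨⟨s, hs⟩, y'⟩ e
    have e0 : (ρ t a - a) + (y : V) = (ρ s a - a) + (y' : V) :=
      congrArg (fun w => ((w : U) : V)) (congrArg Subtype.val e)
    have hst : ρ (t * s) a - a ∈ Y := by
      have h5 := h.move_mul ht.1 hs.1 a
      have h6 : (ρ t a - a) + (ρ s a - a) ∈ Y := by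
        have : (ρ t a - a) + (ρ s a - a) = ((ρ s a - a) + (ρ s a - a)) + ((y' : V) - y) := by
          rw [show ρ t a - a = (ρ s a - a) + (y' : V) - y from eq_sub_of_add_eq e0]; abel
        rw [this, hV2, zero_add]
        exact sub_mem y'.2 y.2
      simpa using add_mem h5 h6
    have hts : t = s := by
      have h7 := hρ _ (h.faith a ha _ (mul_mem ht.1 hs.1) hst)
      calc t = t * (s * s) := by rw [h.sq s hs.1, mul_one]
        _ = s := by rw [← mul_assoc, h7, one_mul]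
    subst hts
    exact Prod.ext rfl (Subtype.ext (add_left_cancel e0))
  have h2 : Nat.card T₀ * Nat.card Y ≤ Nat.card Fx * Nat.card (W₂.addSubgroupOf U) := by
    rw [← Nat.card_prod, ← SThree.card_preimage (W₂.addSubgroupOf U) Fx]
    exact Nat.card_le_card_of_injective g hg
  have h3 := h.card_eq_of_faithful hρ
  rw [(W₂.addSubgroupOf U).card_eq_card_quotient_mul_card_addSubgroup] at h3
  have h4 : Nat.card T * Nat.card Fx * Nat.card (W₂.addSubgroupOf U) <
      Nat.card T * (Nat.card T₀ * Nat.card Y) :=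
    calc Nat.card T * Nat.card Fx * Nat.card (W₂.addSubgroupOf U)
        < Nat.card (U ⧸ W₂.addSubgroupOf U) * Nat.card (T ⊓ twoKer τ : Subgroup X) *
            Nat.card (W₂.addSubgroupOf U) := Nat.mul_lt_mul_of_pos_right hlt Nat.card_pos
      _ ≤ Nat.card (U ⧸ W₂.addSubgroupOf U) * Nat.card T₀ * Nat.card (W₂.addSubgroupOf U) :=
          Nat.mul_le_mul_right _ (Nat.mul_le_mul_left _ h1)
      _ = Nat.card T₀ * (Nat.card (U ⧸ W₂.addSubgroupOf U) * Nat.card (W₂.addSubgroupOf U)) := by ring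
      _ = Nat.card T * (Nat.card T₀ * Nat.card Y) := by rw [h3]; ring
  exact absurd (Nat.mul_le_mul_left (Nat.card T) h2) (by rw [← mul_assoc (Nat.card T) (Nat.card Fx)]; exact h4.not_ge)

end Config

end CfsgLib.SFour
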