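import Cfsg.Agent.Lib.SFour.GSpace

/-!
The group part: the endomorphism `tau = p + p⁻¹` of `D'/Y`, the elements of `O₂(G)` commuting with `p`,
and the decomposition of a normal 2-subgroup.
-/

set_option autoImplicit false
set_option linter.unusedSectionVars false
set_option linter.style.haveILetI false

namespace CfsgLib.SFour

open Subgroup
open CfsgLib.LLemma (cg mem_cg cg_cg cg_one cg_le_iff cg_eq_of_mem card_cg)
open scoped commutatorElement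

universe u

variable {G : Type u} [Group G] [Finite G] {P : Sylow 2 G} {N : Subgroup G} {a p : G}

namespace GSetting

variable (h : GSetting P N a p)
include h

theorem a_notD : a ∉ gD N p := fun hd => h.a_notR hd.2

theorem a_conj_p : a * p = p⁻¹ * a := by rw [← h.inverted]; group

theorem p_a : p * a = a * p⁻¹ := by
  refine eq_mul_inv_iff_mul_eq.2 ?_
  rw [mul_assoc, h.a_conj_p, mul_inv_cancel_left]

theorem fixed_a {w : GW N p} (hw : h.act a h.a_L w = w) : w ∈ gPW N p := by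
  obtain ⟨r, hr, rfl⟩ := cl_surj w
  obtain ⟨d, hd, f, hf, rfl⟩ := h.exists_mul hr
  rw [cl_mul (h.D_R0 hd) (h.D'_R0 hf), map_add, h.act_N_D h.a_mem (h.cl_mem_PW hd), h.act_N h.a_mem hf] at hw
  have h1 := h.faith h.a_mem h.a_notD hf ((h.cl_eq_zero_iff (h.D_R0 (h.comm_D (h.D'_le_R hf) h.a_mem))).1
    (add_eq_right.1 (add_left_cancel hw)))
  rw [cl_mul (h.D_R0 hd) (h.D'_R0 hf), h.cl_Y h1, add_zero]
  exact h.cl_mem_PW hd

/-- `a` moved by `p`. -/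
theorem b_mem : p * a * p⁻¹ ∈ cg N p := ⟨a, h.a_mem, rfl⟩

theorem fixed_b {w : GW N p} (hw : h.act (p * a * p⁻¹) (mem_sup_right h.b_mem) w = w) : w ∈ gQW N p := by
  have hbD : p * a * p⁻¹ ∉ gD' N p := by
    rintro ⟨d, hd, e⟩
    have e' : d = a := (MulAut.conj p).injective e
    exact h.a_notD (e' ▸ hd)
  obtain ⟨r, hr, rfl⟩ := cl_surj w
  obtain ⟨d, hd, f, hf, rfl⟩ := h.exists_mul hr
  rw [cl_mul (h.D_R0 hd) (h.D'_R0 hf), map_add, h.act_N'_D' h.b_mem (h.cl_mem_QW hf), h.act_N' h.b_mem hd,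
    add_left_inj] at hw
  have h1 := h.faith' h.b_mem hbD hd ((h.cl_eq_zero_iff (h.D'_R0 (h.comm_D' hd.2 h.b_mem))).1
    (add_eq_right.1 hw))
  rw [cl_mul (h.D_R0 hd) (h.D'_R0 hf), h.cl_Y h1, zero_add]
  exact h.cl_mem_QW hf

/-- `p + p⁻¹` on the module. -/
noncomputable def tauW : GW N p →+ GW N p :=
  (h.act p h.p_mem : GW N p →+ GW N p) + (h.act p⁻¹ (inv_mem h.p_mem) : GW N p →+ GW N p)

theorem tauW_apply (w : GW N p) : h.tauW w = h.act p h.p_mem w + h.act p⁻¹ (inv_mem h.p_mem) w := rfl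

theorem tauW_inverting {l : G} (hl : l ∈ pairGroup N p) (hinv : l * p = p⁻¹ * l) (w : GW N p) :
    h.act l hl (h.tauW w) = h.tauW (h.act l hl w) := by
  have hinv' : l * p⁻¹ = p * l := by
    calc l * p⁻¹ = p * (p⁻¹ * l) * p⁻¹ := by group
      _ = p * l := by rw [← hinv]; group
  rw [h.tauW_apply, h.tauW_apply, map_add, h.act_act, h.act_act, h.act_act, h.act_act, add_comm]
  exact congrArg₂ (· + ·) (h.act_congr _ (mul_mem h.p_mem hl) hinv' w)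
    (h.act_congr _ (mul_mem (inv_mem h.p_mem) hl) hinv w)

theorem tauW_QW {w : GW N p} (hw : w ∈ gQW N p) : h.tauW w ∈ gQW N p := by
  refine h.fixed_b ?_
  have hinv : p * a * p⁻¹ * p = p⁻¹ * (p * a * p⁻¹) := by
    rw [inv_mul_cancel_right, ← mul_assoc, ← mul_assoc, inv_mul_cancel, one_mul, h.p_a]
  rw [h.tauW_inverting _ hinv, h.act_N'_D' h.b_mem hw]

theorem tauW_cl {x : G} (hx : x ∈ gR0 N p) :
    h.tauW (cl N p x) = cl N p ((p * x * p⁻¹) * (p⁻¹ * x * p)) := by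
  rw [h.tauW_apply, h.act_cl _ hx, h.act_cl _ hx, inv_inv, cl_mul (h.conj_R0 h.p_mem hx)]
  have h1 := h.conj_R0 (inv_mem h.p_mem) hx
  rwa [inv_inv] at h1

theorem conj_R0' {x : G} (hx : x ∈ gR0 N p) : p⁻¹ * x * p ∈ gR0 N p := by
  have h1 := h.conj_R0 (inv_mem h.p_mem) hx
  rwa [inv_inv] at h1

theorem exists_tau (f : G) : ∃ g : G, f ∈ gD' N p → g ∈ gD' N p ∧ cl N p g = h.tauW (cl N p f) := by
  by_cases hf : f ∈ gD' N p
  · obtain ⟨g, hg, e⟩ := h.exists_QW (h.tauW_QW (h.cl_mem_QW hf))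
    exact ⟨g, fun _ => ⟨hg, e⟩⟩
  · exact ⟨1, fun h' => absurd h' hf⟩

/-- `tau` on `D'`. -/
noncomputable def tau (f : G) : G := (h.exists_tau f).choose

theorem tau_mem {f : G} (hf : f ∈ gD' N p) : h.tau f ∈ gD' N p := ((h.exists_tau f).choose_spec hf).1

theorem cl_tau {f : G} (hf : f ∈ gD' N p) : cl N p (h.tau f) = h.tauW (cl N p f) :=
  ((h.exists_tau f).choose_spec hf).2

theorem tau_mul {f g : G} (hf : f ∈ gD' N p) (hg : g ∈ gD' N p) :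
    (h.tau (f * g))⁻¹ * (h.tau f * h.tau g) ∈ gY N p := by
  rw [← h.cl_eq_iff (h.D'_R0 (h.tau_mem (mul_mem hf hg))) (h.D'_R0 (mul_mem (h.tau_mem hf) (h.tau_mem hg))),
    h.cl_tau (mul_mem hf hg), cl_mul (h.D'_R0 (h.tau_mem hf)) (h.D'_R0 (h.tau_mem hg)), h.cl_tau hf,
    h.cl_tau hg, cl_mul (h.D'_R0 hf) (h.D'_R0 hg), map_add]

theorem comm_congr {x x' y : G} (hx : x ∈ gR0 N p) (hx' : x' ∈ gR0 N p) (hy : y ∈ gR0 N p)
    (e : cl N p x = cl N p x') : ⁅x, y⁆ = ⁅x', y⁆ ∧ ⁅y, x⁆ = ⁅y, x'⁆ := by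
  have hc := (h.cl_eq_iff hx hx').1 e
  have hcy := h.Y_central hc (h.R0_le_L hy)
  have hx'e : x' = x * (x⁻¹ * x') := by rw [mul_inv_cancel_left]
  rw [hx'e]
  set c := x⁻¹ * x'
  constructor
  · rw [commutatorElement_def, commutatorElement_def, mul_inv_rev, mul_assoc x c y, hcy]
    group
  · rw [commutatorElement_def, commutatorElement_def, mul_inv_rev, ← mul_assoc y x c, mul_assoc (y * x) c y⁻¹,
      ← mul_assoc (y * x) c, mul_assoc (y * x) c, show c * y⁻¹ = y⁻¹ * c from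
        (h.Y_central hc (inv_mem (h.R0_le_L hy)))]
    group

theorem comm_conj {l x y : G} (hl : l ∈ pairGroup N p) (hx : x ∈ gR0 N p) (hy : y ∈ gR0 N p) :
    ⁅l * x * l⁻¹, l * y * l⁻¹⁆ = ⁅x, y⁆ := by
  rw [show ⁅l * x * l⁻¹, l * y * l⁻¹⁆ = l * ⁅x, y⁆ * l⁻¹ by simp only [commutatorElement_def]; group,
    h.conj_Y (h.comm_R0 hx hy) hl]

theorem tau_adj {f g : G} (hf : f ∈ gD' N p) (hg : g ∈ gD' N p) :
    ⁅h.tau f, ⁅g, a⁆⁆ = ⁅f, ⁅h.tau g, a⁆⁆ := by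
  set u := ⁅g, a⁆
  have hu : u ∈ gR0 N p := h.D_R0 (h.comm_D (h.D'_le_R hg) h.a_mem)
  have hfR := h.D'_R0 hf
  have hA : ∀ {x : G}, x ∈ gD' N p → cl N p ⁅x, a⁆ = h.act a h.a_L (cl N p x) + cl N p x := fun hx => by
    rw [h.act_N h.a_mem hx, add_assoc, h.two, add_zero]
  have eu : cl N p ⁅h.tau g, a⁆ = cl N p ((p * u * p⁻¹) * (p⁻¹ * u * p)) := by
    rw [hA (h.tau_mem hg), h.cl_tau hg, h.tauW_inverting _ h.a_conj_p, ← map_add, ← hA hg, h.tauW_cl hu]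
  have h1 : ⁅f, ⁅h.tau g, a⁆⁆ = ⁅f, (p * u * p⁻¹) * (p⁻¹ * u * p)⁆ :=
    (h.comm_congr (h.D_R0 (h.comm_D (h.D'_le_R (h.tau_mem hg)) h.a_mem))
      (mul_mem (h.conj_R0 h.p_mem hu) (h.conj_R0' hu)) hfR eu).2
  have h2 : ⁅h.tau f, u⁆ = ⁅(p * f * p⁻¹) * (p⁻¹ * f * p), u⁆ :=
    (h.comm_congr (h.D'_R0 (h.tau_mem hf)) (mul_mem (h.conj_R0 h.p_mem hfR) (h.conj_R0' hfR)) hu
      ((h.cl_tau hf).trans (h.tauW_cl hfR))).1
  have e1 : ⁅p⁻¹ * f * p, u⁆ = ⁅f, p * u * p⁻¹⁆ := by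
    rw [← h.comm_conj h.p_mem (h.conj_R0' hfR) hu]; congr 1; group
  have e2 : ⁅p * f * p⁻¹, u⁆ = ⁅f, p⁻¹ * u * p⁆ := by
    rw [← h.comm_conj (inv_mem h.p_mem) (h.conj_R0 h.p_mem hfR) hu, inv_inv]; congr 1; group
  have hconjR : ∀ {r y : G}, r ∈ gR0 N p → y ∈ gY N p → r * y * r⁻¹ = y := fun hr hy =>
    h.conj_Y hy (h.R0_le_L hr)
  have e3 : ∀ x y z : G, ⁅x * y, z⁆ = x * ⁅y, z⁆ * x⁻¹ * ⁅x, z⁆ := fun x y z => by
    simp only [commutatorElement_def]; group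
  have e4 : ∀ x y z : G, ⁅x, y * z⁆ = ⁅x, y⁆ * (y * ⁅x, z⁆ * y⁻¹) := fun x y z => by
    simp only [commutatorElement_def]; group
  rw [h1, h2, e3, hconjR (h.conj_R0 h.p_mem hfR) (h.comm_R0 (h.conj_R0' hfR) hu), e4,
    hconjR (h.conj_R0 h.p_mem hu) (h.comm_R0 hfR (h.conj_R0' hu)), e1, e2]

theorem act_pow {l : G} (hl : l ∈ pairGroup N p) {w : GW N p} (hw : h.act l hl w = w) (k : ℕ) :
    h.act (l ^ k) (pow_mem hl k) w = w := by
  induction k with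
  | zero => rw [h.act_congr _ (one_mem _) (pow_zero l), h.act_one_apply]
  | succ k ih =>
    rw [h.act_congr _ (mul_mem (pow_mem hl k) hl) (pow_succ l k), ← h.act_act (pow_mem hl k) hl, hw, ih]

/-- No fixed point of `p` in `D'/Y`. -/
theorem no_fixed {f : G} (hf : f ∈ gD' N p) (hfix : h.act p h.p_mem (cl N p f) = cl N p f) :
    f ∈ gY N p := by
  set w := cl N p f
  have hfix' : h.act p⁻¹ (inv_mem h.p_mem) w = w := by
    conv_lhs => rw [← hfix]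
    rw [h.act_act, h.act_congr _ (one_mem _) (inv_mul_cancel p), h.act_one_apply]
  set u := cl N p ⁅f, a⁆
  have huP : u ∈ gPW N p := h.cl_mem_PW (h.comm_D (h.D'_le_R hf) h.a_mem)
  have hu : h.act p h.p_mem u = u := by
    have hA : u = h.act a h.a_L w + w := by rw [h.act_N h.a_mem hf, add_assoc, h.two, add_zero]
    rw [hA, map_add, h.act_act, h.act_congr _ (mul_mem h.a_L (inv_mem h.p_mem)) h.p_a, ← h.act_act h.a_L (inv_mem h.p_mem), hfix', hfix]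
  have huQ : u ∈ gQW N p := by
    obtain ⟨d, hd, e⟩ := h.exists_PW huP
    rw [← hu, ← e, h.act_cl h.p_mem (h.D_R0 hd)]
    exact h.cl_mem_QW ⟨d, hd, rfl⟩
  exact h.faith h.a_mem h.a_notD hf ((h.cl_eq_zero_iff (h.D_R0 (h.comm_D (h.D'_le_R hf) h.a_mem))).1
    (h.PW_inf_QW huP huQ))

theorem fixed_of_pow {w : GW N p} {k : ℕ} (hk : Nat.Coprime k (orderOf p))
    (hw : h.act (p ^ k) (pow_mem h.p_mem k) w = w) : h.act p h.p_mem w = w := by
  obtain ⟨m, hm⟩ := exists_pow_eq_self_of_coprime hk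
  rw [h.act_congr h.p_mem (pow_mem (pow_mem h.p_mem k) m) hm.symm]
  exact h.act_pow _ hw m

theorem tau_inj {f : G} (hf : f ∈ gD' N p) (hY : h.tau f ∈ gY N p) : f ∈ gY N p := by
  refine h.no_fixed hf (h.fixed_of_pow (k := 2) (Nat.coprime_two_left.2 h.odd) ?_)
  set w := cl N p f
  have e : h.act p h.p_mem w + h.act p⁻¹ (inv_mem h.p_mem) w = 0 := by
    rw [← h.tauW_apply, ← h.cl_tau hf, h.cl_Y hY]
  have e' := eq_neg_of_add_eq_zero_left e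
  rw [h.neg_eq] at e'
  rw [h.act_congr _ (mul_mem h.p_mem h.p_mem) (pow_two p), ← h.act_act h.p_mem h.p_mem, e', h.act_act,
    h.act_congr _ (one_mem _) (mul_inv_cancel p), h.act_one_apply]

theorem tau_inj' {f : G} (hf : f ∈ gD' N p) (hY : h.tau f * f ∈ gY N p) : f ∈ gY N p := by
  refine h.no_fixed hf (h.fixed_of_pow (k := 3)
    ((Nat.coprime_primes Nat.prime_three h.prime).2 (Ne.symm h.not_three)) ?_)
  set w := cl N p f
  set w1 := h.act p h.p_mem w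
  set w2 := h.act p h.p_mem w1
  set w3 := h.act p h.p_mem w2
  have e : w1 + h.act p⁻¹ (inv_mem h.p_mem) w + w = 0 := by
    rw [← h.tauW_apply, ← h.cl_tau hf, ← cl_mul (h.D'_R0 (h.tau_mem hf)) (h.D'_R0 hf), h.cl_Y hY]
  have e1 : w2 + w + w1 = 0 := by
    have h1 := congrArg (h.act p h.p_mem) e
    rwa [map_zero, map_add, map_add, h.act_act h.p_mem (inv_mem h.p_mem),
      h.act_congr _ (one_mem _) (mul_inv_cancel p), h.act_one_apply] at h1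
  have e2 : w3 + w1 + w2 = 0 := by
    have h1 := congrArg (h.act p h.p_mem) e1
    rwa [map_zero, map_add, map_add] at h1
  have e3 : w3 = w := by
    have h1 : w3 + (w1 + w2) = w + (w1 + w2) := by
      rw [← add_assoc, e2, ← e1]; abel
    exact add_right_cancel h1
  rw [h.act_congr _ (mul_mem h.p_mem (mul_mem h.p_mem h.p_mem)) (by rw [pow_succ', pow_two]), ← h.act_act h.p_mem (mul_mem h.p_mem h.p_mem),
    ← h.act_act h.p_mem h.p_mem]
  exact e3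

theorem tau_normal {K : Subgroup G} (hK : K.Normal) {f : G} (hf : f ∈ gD' N p ⊓ K ⊔ gY N p) :
    h.tau f ∈ gD' N p ⊓ K ⊔ gY N p := by
  have hfD : f ∈ gD' N p := sup_le inf_le_left h.Y_le_D' hf
  obtain ⟨k, hk, y, hy, rfl⟩ := CfsgLib.Techniques.exists_mul_of_mem_sup (A := gD' N p ⊓ K) (B := gY N p)
    (fun x hx => CfsgLib.Techniques.map_conj_eq_self_iff.1 (h.cg_Y (h.R0_le_L (h.D'_R0 hx.1)))) hf
  set r0 := (p * k * p⁻¹) * (p⁻¹ * k * p)
  have hr0 : r0 ∈ gR0 N p := mul_mem (h.conj_R0 h.p_mem (h.D'_R0 hk.1)) (h.conj_R0' (h.D'_R0 hk.1))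
  have hr0K : r0 ∈ K := mul_mem (hK.conj_mem k hk.2 p) (by simpa using hK.conj_mem k hk.2 p⁻¹)
  have e : cl N p r0 = cl N p (h.tau (k * y)) := by
    rw [h.cl_tau hfD, cl_mul (h.D'_R0 hk.1) (h.Y_R0 hy), h.cl_Y hy, add_zero, h.tauW_cl (h.D'_R0 hk.1)]
  have hy' := (h.cl_eq_iff hr0 (h.D'_R0 (h.tau_mem hfD))).1 e
  have hr0D : r0 ∈ gD' N p := by
    simpa using mul_mem (h.tau_mem hfD) (inv_mem (h.Y_le_D' hy'))
  have := mul_mem (mem_sup_left (T := gY N p) (show r0 ∈ gD' N p ⊓ K from ⟨hr0D, hr0K⟩)) (mem_sup_right hy')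
  simpa using this

/-- The elements of `O₂(G)` commuting with `p` act on everything. -/
theorem z_conj {z : G} (hz : z ∈ Cfsg.pCore 2 G) (hzp : Commute z p) :
    cg (gD N p) z = gD N p ∧ cg (gD' N p) z = gD' N p ∧ cg (gY N p) z = gY N p := by
  haveI : Fact (Nat.Prime 2) := ⟨Nat.prime_two⟩
  have hzN : cg N z = N :=
    CfsgLib.Techniques.map_conj_eq_self_iff.2 (h.good.norm (pCore_le_sylow' P hz))
  have hzNp : cg (cg N p) z = cg N p := by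
    rw [cg_cg, hzp.eq, ← cg_cg, hzN]
  have hzL : cg (pairGroup N p) z = pairGroup N p := by
    show (N ⊔ cg N p).map _ = _
    rw [Subgroup.map_sup]
    exact congrArg₂ (· ⊔ ·) hzN hzNp
  have hzR : cg (pairCore N p) z = pairCore N p := by
    show cg (Cfsg.pCoreOf 2 _) z = _
    rw [← CfsgLib.LLemma.pCoreOf_cg, hzL]
  have hzD : cg (gD N p) z = gD N p := by
    show (N ⊓ pairCore N p).map _ = _
    rw [Subgroup.map_inf _ _ _ (MulAut.conj z).injective]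
    exact congrArg₂ (· ⊓ ·) hzN hzR
  refine ⟨hzD, ?_, ?_⟩
  · rw [gD', cg_cg, hzp.eq, ← cg_cg, hzD]
  · show (N ⊓ cg N p).map _ = _
    rw [Subgroup.map_inf _ _ _ (MulAut.conj z).injective]
    exact congrArg₂ (· ⊓ ·) hzN hzNp

theorem z_norm {z : G} (hz : z ∈ Cfsg.pCore 2 G) (hzp : Commute z p) {f : G} (hf : f ∈ gD' N p) :
    z * f * z⁻¹ ∈ gD' N p := (h.z_conj hz hzp).2.1.le ⟨f, hf, rfl⟩

theorem z_norm_Y {z : G} (hz : z ∈ Cfsg.pCore 2 G) (hzp : Commute z p) {y : G} (hy : y ∈ gY N p) :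
    z * y * z⁻¹ ∈ gY N p := (h.z_conj hz hzp).2.2.le ⟨y, hy, rfl⟩

theorem tau_fixed {z : G} (hz : z ∈ Cfsg.pCore 2 G) (hzp : Commute z p) {f : G} (hf : f ∈ gD' N p) :
    (h.tau (z * f * z⁻¹))⁻¹ * (z * h.tau f * z⁻¹) ∈ gY N p := by
  have hf' := h.z_norm hz hzp hf
  rw [← h.cl_eq_iff (h.D'_R0 (h.tau_mem hf')) (h.D'_R0 (h.z_norm hz hzp (h.tau_mem hf))), h.cl_tau hf',
    h.tauW_cl (h.D'_R0 hf')]
  set r := (p * f * p⁻¹) * (p⁻¹ * f * p)
  have hr : r ∈ gR0 N p := mul_mem (h.conj_R0 h.p_mem (h.D'_R0 hf)) (h.conj_R0' (h.D'_R0 hf))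
  have h1 := (h.cl_eq_iff hr (h.D'_R0 (h.tau_mem hf))).1 ((h.tauW_cl (h.D'_R0 hf)).symm.trans (h.cl_tau hf).symm)
  have e : (p * (z * f * z⁻¹) * p⁻¹) * (p⁻¹ * (z * f * z⁻¹) * p) = z * r * z⁻¹ := by
    have h2 : ∀ q : G, Commute z q → q * (z * f * z⁻¹) * q⁻¹ = z * (q * f * q⁻¹) * z⁻¹ := fun q hq => by
      rw [show q * (z * f * z⁻¹) * q⁻¹ = (q * z) * f * (q * z)⁻¹ by group, ← hq.eq]; group
    have h3 := h2 p⁻¹ hzp.inv_right
    rw [inv_inv] at h3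
    rw [h2 p hzp, h3]; simp only [r]; group
  rw [e]
  refine (h.cl_eq_iff ?_ (h.D'_R0 (h.z_norm hz hzp (h.tau_mem hf)))).2 ?_
  · rw [← e]; exact mul_mem (h.conj_R0 h.p_mem (h.D'_R0 hf')) (h.conj_R0' (h.D'_R0 hf'))
  · rw [show (z * r * z⁻¹)⁻¹ * (z * h.tau f * z⁻¹) = z * (r⁻¹ * h.tau f) * z⁻¹ by group]
    exact h.z_norm_Y hz hzp h1

theorem Q_inf_L : Cfsg.pCore 2 G ⊓ pairGroup N p ≤ pairCore N p :=
  haveI : Fact (Nat.Prime 2) := ⟨Nat.prime_two⟩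
  haveI : (Cfsg.pCore 2 G).Normal := Cfsg.pCore_normal 2 G
  CfsgLib.LLemma.le_pCoreOf inf_le_right
    (fun l hl => CfsgLib.Techniques.mem_normalizer_inf (normalizer_eq_top (Cfsg.pCore 2 G) ▸ mem_top l)
      (le_normalizer hl))
    ((CfsgLib.PCore.pCore_isPGroup (p := 2) (G := G)).to_le inf_le_left)

theorem a_fixed {z : G} (hz : z ∈ Cfsg.pCore 2 G) (hzp : Commute z p) : ⁅z, a⁆ ∈ gY N p := by
  haveI : (Cfsg.pCore 2 G).Normal := Cfsg.pCore_normal 2 G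
  set x := ⁅z, a⁆
  have hxN : x ∈ N := by
    simp only [x, commutatorElement_def]
    exact N.mul_mem ((mem_normalizer_iff.1 (h.good.norm (pCore_le_sylow' P hz)) a).1 h.a_mem)
      (N.inv_mem h.a_mem)
  have hxQ : x ∈ Cfsg.pCore 2 G := by
    simp only [x, commutatorElement_def, mul_assoc]
    exact mul_mem hz (by simpa [mul_assoc] using Subgroup.Normal.conj_mem inferInstance _ (inv_mem hz) a)
  have hxD : x ∈ gD N p := ⟨hxN, h.Q_inf_L ⟨hxQ, mem_sup_left hxN⟩⟩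
  have hfix : p * x * p⁻¹ = x := by
    have e1 : p * a * p⁻¹ = p * p * a := by rw [mul_assoc p a, ← h.p_a, ← mul_assoc]
    have hz2 : z * (p * p) = p * p * z := (hzp.mul_right hzp).eq
    have e2 : p * x * p⁻¹ = p * p * x * (p * p)⁻¹ := by
      calc p * x * p⁻¹ = ⁅p * z * p⁻¹, p * a * p⁻¹⁆ := by simp only [x, commutatorElement_def]; group
        _ = ⁅z, p * p * a⁆ := by rw [← hzp.eq, mul_inv_cancel_right, e1]
        _ = z * (p * p) * a * z⁻¹ * a⁻¹ * (p * p)⁻¹ := by simp only [commutatorElement_def]; group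
        _ = p * p * x * (p * p)⁻¹ := by rw [hz2]; simp only [x, commutatorElement_def]; group
    calc p * x * p⁻¹ = p⁻¹ * (p * p * x * (p * p)⁻¹) * p := by group
      _ = x := by rw [← e2]; group
  rw [← h.D_inf_D']
  exact ⟨hxD, hfix ▸ ⟨x, hxD, rfl⟩⟩

theorem mem_D_of_K {K : Subgroup G} (hK : K.Normal) (hKP : K ≤ (P : Subgroup G)) {u : G} (hu : u ∈ N)
    (huK : u ∈ K) : u ∈ gD N p :=
  haveI : Fact (Nat.Prime 2) := ⟨Nat.prime_two⟩
  ⟨hu, h.Q_inf_L ⟨CfsgLib.PCore.le_pCore hK (P.2.to_le hKP) huK, mem_sup_left hu⟩⟩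

/-- The shear of `v` maps `(D' ∩ K)Y` onto `(D ∩ K)Y`. -/
theorem surjK {K : Subgroup G} (hK : K.Normal) {v : G} (hv : v ∈ N) (hvD : v ∉ gD N p) {u : G}
    (hu : u ∈ gD N p) (huK : u ∈ K) : ∃ f ∈ gD' N p ⊓ K, cl N p ⁅f, v⁆ = cl N p u := by
  set SP : Set (GW N p) := cl N p '' ((gD N p ⊓ K : Subgroup G) : Set G)
  set SQ : Set (GW N p) := cl N p '' ((gD' N p ⊓ K : Subgroup G) : Set G)
  have hcard : SP.ncard ≤ SQ.ncard := by
    refine Set.ncard_le_ncard_of_injOn (h.act (p * a) h.swap_mem) ?_ ?_ (Set.toFinite _)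
    · rintro _ ⟨d, hd, rfl⟩
      exact ⟨_, ⟨h.swap_D hd.1, hK.conj_mem d hd.2 _⟩, (h.act_cl h.swap_mem (h.D_R0 hd.1)).symm⟩
    · intro w _ w' _ e
      have e' := congrArg (h.act (p * a)⁻¹ (inv_mem h.swap_mem)) e
      rwa [h.act_act, h.act_act, h.act_congr _ (one_mem _) (inv_mul_cancel _), h.act_congr _ (one_mem _)
        (inv_mul_cancel _), h.act_one_apply, h.act_one_apply] at e'
  set φ : GW N p → GW N p := fun w => h.act v (mem_sup_left hv) w + w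
  have hφ : ∀ f ∈ gD' N p, φ (cl N p f) = cl N p ⁅f, v⁆ := fun f hf => by
    simp only [φ]
    rw [h.act_N hv hf, add_assoc, h.two, add_zero]
  have hinj : Set.InjOn φ SQ := by
    rintro _ ⟨f, hf, rfl⟩ _ ⟨g, hg, rfl⟩ e
    have hfg : f⁻¹ * g ∈ gD' N p := mul_mem (inv_mem hf.1) hg.1
    refine (h.cl_eq_iff (h.D'_R0 hf.1) (h.D'_R0 hg.1)).2 (h.faith hv hvD hfg ?_)
    rw [← h.cl_eq_zero_iff (h.D_R0 (h.comm_D (h.D'_le_R hfg) hv)), ← hφ _ hfg,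
      cl_mul (inv_mem (h.D'_R0 hf.1)) (h.D'_R0 hg.1), cl_inv (h.D'_R0 hf.1), h.neg_eq]
    simp only [φ] at e ⊢
    rw [map_add, add_add_add_comm, e, h.two]
  have hsub : φ '' SQ ⊆ SP := by
    rintro _ ⟨_, ⟨f, hf, rfl⟩, rfl⟩
    refine ⟨⁅f, v⁆, ⟨h.comm_D (h.D'_le_R hf.1) hv, ?_⟩, (hφ f hf.1).symm⟩
    simp only [commutatorElement_def, mul_assoc]
    exact mul_mem hf.2 (by simpa [mul_assoc] using hK.conj_mem _ (inv_mem hf.2) v)
  have heq : φ '' SQ = SP := Set.eq_of_subset_of_ncard_le hsub (by rwa [hinj.ncard_image])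
    (Set.toFinite _)
  obtain ⟨_, ⟨f, hf, rfl⟩, e⟩ := heq.ge (⟨u, ⟨hu, huK⟩, rfl⟩ : cl N p u ∈ SP)
  exact ⟨f, hf, (hφ f hf.1).symm.trans e⟩

theorem dvd {K : Subgroup G} (hK : K.Normal) (hKP : K ≤ (P : Subgroup G)) {v : G} (hv : v ∈ N)
    (hvD : v ∉ gD N p) {u : G} (hu : u ∈ N ⊓ K) : ∃ f ∈ gD' N p ⊓ K, ⁅f, v⁆ * u⁻¹ ∈ gY N p := by
  have huD := h.mem_D_of_K hK hKP hu.1 hu.2
  obtain ⟨f, hf, e⟩ := h.surjK hK hv hvD huD hu.2
  refine ⟨f, hf, ?_⟩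
  have hc := h.D_R0 (h.comm_D (h.D'_le_R hf.1) hv)
  rw [← h.cl_eq_zero_iff (mul_mem hc (inv_mem (h.D_R0 huD))), cl_mul hc (inv_mem (h.D_R0 huD)),
    cl_inv (h.D_R0 huD), e, add_neg_cancel]

/-- Splitting off the fixed points of `p` in a normal 2-subgroup. -/
theorem decomp {K : Subgroup G} (hK : K.Normal) (hKP : K ≤ (P : Subgroup G)) {r : G} (hr : r ∈ K) :
    ∃ d ∈ gD N p ⊓ K ⊔ gY N p, ∃ f ∈ gD' N p ⊓ K ⊔ gY N p, ∃ z ∈ K, Commute z p ∧ r = d * f * z := by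
  haveI : Fact (Nat.Prime 2) := ⟨Nat.prime_two⟩
  set M := gR0 N p ⊓ K
  -- commutators with `L` land in `M`
  let H : Subgroup G :=
  { carrier := {l | l ∈ pairGroup N p ∧ ∀ k ∈ K, ⁅l, k⁆ ∈ M}
    one_mem' := ⟨one_mem _, fun k _ => by rw [commutatorElement_one_left]; exact one_mem _⟩
    mul_mem' := fun {l m} hl hm => ⟨mul_mem hl.1 hm.1, fun k hk => by
      rw [show ⁅l * m, k⁆ = l * ⁅m, k⁆ * l⁻¹ * ⁅l, k⁆ by simp only [commutatorElement_def]; group]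
      exact M.mul_mem ⟨h.conj_R0 hl.1 (hm.2 k hk).1, hK.conj_mem _ (hm.2 k hk).2 l⟩ (hl.2 k hk)⟩
    inv_mem' := fun {l} hl => ⟨inv_mem hl.1, fun k hk => by
      rw [show ⁅l⁻¹, k⁆ = l⁻¹ * ⁅l, k⁆⁻¹ * l⁻¹⁻¹ by simp only [commutatorElement_def]; group]
      have h1 := M.inv_mem (hl.2 k hk)
      exact ⟨h.conj_R0 (inv_mem hl.1) h1.1, hK.conj_mem _ h1.2 _⟩⟩ }
  have hNK : ∀ n ∈ N, ∀ k ∈ K, ⁅n, k⁆ ∈ gD N p ∧ ⁅n, k⁆ ∈ K := by
    intro n hn k hk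
    have h1 : ⁅n, k⁆ ∈ N := by
      rw [commutatorElement_def, mul_assoc, mul_assoc, ← mul_assoc k]
      exact mul_mem hn ((mem_normalizer_iff.1 (h.good.norm (hKP hk)) _).1 (inv_mem hn))
    have h2 : ⁅n, k⁆ ∈ K := by
      rw [commutatorElement_def]
      exact mul_mem (hK.conj_mem k hk n) (inv_mem hk)
    exact ⟨h.mem_D_of_K hK hKP h1 h2, h2⟩
  have hH : pairGroup N p ≤ H := by
    refine sup_le (fun n hn => ⟨mem_sup_left hn, fun k hk => ⟨h.D_R0 (hNK n hn k hk).1, (hNK n hn k hk).2⟩⟩) ?_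
    rintro _ ⟨n, hn, rfl⟩
    refine ⟨mem_sup_right ⟨n, hn, rfl⟩, fun k hk => ?_⟩
    have hk' : p⁻¹ * k * p ∈ K := by simpa using hK.conj_mem k hk p⁻¹
    show ⁅p * n * p⁻¹, k⁆ ∈ M
    rw [show ⁅p * n * p⁻¹, k⁆ = p * ⁅n, p⁻¹ * k * p⁆ * p⁻¹ by simp only [commutatorElement_def]; group]
    exact ⟨h.conj_R0 h.p_mem (h.D_R0 (hNK n hn _ hk').1), hK.conj_mem _ (hNK n hn _ hk').2 p⟩
  -- a fixed point of `p` in the coset
  have hσ : ∀ m ∈ M, ∀ q ∈ pairGroup N p, q * (m * r) * q⁻¹ * r⁻¹ ∈ M := by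
    intro m hm q hq
    rw [show q * (m * r) * q⁻¹ * r⁻¹ = q * m * q⁻¹ * ⁅q, r⁆ by simp only [commutatorElement_def]; group]
    exact M.mul_mem ⟨h.conj_R0 hq hm.1, hK.conj_mem _ hm.2 q⟩ ((hH hq).2 r hr)
  let σ : Equiv.Perm M :=
  { toFun := fun m => ⟨_, hσ m m.2 p h.p_mem⟩
    invFun := fun m => ⟨_, hσ m m.2 p⁻¹ (inv_mem h.p_mem)⟩
    left_inv := fun m => Subtype.ext (by simp [mul_assoc])
    right_inv := fun m => Subtype.ext (by simp [mul_assoc]) }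
  have hσk : ∀ (k : ℕ) (m : M), (((σ ^ k) m : M) : G) = p ^ k * ((m : G) * r) * (p ^ k)⁻¹ * r⁻¹ := by
    intro k
    induction k with
    | zero => intro m; simp
    | succ k ih =>
      intro m
      rw [pow_succ', Equiv.Perm.mul_apply]
      show p * ((((σ ^ k) m : M) : G) * r) * p⁻¹ * r⁻¹ = _
      rw [ih, pow_succ']
      group
  haveI : Fact (orderOf p).Prime := ⟨h.prime⟩
  haveI : Fintype M := Fintype.ofFinite _
  obtain ⟨m, hm⟩ := Equiv.Perm.exists_fixed_point_of_prime (p := orderOf p) (n := 1) (σ := σ) (by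
      intro hdvd
      obtain ⟨j, hj⟩ := IsPGroup.iff_card.1 (P.2.to_le ((inf_le_left : M ≤ gR0 N p).trans (h.R0_le.trans h.R_le)))
      rw [← Nat.card_eq_fintype_card, hj] at hdvd
      have h3 := (Nat.prime_dvd_prime_iff_eq h.prime Nat.prime_two).1 (h.prime.dvd_of_dvd_pow hdvd)
      exact (by decide : ¬ Odd 2) (h3 ▸ h.odd)) (by
      rw [pow_one]
      refine Equiv.ext fun m => Subtype.ext ?_
      rw [hσk, pow_orderOf_eq_one, one_mul, inv_one, mul_one, mul_inv_cancel_right]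
      rfl)
  set z := (m : G) * r
  have hzK : z ∈ K := mul_mem m.2.2 hr
  have hzp : Commute z p := by
    have h1 : p * z * p⁻¹ * r⁻¹ = (m : G) := congrArg Subtype.val hm
    have h2 : p * z * p⁻¹ = z := mul_inv_eq_iff_eq_mul.1 h1
    exact ((mul_inv_eq_iff_eq_mul.1 h2).symm : z * p = p * z)
  -- splitting the element of `M`
  set e := ((m : G))⁻¹
  have he : e ∈ M := M.inv_mem m.2
  obtain ⟨d, hd, f, hf, hdf⟩ := h.exists_mul he.1
  have hea : ⁅e, a⁆ = ⁅f, a⁆ := by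
    have hfa : ⁅f, a⁆ ∈ N := (h.comm_D (h.D'_le_R hf) h.a_mem).1
    rw [← hdf, show ⁅d * f, a⁆ = d * ⁅f, a⁆ * d⁻¹ * ⁅d, a⁆ by simp only [commutatorElement_def]; group,
      commutatorElement_eq_one_iff_mul_comm.2 (h.comm hd.1 h.a_mem), mul_one, h.comm hd.1 hfa,
      mul_inv_cancel_right]
  have huK : ⁅f, a⁆ ∈ K := by
    rw [← hea, commutatorElement_def, mul_assoc, mul_assoc]
    exact mul_mem he.2 (by simpa [mul_assoc] using hK.conj_mem _ (inv_mem he.2) a)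
  obtain ⟨f', hf', e'⟩ := h.surjK hK h.a_mem h.a_notD (h.comm_D (h.D'_le_R hf) h.a_mem) huK
  have hy : f'⁻¹ * f ∈ gY N p := by
    refine h.faith h.a_mem h.a_notD (mul_mem (inv_mem hf'.1) hf) ?_
    have hff : f'⁻¹ * f ∈ gD' N p := mul_mem (inv_mem hf'.1) hf
    have hA : ∀ {x : G}, x ∈ gD' N p → cl N p ⁅x, a⁆ = h.act a h.a_L (cl N p x) + cl N p x := fun hx => by
      rw [h.act_N h.a_mem hx, add_assoc, h.two, add_zero]
    rw [← h.cl_eq_zero_iff (h.D_R0 (h.comm_D (h.D'_le_R hff) h.a_mem)), hA hff,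
      cl_mul (inv_mem (h.D'_R0 hf'.1)) (h.D'_R0 hf), cl_inv (h.D'_R0 hf'.1), h.neg_eq, map_add,
      add_add_add_comm, ← hA hf'.1, ← hA hf, e', h.two]
  set y := f'⁻¹ * f
  have hd' : d * y ∈ gD N p ⊓ K := by
    refine ⟨mul_mem hd (h.Y_le_D hy), ?_⟩
    have e2 : d * y = e * f'⁻¹ := by
      have hfy : f' * y = f := mul_inv_cancel_left _ _
      calc d * y = d * (f' * y * f'⁻¹) := by rw [h.conj_Y hy (h.R0_le_L (h.D'_R0 hf'.1))]
        _ = d * f * f'⁻¹ := by rw [hfy, mul_assoc]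
        _ = e * f'⁻¹ := by rw [hdf]
    rw [e2]
    exact K.mul_mem he.2 (K.inv_mem hf'.2)
  refine ⟨d * y, mem_sup_left hd', f', mem_sup_left hf', z, hzK, hzp, ?_⟩
  calc r = e * z := by simp only [e, z]; group
    _ = d * (f' * y) * z := by rw [show f' * y = f by simp [y], hdf]
    _ = d * y * f' * z := by rw [← h.Y_central hy (h.R0_le_L (h.D'_R0 hf'.1))]; group

end GSetting

end CfsgLib.SFour
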