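import Cfsg.Agent.Lib.SFour.GBig
import Cfsg.Agent.Lib.SFour.GTau

/-!
The group part: a good subgroup outside `O₂(G)` yields the data `GData`.
-/

set_option autoImplicit false
set_option linter.unusedSectionVars false
set_option linter.style.haveILetI false

namespace CfsgLib.SFour

open Subgroup
open CfsgLib.LLemma (cg mem_cg cg_cg cg_one cg_le_iff cg_eq_of_mem card_cg)
open scoped commutatorElement

universe u

variable {G : Type u} [Group G] [Finite G] {P : Sylow 2 G} {N : Subgroup G} {a p : G}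

namespace GSetting

variable (h : GSetting P N a p)
include h

theorem normalizer_eq_top_of {X : Subgroup G} (hP : (P : Subgroup G) ≤ normalizer (X : Set G))
    (hp : p ∈ normalizer (X : Set G)) : X.Normal := by
  refine normalizer_eq_top_iff.1 (by_contra fun hne => h.p_not (h.above _ hP hne hp))

/-- Good subgroups of `D` are normal. -/
theorem small (hinh : ∀ X : Subgroup G, X ≤ Cfsg.pCore 2 G → GoodSub (P : Subgroup G) X →
      GoodSub (P : Subgroup G) (normalClosure (X : Set G)))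
    {X : Subgroup G} (hX : X ≤ gD N p) (hgood : GoodSub (P : Subgroup G) X) : X.Normal := by
  haveI : Fact (Nat.Prime 2) := ⟨Nat.prime_two⟩
  set Q := Cfsg.pCore 2 G
  haveI : Q.Normal := Cfsg.pCore_normal 2 G
  -- `D` is central in `L` modulo `Q`
  have hcen : ∀ d ∈ gD N p, ∀ l ∈ pairGroup N p, l * d * l⁻¹ * d⁻¹ ∈ Q := by
    intro d hd
    have hdN : ∀ g ∈ pairGroup N p, g * d * g⁻¹ ∈ N ⊔ Q := fun g hg =>
      h.closed d hd.1 g (h.R_le ((h.cg_R hg).le ⟨d, hd.2, rfl⟩))
    let S : Subgroup G := (centralizer ({(QuotientGroup.mk d : G ⧸ Q)} : Set (G ⧸ Q))).comap (QuotientGroup.mk' Q)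
    have hS : pairGroup N p ≤ S := by
      refine sup_le (fun n hn => mem_centralizer_iff.2 ?_) ?_
      · rintro _ rfl; exact congrArg QuotientGroup.mk (h.comm hd.1 hn)
      · have h5 := hdN p⁻¹ (inv_mem h.p_mem)
        rw [inv_inv] at h5
        have hNN : N ≤ normalizer (Q : Set G) := fun x _ => normalizer_eq_top Q ▸ mem_top x
        obtain ⟨n₀, hn₀, q₀, hq₀, e₀⟩ := CfsgLib.Techniques.exists_mul_of_mem_sup hNN h5
        rintro _ ⟨n, hn, rfl⟩
        refine mem_centralizer_iff.2 ?_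
        rintro _ rfl
        have e1 : (QuotientGroup.mk d : G ⧸ Q) = QuotientGroup.mk (p * n₀ * p⁻¹) := by
          rw [QuotientGroup.eq]
          have h6 := Subgroup.Normal.conj_mem (H := Q) inferInstance _ (inv_mem hq₀) p
          rwa [show d⁻¹ * (p * n₀ * p⁻¹) = p * q₀⁻¹ * p⁻¹ by
            rw [show d = p * (n₀ * q₀) * p⁻¹ by rw [e₀]; group]; group]
        show (QuotientGroup.mk d : G ⧸ Q) * QuotientGroup.mk ((MulAut.conj p) n) = _ * QuotientGroup.mk d
        rw [e1]
        show (QuotientGroup.mk ((MulAut.conj p) n₀ * (MulAut.conj p) n) : G ⧸ Q) =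
          QuotientGroup.mk ((MulAut.conj p) n * (MulAut.conj p) n₀)
        rw [← map_mul, ← map_mul, h.comm hn₀ hn]
    intro l hl
    have h8 := mem_centralizer_iff.1 (hS hl) _ rfl
    rw [← QuotientGroup.eq_one_iff (N := Q)]
    show (QuotientGroup.mk l : G ⧸ Q) * QuotientGroup.mk d * (QuotientGroup.mk l)⁻¹ * (QuotientGroup.mk d)⁻¹ = 1
    rw [← show (QuotientGroup.mk d : G ⧸ Q) * QuotientGroup.mk l = QuotientGroup.mk l * QuotientGroup.mk d from h8,
      mul_inv_cancel_right, mul_inv_cancel]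
  -- `X ≤ Q`
  have hXQ : X ≤ Q := by
    have hn : (X ⊔ Q).Normal := by
      refine h.normalizer_eq_top_of (fun x hx => ?_) ?_
      · refine CfsgLib.Techniques.map_conj_eq_self_iff.1 ?_
        rw [Subgroup.map_sup, CfsgLib.Techniques.map_conj_eq_self_iff.2 (hgood.norm hx),
          CfsgLib.Techniques.map_conj_eq_self_iff.2 (normalizer_eq_top Q ▸ mem_top x)]
      · refine CfsgLib.Techniques.map_conj_eq_self_iff.1 (eq_of_le_of_card_ge ?_ (card_cg _ _).ge)
        rw [Subgroup.map_le_iff_le_comap]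
        refine sup_le (fun x hx => ?_) fun q hq => ?_
        · show p * x * p⁻¹ ∈ X ⊔ Q
          rw [show p * x * p⁻¹ = p * x * p⁻¹ * x⁻¹ * x by group]
          exact mul_mem (mem_sup_right (hcen x (hX hx) p h.p_mem)) (mem_sup_left hx)
        · exact mem_sup_right (Subgroup.Normal.conj_mem inferInstance q hq p)
    exact le_sup_left.trans (CfsgLib.PCore.le_pCore hn
      (P.2.to_le (sup_le (hX.trans (inf_le_left.trans h.le)) (pCore_le_sylow' P))))
  -- the normal closure commutes with `L`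
  have hgc := hinh X hXQ hgood
  set Xc := normalClosure (X : Set G)
  have hXc : Xc ≤ Q := normalClosure_le_normal hXQ
  have hcomm := h.good.commute hgc (hXc.trans (pCore_le_sylow' P)) h.le
  have hL : pairGroup N p ≤ centralizer (Xc : Set G) := by
    refine sup_le (fun n hn => mem_centralizer_iff.2 fun x hx => (hcomm n hn x hx).symm) ?_
    rintro _ ⟨n, hn, rfl⟩
    refine mem_centralizer_iff.2 fun x hx => ?_
    have hx' : p⁻¹ * x * p ∈ Xc := by simpa using normalClosure_normal.conj_mem x hx p⁻¹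
    show x * (p * n * p⁻¹) = p * n * p⁻¹ * x
    calc x * (p * n * p⁻¹) = p * ((p⁻¹ * x * p) * n) * p⁻¹ := by group
      _ = p * (n * (p⁻¹ * x * p)) * p⁻¹ := by rw [hcomm n hn _ hx']
      _ = _ := by group
  have hXY : X ≤ gY N p := fun x hx => h.mem_Y_of_comm (hX hx) fun f hf =>
    (mem_centralizer_iff.1 (hL (h.R0_le_L (h.D'_R0 hf))) x (subset_normalClosure hx)).symm
  refine h.normalizer_eq_top_of hgood.norm (CfsgLib.Techniques.map_conj_eq_self_iff.1
    (eq_of_le_of_card_ge ?_ (card_cg _ _).ge))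
  rintro _ ⟨x, hx, rfl⟩
  show p * x * p⁻¹ ∈ X
  rw [h.conj_Y (hXY hx) h.p_mem]
  exact hx

/-- The data of the group part. -/
noncomputable def gdata (hinh : ∀ X : Subgroup G, X ≤ Cfsg.pCore 2 G → GoodSub (P : Subgroup G) X →
      GoodSub (P : Subgroup G) (normalClosure (X : Set G))) : GData (P : Subgroup G) N where
  a := a
  p := p
  tau := h.tau
  D := gD N p
  D' := gD' N p
  Y := gY N p
  D'_eq := rfl
  D_le := inf_le_left
  D'_le := h.D'_le
  Y_le := h.D_inf_D'.ge
  D'_abelian := fun _ hf _ hg => h.D'_comm hf hg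
  D'_sq := fun _ hf => h.D'_sq hf
  a_mem := h.a_mem
  a_not := h.a_notD
  ne_top := fun e => h.a_notD (e.ge h.a_mem)
  inv := fun _ hf _ hv => h.comm_D (h.D'_le_R hf) hv
  inv' := fun _ hf _ hu => h.inv_mem_Y hf hu
  fixed := fun _ hv => h.fixed hv
  faith := fun _ hv hvD _ hf hY => h.faith hv hvD hf hY
  surj := fun _ hv hvD _ hu => h.surj hv hvD hu
  big := h.big
  tau_mem := fun _ hf => h.tau_mem hf
  tau_mul := fun _ hf _ hg => h.tau_mul hf hg
  tau_adj := fun _ hf _ hg => h.tau_adj hf hg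
  tau_inj := fun _ hf hY => h.tau_inj hf hY
  tau_inj' := fun _ hf hY => h.tau_inj' hf hY
  tau_normal := fun _ hK _ _ hf => h.tau_normal hK hf
  z_norm := fun _ hz hzp _ hf => h.z_norm hz hzp hf
  z_norm_Y := fun _ hz hzp _ hy => h.z_norm_Y hz hzp hy
  tau_fixed := fun _ hz hzp _ hf => h.tau_fixed hz hzp hf
  a_fixed := fun _ hz hzp => h.a_fixed hz hzp
  decomp := fun _ hK hKP _ hr => h.decomp hK hKP hr
  dvd := fun _ hK hKP _ hv hvD _ hu => h.dvd hK hKP hv hvD hu
  small := fun _ hX hgood => h.small hinh hX hgood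

end GSetting

/-- The group part: a good subgroup outside `O₂(G)` with strongly closed image and contained in one maximal
overgroup yields the data. -/
theorem exists_gdata (P : Sylow 2 G)
    (hC : centralizer (Cfsg.pCore 2 G : Set G) ≤ Cfsg.pCore 2 G)
    (hS4 : ¬ Cfsg.Involves (Equiv.Perm (Fin 4)) G) {N : Subgroup G} (hNP : N ≤ (P : Subgroup G))
    (hN : GoodSub (P : Subgroup G) N) (hNQ : ¬ N ≤ Cfsg.pCore 2 G)
    (hover : ∀ H : Subgroup G, (P : Subgroup G) ≤ H → H ≠ ⊤ → H ≤ normalizer (N : Set G))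
    (hclosed : ∀ x ∈ N, ∀ g, g * x * g⁻¹ ∈ (P : Subgroup G) → g * x * g⁻¹ ∈ N ⊔ Cfsg.pCore 2 G)
    (hinh : ∀ X : Subgroup G, X ≤ Cfsg.pCore 2 G → GoodSub (P : Subgroup G) X →
      GoodSub (P : Subgroup G) (normalClosure (X : Set G))) :
    Nonempty (GData (P : Subgroup G) N) :=
  let ⟨_, _, h⟩ := exists_setting hC hS4 hNP hN hNQ hover hclosed
  ⟨h.gdata hinh⟩

end CfsgLib.SFour
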