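import Cfsg.Agent.Lib.SFour.GoodMod
import Cfsg.Agent.Lib.ModuleTrick.Invariant
import Cfsg.Agent.S2759

set_option autoImplicit false
set_option linter.unusedSectionVars false

/-! Freedom from quadratic offenders passes from a module piece to the span of its translates, and from
a subgroup of the 2-core to its normal closure. -/

namespace CfsgLib.SFour

open Subgroup CfsgLib.Techniques CfsgLib.Techniques.SThree CfsgLib.LLemma
open scoped commutatorElement IsMulCommutative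

universe u v

/-- Transport along an equivariant embedding. -/
theorem goodMod_map_iff {X Y : Type*} [Group X] [Group Y] {U V : Type*} [AddCommGroup U] [AddCommGroup V]
    {f : X →* Y} {ρ : Y →* AddMonoid.End V} {σ : X →* AddMonoid.End U} {j : U →+ V}
    (hj : Function.Injective j) (h : ∀ x u, j (σ x u) = ρ (f x) (j u))
    {S : Subgroup X} {W : AddSubgroup U} : GoodMod σ S W ↔ GoodMod ρ (S.map f) (W.map j) := by
  have hpt : (ptStab ρ (W.map j)).comap f = ptStab σ W := by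
    ext x
    constructor
    · exact fun hx v hv => hj ((h x v).trans (hx _ ⟨v, hv, rfl⟩))
    · rintro hx _ ⟨v, hv, rfl⟩
      rw [← h, hx v hv]
  have hfix : ∀ T : Subgroup X, (fixedPts ρ (T.map f)).comap j = fixedPts σ T := by
    intro T
    ext v
    constructor
    · exact fun hv t ht => hj ((h t v).trans (hv _ ⟨t, ht, rfl⟩))
    · rintro hv _ ⟨t, ht, rfl⟩
      rw [← h, hv t ht]
  have hq : ∀ T : Subgroup X, (∀ t ∈ T.map f, ∀ w ∈ W.map j, ρ t w - w ∈ fixedPts ρ (T.map f)) ↔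
      ∀ t ∈ T, ∀ w ∈ W, σ t w - w ∈ fixedPts σ T := by
    intro T
    constructor
    · intro hT t ht w hw
      rw [← hfix, AddSubgroup.mem_comap, map_sub, h]
      exact hT _ ⟨t, ht, rfl⟩ _ ⟨w, hw, rfl⟩
    · rintro hT _ ⟨t, ht, rfl⟩ _ ⟨w, hw, rfl⟩
      have h1 := hT t ht w hw
      rwa [← hfix, AddSubgroup.mem_comap, map_sub, h] at h1
  constructor
  · intro hg
    refine ⟨?_, fun T hT hTq hTn => ?_⟩
    · rintro _ ⟨s, hs, rfl⟩ _ ⟨v, hv, rfl⟩
      exact ⟨σ s v, hg.inv s hs v hv, h s v⟩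
    · have e : (T.comap f ⊓ S).map f = T := le_antisymm
        (fun _ ⟨s, hs, e⟩ => e ▸ hs.1) fun y hy => by
          obtain ⟨s, hs, rfl⟩ := hT hy
          exact ⟨s, ⟨hy, hs⟩, rfl⟩
      rw [← e] at hTq hTn ⊢
      have h1 := hg.good _ inf_le_right ((hq _).1 hTq) fun hle =>
        hTn (Subgroup.map_le_iff_le_comap.2 (hpt.symm ▸ hle))
      rwa [← hfix, AddSubgroup.relIndex_comap, ← hpt, Subgroup.relIndex_comap] at h1
  · intro hg
    refine ⟨fun s hs v hv => ?_, fun T hT hTq hTn => ?_⟩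
    · obtain ⟨w, hw, e⟩ := hg.inv _ ⟨s, hs, rfl⟩ _ ⟨v, hv, rfl⟩
      rwa [← hj (e.trans (h s v).symm)]
    · have h1 := hg.good _ (Subgroup.map_mono hT) ((hq T).2 hTq) fun hle =>
        hTn (hpt ▸ Subgroup.map_le_iff_le_comap.1 hle)
      rwa [← hfix, AddSubgroup.relIndex_comap, ← hpt, Subgroup.relIndex_comap]

section Mod

variable {X : Type u} [Group X] {V : Type v} [AddCommGroup V] {ρ : X →* AddMonoid.End V}

theorem closureMod_inv (ρ : X →* AddMonoid.End V) (W : AddSubgroup V) (x : X) :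
    ∀ v ∈ closureMod ρ W, ρ x v ∈ closureMod ρ W := by
  show closureMod ρ W ≤ (closureMod ρ W).comap (ρ x : V →+ V)
  refine (AddSubgroup.closure_le _).2 ?_
  rintro _ ⟨y, w, hw, rfl⟩
  exact AddSubgroup.subset_closure ⟨x * y, w, hw, act_mul ρ x y w⟩

theorem closureMod_le {W M : AddSubgroup V} (hM : ∀ x : X, ∀ v ∈ M, ρ x v ∈ M) (hW : W ≤ M) :
    closureMod ρ W ≤ M := by
  refine (AddSubgroup.closure_le _).2 ?_
  rintro _ ⟨x, w, hw, rfl⟩
  exact hM x w (hW hw)

theorem GoodMod.translate {S : Subgroup X} {W : AddSubgroup V} (h : GoodMod ρ S W) (g : X) :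
    GoodMod ρ (S.map (MulAut.conj g).toMonoidHom) (W.map (ρ g : V →+ V)) := by
  refine (goodMod_map_iff (f := (MulAut.conj g).toMonoidHom) (ρ := ρ)
    (fun a b e => (act_inv_cancel ρ g a).symm.trans ((congrArg (ρ g⁻¹) e).trans (act_inv_cancel ρ g b)))
    (fun x u => ?_)).1 h
  show ρ g (ρ x u) = ρ (g * x * g⁻¹) (ρ g u)
  rw [act_mul, act_mul, act_inv_cancel]

variable [Finite X] [Finite V]

theorem GoodMod.cost_le {S : Subgroup X} {W : AddSubgroup V} (h : GoodMod ρ S W) {T : Subgroup X}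
    (hT : T ≤ S) (hq : ∀ t ∈ T, ∀ w ∈ W, ρ t w - w ∈ fixedPts ρ T) :
    (ptStab ρ W).relIndex T ≤ (fixedPts ρ T).relIndex W := by
  by_cases hle : T ≤ ptStab ρ W
  · rw [Subgroup.relIndex_eq_one.2 hle]
    exact Nat.one_le_iff_ne_zero.2 AddSubgroup.index_ne_zero_of_finite
  · exact (h.good T hT hq hle).le

theorem GoodMod.sup {S : Subgroup X} {W₁ W₂ : AddSubgroup V} (h₁ : GoodMod ρ S W₁) (h₂ : GoodMod ρ S W₂) :
    GoodMod ρ S (W₁ ⊔ W₂) := by
  refine ⟨fun s hs v hv => ?_, fun T hT hq hn => ?_⟩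
  · obtain ⟨a, ha, b, hb, rfl⟩ := AddSubgroup.mem_sup.1 hv
    rw [map_add]
    exact AddSubgroup.add_mem_sup (h₁.inv s hs a ha) (h₂.inv s hs b hb)
  set T₁ := ptStab ρ W₁ ⊓ T
  have hq₁ : ∀ t ∈ T, ∀ w ∈ W₁, ρ t w - w ∈ fixedPts ρ T :=
    fun t ht w hw => hq t ht w (AddSubgroup.mem_sup_left hw)
  have hq₂ : ∀ t ∈ T₁, ∀ w ∈ W₂, ρ t w - w ∈ fixedPts ρ T₁ :=
    fun t ht w hw => fixedPts_anti ρ inf_le_right (hq t ht.2 w (AddSubgroup.mem_sup_right hw))
  have hpt : ptStab ρ (W₁ ⊔ W₂) = ptStab ρ W₂ ⊓ ptStab ρ W₁ := by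
    ext x
    constructor
    · exact fun hx => ⟨fun v hv => hx v (AddSubgroup.mem_sup_right hv),
        fun v hv => hx v (AddSubgroup.mem_sup_left hv)⟩
    · intro hx v hv
      obtain ⟨a, ha, b, hb, rfl⟩ := AddSubgroup.mem_sup.1 hv
      rw [map_add, hx.2 a ha, hx.1 b hb]
  set C := fixedPts ρ T ⊓ (W₁ ⊔ W₂) with hC
  have hR : (fixedPts ρ T).relIndex W₁ * (fixedPts ρ T₁).relIndex W₂ ≤
      (fixedPts ρ T).relIndex (W₁ ⊔ W₂) := by
    rw [← AddSubgroup.inf_relIndex_right (fixedPts ρ T) (W₁ ⊔ W₂), ← hC,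
      ← AddSubgroup.relIndex_mul_relIndex C (W₁ ⊔ C) (W₁ ⊔ W₂) le_sup_right (sup_le le_sup_left inf_le_right)]
    refine Nat.mul_le_mul ((AddSubgroup.relIndex_le_of_le_left inf_le_left
      AddSubgroup.index_ne_zero_of_finite).trans (AddSubgroup.relIndex_le_of_le_right le_sup_left
        AddSubgroup.index_ne_zero_of_finite)) ?_
    refine (AddSubgroup.relIndex_le_of_le_right le_sup_right AddSubgroup.index_ne_zero_of_finite).trans
      (AddSubgroup.relIndex_le_of_le_left (sup_le (fun v hv t ht => ht.1 v hv) ?_)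
        AddSubgroup.index_ne_zero_of_finite)
    exact inf_le_left.trans (fixedPts_anti ρ inf_le_right)
  refine lt_of_lt_of_le ?_ hR
  rw [hpt, ← Subgroup.relIndex_inf_mul_relIndex, mul_comm]
  by_cases h1 : T ≤ ptStab ρ W₁
  · have hn₂ : ¬ T₁ ≤ ptStab ρ W₂ := fun h2 =>
      hn (hpt ▸ le_inf ((le_inf h1 le_rfl).trans h2) h1)
    exact Nat.mul_lt_mul_of_le_of_lt (h₁.cost_le hT hq₁) (h₂.good T₁ (inf_le_right.trans hT) hq₂ hn₂)
      (Nat.pos_of_ne_zero AddSubgroup.index_ne_zero_of_finite)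
  · exact Nat.mul_lt_mul_of_lt_of_le (h₁.good T hT hq₁ h1) (h₂.cost_le (inf_le_right.trans hT) hq₂)
      (Nat.pos_of_ne_zero AddSubgroup.index_ne_zero_of_finite)

/-- An offender of best measure in `S` fixes every piece that is good under `S`. -/
theorem GoodMod.le_fixed {S A : Subgroup X} {W : AddSubgroup V} (h : GoodMod ρ S W) (hA : Best ρ A)
    (hAS : A ≤ S) : W ≤ fixedPts ρ A := by
  by_contra hn
  set F := fixedPts ρ A
  set B := ptStab ρ W ⊓ A
  have hlt := h.good A hAS (fun t ht w _ => hA.quad t ht w) fun hle => hn fun w hw a ha => hle ha w hw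
  have hB : Nat.card B * (ptStab ρ W).relIndex A = Nat.card A := by
    rw [← Subgroup.inf_relIndex_right (ptStab ρ W) A, ← Subgroup.relIndex_bot_left B,
      Subgroup.relIndex_mul_relIndex ⊥ B A bot_le inf_le_right, Subgroup.relIndex_bot_left]
  have hF : Nat.card F * F.relIndex W = Nat.card (W ⊔ F : AddSubgroup V) := by
    rw [← AddSubgroup.relIndex_sup_right (K := F) (H := W), ← AddSubgroup.relIndex_bot_left F,
      AddSubgroup.relIndex_mul_relIndex ⊥ F (W ⊔ F) bot_le le_sup_right, AddSubgroup.relIndex_bot_left]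
  have hle : W ⊔ F ≤ fixedPts ρ B :=
    sup_le (fun v hv b hb => hb.1 v hv) (fixedPts_anti ρ inf_le_right)
  refine hlt.not_ge (Nat.le_of_mul_le_mul_left ?_
    (Nat.mul_pos (Nat.card_pos (α := B)) (Nat.card_pos (α := F))))
  calc Nat.card B * Nat.card F * F.relIndex W = Nat.card B * Nat.card (W ⊔ F : AddSubgroup V) := by
        rw [← hF, mul_assoc]
    _ ≤ Nat.card B * Nat.card (fixedPts ρ B) := Nat.mul_le_mul_left _ (AddSubgroup.card_le_of_le hle)
    _ ≤ Nat.card A * Nat.card F := hA.best B inf_le_right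
    _ = _ := by rw [← hB]; ring

/-- The faithful step: the translates of `W` span the module. -/
private theorem closure_step (hρ : ∀ x, ρ x = 1 → x = 1) (hV2 : ∀ v : V, v + v = 0) (hS : S3Free X)
    {P : Sylow 2 X} {W₀ : AddSubgroup V} (h₀ : GoodMod ρ (P : Subgroup X) W₀)
    (htop : closureMod ρ W₀ = ⊤)
    (IH : ∀ Y : Subgroup X, Y ≠ ⊤ → ∀ (P' : Sylow 2 Y) (U : AddSubgroup V),
      GoodMod (ρ.comp Y.subtype) (P' : Subgroup Y) U →
        GoodMod (ρ.comp Y.subtype) (P' : Subgroup Y) (closureMod (ρ.comp Y.subtype) U)) :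
    GoodMod ρ (P : Subgroup X) ⊤ := by
  have : Fact (Nat.Prime 2) := ⟨Nat.prime_two⟩
  obtain ⟨W, hW⟩ := (Set.toFinite {U : AddSubgroup V | W₀ ≤ U ∧ GoodMod ρ (P : Subgroup X) U}).exists_maximal
    ⟨W₀, le_rfl, h₀⟩
  obtain ⟨hW₀, hgood⟩ := hW.prop
  have hmax : ∀ U, GoodMod ρ (P : Subgroup X) U → W ≤ U → U ≤ W :=
    fun U hU hle => hW.le_of_ge ⟨hW₀.trans hle, hU⟩ hle
  set H := setStab ρ W
  have hPH : (P : Subgroup X) ≤ H := fun s hs => hgood.inv s hs
  have hNH : normalizer ((P : Subgroup X) : Set X) ≤ H := by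
    intro n hn v hv
    have h1 := hgood.translate n
    rw [map_conj_eq_self_iff.2 hn] at h1
    exact hmax _ (hgood.sup h1) le_sup_left (AddSubgroup.mem_sup_right ⟨v, hv, rfl⟩)
  have hgenW : ∀ M : AddSubgroup V, (∀ x : X, ∀ v ∈ W, ρ x v ∈ M) → M = ⊤ := fun M hM => by
    rw [eq_top_iff, ← htop]
    refine (AddSubgroup.closure_le _).2 ?_
    rintro _ ⟨x, w, hw, rfl⟩
    exact hM x w (hW₀ hw)
  by_cases hH : H = ⊤
  · rwa [← hgenW W fun x v hv => (hH ▸ mem_top x : x ∈ H) v hv]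
  have huniq : ∀ Y : Subgroup X, (P : Subgroup X) ≤ Y → Y < ⊤ → Y ≤ H := by
    intro Y hPY hY
    have hmapS : ((P.subtype hPY : Sylow 2 Y) : Subgroup Y).map Y.subtype = (P : Subgroup X) := by
      rw [Sylow.coe_subtype]; exact Subgroup.map_subgroupOf_eq_of_le hPY
    have e : ∀ U : AddSubgroup V, GoodMod (ρ.comp Y.subtype) ((P.subtype hPY : Sylow 2 Y) : Subgroup Y) U ↔
        GoodMod ρ (P : Subgroup X) U := by
      intro U
      rw [goodMod_map_iff (f := Y.subtype) (ρ := ρ) (j := AddMonoidHom.id V) Function.injective_id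
        (fun _ _ => rfl), hmapS, AddSubgroup.map_id]
    have h1 := (e _).1 (IH Y hY.ne _ W ((e W).2 hgood))
    intro y hy v hv
    exact hmax _ h1 (le_closureMod _ W) (AddSubgroup.subset_closure ⟨⟨y, hy⟩, v, hv, rfl⟩)
  refine ⟨fun _ _ _ _ => AddSubgroup.mem_top _, fun A₀ hA₀P hq₀ hn₀ => ?_⟩
  by_contra hoff
  rw [not_lt, AddSubgroup.relIndex_top_right] at hoff
  have hptop : ptStab ρ (⊤ : AddSubgroup V) = ⊥ := eq_bot_iff.2 fun x hx =>
    Subgroup.mem_bot.2 (hρ x (AddMonoidHom.ext fun v => hx v (AddSubgroup.mem_top v)))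
  rw [hptop, Subgroup.relIndex_bot_left] at hoff
  obtain ⟨A, hAA₀, hA⟩ := exists_best (ρ := ρ) (A := A₀) (fun e => hn₀ (e ▸ bot_le))
    (fun a ha v => hq₀ a ha v (AddSubgroup.mem_top v)) hoff
  have hAP : A ≤ (P : Subgroup X) := hAA₀.trans hA₀P
  have hfix : ∀ B, Best ρ B → B ≤ H → W ≤ fixedPts ρ B := by
    intro B hB hBH v hv
    obtain ⟨h, hh, hle⟩ := exists_conj_le_sylow_of hBH (isPGroup_of_quad hρ hV2 hB.quad)
      hPH P.2 (not_dvd_relIndex_sylow P hPH)
    exact (act_mem_fixedPts_conj ρ B h).1 (hgood.le_fixed (hB.conj h) hle (hh v hv))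
  have hAQ : ¬ A ≤ Cfsg.pCoreOf 2 (⊤ : Subgroup X) := by
    intro hle
    set Q := Cfsg.pCoreOf 2 (⊤ : Subgroup X)
    have hQn : ∀ g : X, Q.map (MulAut.conj g).toMonoidHom = Q :=
      fun g => map_conj_eq_self_iff.2 (le_normalizer_pCoreOf _ (mem_top g))
    have hQP : Q ≤ (P : Subgroup X) :=
      pCoreOf_le_of_maximal le_top P.2 fun P' _ hp h => P.is_maximal' hp h
    have h1 : fixedPts ρ A = ⊤ := hgenW _ fun x v hv => by
      have h2 := hgood.le_fixed (hA.conj x⁻¹) (((Subgroup.map_mono hle).trans (hQn _).le).trans hQP) hv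
      rw [← act_inv_cancel ρ x v] at h2
      exact (act_mem_fixedPts_conj ρ A x⁻¹).1 h2
    refine hA.ne_bot (eq_bot_iff.2 fun a ha => Subgroup.mem_bot.2 (hρ a (AddMonoidHom.ext fun v => ?_)))
    exact (h1.ge (AddSubgroup.mem_top v)) a ha
  have hG : LLemma.Good 2 (⊤ : Subgroup X) H (P : Subgroup X) := by
    refine ⟨lt_top_iff_ne_top.2 hH, hPH, P.2, fun P' _ hp h => P.is_maximal' hp h, huniq, fun x _ hx => ?_⟩
    obtain ⟨y, hy, hle⟩ := exists_conj_le_sylow_of ((Subgroup.map_mono hPH).trans hx.le)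
      (P.2.map _) hPH P.2 (not_dvd_relIndex_sylow P hPH)
    rw [← map_conj_mul] at hle
    have h1 : y * x ∈ normalizer ((P : Subgroup X) : Set X) :=
      map_conj_eq_self_iff.1 (eq_of_le_of_card_ge hle (card_map_conj _ _).ge)
    simpa using H.mul_mem (H.inv_mem hy) (hNH h1)
  obtain ⟨L, -, hAL, L₀, hAL₀, hL₀L, hLuniq, ⟨g, -, hgL⟩, hgen⟩ :=
    LLemma.main _ ⊤ H P A le_rfl hG hAP hAQ
  set OL := Cfsg.pCoreOf 2 L with hOL
  obtain ⟨K, hK⟩ := Set.Finite.exists_minimal
    (s := {Y : Subgroup X | A ≤ Y ∧ Y ≤ L ∧ Y ⊔ OL = L}) (Set.toFinite _)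
    ⟨L, le_sup_left.trans hAL, le_rfl, sup_eq_left.2 (pCoreOf_le L)⟩
  obtain ⟨hAK, hKL, hKO⟩ := hK.prop
  have hKL₀ : ¬ K ≤ L₀ := fun h => hL₀L.not_ge (hKO ▸ sup_le h (le_sup_right.trans hAL₀))
  have hKn : K ≤ normalizer (OL : Set X) := hKL.trans (le_normalizer_pCoreOf L)
  set A' : Subgroup K := A.subgroupOf K
  set L₀' : Subgroup K := L₀.subgroupOf K
  set R' : Subgroup K := OL.subgroupOf K
  have hA' : A'.map K.subtype = A := Subgroup.map_subgroupOf_eq_of_le hAK
  have hgen' : ∀ x, x ∉ L₀' → A' ⊔ A'.map (MulAut.conj x).toMonoidHom = ⊤ := by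
    intro x hx
    have hle : A ⊔ cg A x ≤ K := sup_le hAK ((Subgroup.map_mono hAK).trans (cg_eq_of_mem x.2).le)
    have hA'c : (A'.map (MulAut.conj x).toMonoidHom).map K.subtype = cg A (x : X) := by
      rw [Subgroup.map_map]
      show A'.map ((MulAut.conj (x : X)).toMonoidHom.comp K.subtype) = _
      rw [← Subgroup.map_map, hA']
    have h1 := hK.eq_of_le ⟨le_sup_left, hle.trans hKL, hgen x (hKL x.2) hx⟩ hle
    refine Subgroup.map_injective K.subtype_injective ?_
    rw [Subgroup.map_sup, hA', hA'c, ← MonoidHom.range_eq_map, Subgroup.range_subtype]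
    exact h1
  have hR'n : R'.Normal := ⟨fun r hr k => (Subgroup.mem_normalizer_iff.1 (hKn k.2) _).1 hr⟩
  have hU : UniqueOver A' L₀' R' := by
    refine ⟨hR'n, (isPGroup_of_quad hρ hV2 hA.quad).comap_subtype, (pCoreOf_isPGroup L).comap_subtype,
      ?_, fun h => ?_, fun k hk => ?_, fun h => hKL₀ (Subgroup.subgroupOf_eq_top.1 h),
      fun Y hY hne => ?_, fun x hx => ?_⟩
    · refine le_antisymm (CfsgLib.PCore.le_pCore hR'n (pCoreOf_isPGroup L).comap_subtype) ?_
      set Q := Cfsg.pCoreOf 2 K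
      have hQn : L ≤ normalizer ((Q ⊔ OL : Subgroup X) : Set X) := by
        rw [← hKO]
        refine sup_le (fun k hk => map_conj_eq_self_iff.1 ?_) (le_sup_right.trans le_normalizer)
        rw [Subgroup.map_sup, map_conj_eq_self_iff.2 (le_normalizer_pCoreOf K hk),
          map_conj_eq_self_iff.2 (hKn hk)]
      have h1 : Q ⊔ OL ≤ OL := le_pCoreOf (sup_le ((pCoreOf_le K).trans hKL) (pCoreOf_le L)) hQn
        (isPGroup_sup (pCoreOf_isPGroup K) (pCoreOf_isPGroup L) ((pCoreOf_le K).trans hKn))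
      exact fun k hk => h1 (Subgroup.mem_sup_left ⟨k, hk, rfl⟩)
    · have h1 : A ≤ OL := fun a ha => h (show (⟨a, hAK ha⟩ : K) ∈ A' from ha)
      obtain ⟨x, hx, hx'⟩ := SetLike.exists_of_lt hL₀L
      refine hL₀L.not_ge ((hgen x hx hx').ge.trans (sup_le (sup_le ?_ ?_) ?_))
      · exact le_sup_left.trans hAL₀
      · exact (Subgroup.map_mono h1).trans ((map_conj_eq_self_iff.2 (le_normalizer_pCoreOf L hx)).le.trans
          (le_sup_right.trans hAL₀))
      · exact le_sup_right.trans hAL₀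
    · have : A' ⊔ R' ≤ L₀' := sup_le (Subgroup.comap_mono (le_sup_left.trans hAL₀))
        (Subgroup.comap_mono (le_sup_right.trans hAL₀))
      exact this hk
    · have hA'Y : A ≤ Y.map K.subtype := fun a ha => ⟨⟨a, hAK ha⟩, hY (Subgroup.mem_sup_left ha), rfl⟩
      have hne' : Y.map K.subtype ⊔ OL ≠ L := fun e => hne (eq_top_iff.2 fun k _ => by
        obtain ⟨y, hy, hyk⟩ := hK.le_of_le ⟨hA'Y, (map_subtype_le _).trans hKL, e⟩ (map_subtype_le _) k.2
        exact (Subtype.ext hyk : y = k) ▸ hy)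
      have h1 := hLuniq (Y.map K.subtype ⊔ OL) (sup_le_sup_right hA'Y _)
        (lt_of_le_of_ne (sup_le ((map_subtype_le _).trans hKL) (pCoreOf_le L)) hne')
      exact fun k hk => h1 (Subgroup.mem_sup_left ⟨k, hk, rfl⟩)
    · exact top_le_iff.1 ((hgen' x hx).ge.trans le_sup_left)
  -- the module of the translate
  have hgL₀ : ∀ k ∈ L₀, g⁻¹ * k * g ∈ H := fun k hk =>
    mem_cg.1 ((hgL ▸ hk : k ∈ L ⊓ cg H g)).2
  set ρK := ρ.comp K.subtype
  set X₂ : AddSubgroup V := W.map (ρ g : V →+ V) with hX₂def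
  have hX₂A : X₂ ≤ fixedPts ρK A' := by
    rw [fixedPts_comp, hA']
    rintro _ ⟨v, hv, rfl⟩
    have h1 : cg A g⁻¹ ≤ H := by
      rintro _ ⟨a, ha, rfl⟩
      simpa using hgL₀ a (hAL₀ (Subgroup.mem_sup_left ha))
    have h2 : v ∈ fixedPts ρ (cg A g⁻¹) := hfix _ (hA.conj g⁻¹) h1 hv
    show ρ g v ∈ fixedPts ρ A
    rw [← act_inv_cancel ρ g v] at h2
    exact (act_mem_fixedPts_conj ρ A g⁻¹).1 h2
  have hX₂i : ∀ k ∈ L₀', ∀ v ∈ X₂, ρK k v ∈ X₂ := by
    rintro k hk _ ⟨v, hv, rfl⟩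
    refine ⟨ρ (g⁻¹ * k * g) v, hgL₀ k hk v hv, ?_⟩
    show ρ g (ρ (g⁻¹ * k * g) v) = ρ k (ρ g v)
    rw [← act_mul, ← act_mul]; group
  obtain ⟨O₁, hO₁R, hO₁F, hO₁c⟩ := transfer ρK hV2 hU hgen' (Quad.comp _ (by rw [hA']; exact hA.quad))
    (fun B' hB' => by
      rw [fixedPts_comp, fixedPts_comp, hA', ← card_map_of_injective K.subtype_injective,
        Nat.card_congr (subgroupOfEquivOfLe hAK).toEquiv]
      exact hA.best _ (hA' ▸ Subgroup.map_mono hB'))
    (fun H' φ hφ => hS (LocalEven.Involved.involves_of_subgroup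
      (LocalEven.Involved.involves_of_hom H' φ hφ)))
    X₂ hX₂A hX₂i
  set FK := fixedPts ρK (⊤ : Subgroup K)
  have hX₂F : ¬ X₂ ≤ FK := by
    intro hle
    refine hKL₀ fun k hk => ?_
    rw [hgL]
    refine ⟨hKL hk, mem_cg.2 fun v hv => ?_⟩
    have h1 : ρ k (ρ g v) = ρ g v := hle ⟨v, hv, rfl⟩ ⟨k, hk⟩ (mem_top _)
    rw [act_mul, act_mul, h1, act_inv_cancel]
    exact hv
  -- the transferred offender meets the hypothesis on `W`
  set φ : K →* X := (MulAut.conj g⁻¹).toMonoidHom.comp K.subtype with hφ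
  have hO₂H : O₁.map φ ≤ H := by
    rintro _ ⟨r, hr, rfl⟩
    show g⁻¹ * (r : X) * g⁻¹⁻¹ ∈ H
    rw [inv_inv]
    exact hgL₀ _ (le_sup_right.trans hAL₀ (show (r : X) ∈ OL from hO₁R hr))
  obtain ⟨h, hh, hle⟩ := exists_conj_le_sylow_of hO₂H
    (((pCoreOf_isPGroup L).comap_subtype.to_le hO₁R).map φ) hPH P.2 (not_dvd_relIndex_sylow P hPH)
  have hO₂ : GoodMod ρ (O₁.map φ) W := by
    have h1 := hgood.translate h⁻¹
    have e : W.map (ρ h⁻¹ : V →+ V) = W := le_antisymm
      (by rintro _ ⟨v, hv, rfl⟩; exact H.inv_mem hh v hv)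
      fun v hv => ⟨ρ h v, hh v hv, act_inv_cancel ρ h v⟩
    rw [e] at h1
    refine h1.mono ?_
    have h2 := Subgroup.map_mono (f := (MulAut.conj h⁻¹).toMonoidHom) hle
    rwa [← map_conj_mul, inv_mul_cancel, map_conj_one] at h2
  have hO₁good : GoodMod ρK O₁ X₂ := by
    refine (goodMod_map_iff (f := φ) (ρ := ρ) (j := (ρ g⁻¹ : V →+ V))
      (fun a b e => (act_cancel_inv ρ g a).symm.trans ((congrArg (ρ g) e).trans (act_cancel_inv ρ g b)))
      (fun k u => ?_)).2 ?_
    · show ρ g⁻¹ (ρ k u) = ρ (g⁻¹ * k * g⁻¹⁻¹) (ρ g⁻¹ u)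
      rw [inv_inv, act_mul, act_mul, act_cancel_inv]
    · have e : X₂.map (ρ g⁻¹ : V →+ V) = W := le_antisymm
        (by rintro _ ⟨_, ⟨v, hv, rfl⟩, rfl⟩; exact (act_inv_cancel ρ g v).symm ▸ hv)
        fun v hv => ⟨ρ g v, ⟨v, hv, rfl⟩, act_inv_cancel ρ g v⟩
      rw [e]; exact hO₂
  have hFK : FK ≤ fixedPts ρK O₁ := fixedPts_top_le ρK O₁
  have hc₁ : Nat.card (X₂ ⊓ FK : AddSubgroup V) * FK.relIndex X₂ = Nat.card X₂ := by
    rw [← AddSubgroup.inf_relIndex_left X₂ FK, ← AddSubgroup.relIndex_bot_left (X₂ ⊓ FK),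
      AddSubgroup.relIndex_mul_relIndex ⊥ _ X₂ bot_le inf_le_left, AddSubgroup.relIndex_bot_left]
  have hc₂ : Nat.card (O₁ ⊓ ptStab ρK X₂ : Subgroup K) * (ptStab ρK X₂).relIndex O₁ = Nat.card O₁ := by
    rw [← Subgroup.inf_relIndex_left O₁ (ptStab ρK X₂), ← Subgroup.relIndex_bot_left (O₁ ⊓ ptStab ρK X₂),
      Subgroup.relIndex_mul_relIndex ⊥ _ O₁ bot_le inf_le_left, Subgroup.relIndex_bot_left]
  have hkey : FK.relIndex X₂ ≤ (ptStab ρK X₂).relIndex O₁ := by
    refine Nat.le_of_mul_le_mul_left ?_ (Nat.mul_pos (Nat.card_pos (α := (X₂ ⊓ FK : AddSubgroup V)))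
      (Nat.card_pos (α := (O₁ ⊓ ptStab ρK X₂ : Subgroup K))))
    calc _ = Nat.card X₂ * Nat.card (O₁ ⊓ ptStab ρK X₂ : Subgroup K) := by rw [← hc₁]; ring
      _ ≤ Nat.card (X₂ ⊓ FK : AddSubgroup V) * Nat.card O₁ := hO₁c
      _ = _ := by rw [← hc₂]; ring
  have hlt := hO₁good.good O₁ le_rfl (fun t ht w hw => hFK (hO₁F t ht w hw)) fun hle' => hX₂F <| by
    rw [Subgroup.relIndex_eq_one.2 hle'] at hkey
    exact AddSubgroup.relIndex_eq_one.1 (le_antisymm hkey
      (Nat.one_le_iff_ne_zero.2 AddSubgroup.index_ne_zero_of_finite))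
  exact hlt.not_ge (le_trans (AddSubgroup.relIndex_le_of_le_left hFK
    AddSubgroup.index_ne_zero_of_finite) hkey)

end Mod

private theorem closure_aux : ∀ (n : ℕ) (X : Type u) [Group X] [Finite X] (V : Type v) [AddCommGroup V]
    [Finite V] (ρ : X →* AddMonoid.End V), Nat.card X ≤ n → (∀ v : V, v + v = 0) → S3Free (X ⧸ ρ.ker) →
    ∀ (P : Sylow 2 X) (W : AddSubgroup V), GoodMod ρ (P : Subgroup X) W →
      GoodMod ρ (P : Subgroup X) (closureMod ρ W) := by
  intro n
  induction n with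
  | zero =>
    intro X _ _ V _ _ ρ hn
    have := Nat.card_pos (α := X)
    omega
  | succ n ih =>
    intro X _ _ V _ _ ρ hn hV2 hS P W hW
    have : Fact (Nat.Prime 2) := ⟨Nat.prime_two⟩
    set M := closureMod ρ W with hM
    set σ := subRep ρ M (closureMod_inv ρ W) with hσ
    set π := QuotientGroup.mk' σ.ker with hπ
    have hπs : Function.Surjective π := QuotientGroup.mk'_surjective σ.ker
    have hS' : S3Free (X ⧸ σ.ker) := hS.of_surjective
      (QuotientGroup.map ρ.ker σ.ker (MonoidHom.id X) fun x hx => AddMonoidHom.ext fun w =>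
        Subtype.ext (DFunLike.congr_fun (MonoidHom.mem_ker.1 hx) (w : V)))
      fun y => QuotientGroup.induction_on y fun x => ⟨QuotientGroup.mk x, rfl⟩
    have e₁ : ∀ U : AddSubgroup M, GoodMod σ (P : Subgroup X) U ↔ GoodMod ρ (P : Subgroup X) (U.map M.subtype) :=
      fun U => by
        rw [goodMod_map_iff (f := MonoidHom.id X) (ρ := ρ) (j := M.subtype) Subtype.val_injective
          (fun _ _ => rfl), Subgroup.map_id]
    have e₂ : ∀ U : AddSubgroup M,
        GoodMod (faithRep σ) ((P.mapSurjective hπs : Sylow 2 (X ⧸ σ.ker)) : Subgroup (X ⧸ σ.ker)) U ↔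
          GoodMod σ (P : Subgroup X) U :=
      fun U => by
        rw [goodMod_map_iff (f := π) (ρ := faithRep σ) (σ := σ) (j := AddMonoidHom.id M) Function.injective_id
          (fun _ _ => rfl) (W := U), Sylow.coe_mapSurjective, AddSubgroup.map_id]
    set W' := W.addSubgroupOf M
    have hW' : W'.map M.subtype = W := AddSubgroup.map_addSubgroupOf_eq_of_le (le_closureMod ρ W)
    have htop : closureMod (faithRep σ) W' = ⊤ := by
      refine eq_top_iff.2 fun m _ => ?_
      have h1 : M ≤ (closureMod (faithRep σ) W').map M.subtype := by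
        refine closureMod_le ?_ fun w hw => ?_
        · rintro x _ ⟨u, hu, rfl⟩
          exact ⟨faithRep σ (π x) u, closureMod_inv _ W' _ u hu, rfl⟩
        · exact ⟨⟨w, le_closureMod ρ W hw⟩, le_closureMod _ W' hw, rfl⟩
      obtain ⟨u, hu, e⟩ := h1 m.2
      exact (Subtype.ext e : u = m) ▸ hu
    have hX : Nat.card (X ⧸ σ.ker) ≤ n + 1 := (Nat.card_le_card_of_surjective π hπs).trans hn
    have h2 := closure_step (ρ := faithRep σ) faithRep_eq_one (fun v => Subtype.ext (hV2 v)) hS'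
      (P := P.mapSurjective hπs) ((e₂ W').2 ((e₁ W').2 (hW'.symm ▸ hW))) htop
      fun Y hY => ih Y M _ (by
        have h3 : Nat.card Y < Nat.card (X ⧸ σ.ker) := lt_of_le_of_ne (Subgroup.card_le_card_group Y)
          fun e => hY (eq_top_of_card_eq Y e)
        omega) (fun v => Subtype.ext (hV2 v))
        ((hS'.sub Y).of_surjective _ (QuotientGroup.mk'_surjective _))
    have h4 := (e₁ ⊤).1 ((e₂ ⊤).1 h2)
    rwa [← AddMonoidHom.range_eq_map, AddSubgroup.range_subtype] at h4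

/-- The span of the translates of a good piece is good, if the image of `X` has no section `S₃`. -/
theorem GoodMod.closure' {X : Type u} [Group X] [Finite X] {V : Type v} [AddCommGroup V] [Finite V]
    {ρ : X →* AddMonoid.End V} (hV2 : ∀ v : V, v + v = 0) (hS : S3Free (X ⧸ ρ.ker)) {P : Sylow 2 X}
    {W : AddSubgroup V} (h : GoodMod ρ (P : Subgroup X) W) :
    GoodMod ρ (P : Subgroup X) (closureMod ρ W) :=
  closure_aux _ X V ρ le_rfl hV2 hS P W h

/-- The span of the translates of a good piece is good, if `X` has no section `S₃`. -/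
theorem GoodMod.closure {X : Type u} [Group X] [Finite X] {V : Type v} [AddCommGroup V] [Finite V]
    {ρ : X →* AddMonoid.End V} (hV2 : ∀ v : V, v + v = 0) (hS : S3Free X) {P : Sylow 2 X}
    {W : AddSubgroup V} (h : GoodMod ρ (P : Subgroup X) W) :
    GoodMod ρ (P : Subgroup X) (closureMod ρ W) :=
  h.closure' hV2 (hS.of_surjective _ (QuotientGroup.mk'_surjective _))

section Sub

variable {G : Type u} [Group G]

theorem GoodSub.map_equiv {S U : Subgroup G} (h : GoodSub S U) (e : G ≃* G) :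
    GoodSub (S.map e.toMonoidHom) (U.map e.toMonoidHom) := by
  have hc : ∀ T : Subgroup G, (centralizer ((T.map e.toMonoidHom : Subgroup G) : Set G)).comap
      e.toMonoidHom = centralizer (T : Set G) := by
    intro T
    ext x
    simp only [Subgroup.mem_comap, Subgroup.mem_centralizer_iff]
    constructor
    · intro hx t ht
      exact e.injective (by rw [map_mul, map_mul]; exact hx _ ⟨t, ht, rfl⟩)
    · rintro hx _ ⟨t, ht, rfl⟩
      show e t * e x = e x * e t
      rw [← map_mul, ← map_mul, hx t ht]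
  refine ⟨⟨⟨⟨?_⟩⟩, ?_⟩, (Subgroup.map_mono h.norm).trans (Subgroup.le_normalizer_map _), ?_⟩
  · rintro ⟨_, a, ha, rfl⟩ ⟨_, b, hb, rfl⟩
    refine Subtype.ext ?_
    show e a * e b = e b * e a
    rw [← map_mul, ← map_mul, h.comm ha hb]
  · rintro _ ⟨a, ha, rfl⟩
    show e a ^ 2 = 1
    rw [← map_pow, h.elem.2 a ha, map_one]
  · intro T hT hq hn
    have eT : (T.comap e.toMonoidHom).map e.toMonoidHom = T :=
      Subgroup.map_comap_eq_self_of_surjective e.surjective T
    rw [← eT] at hq hn ⊢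
    have hT₀ : T.comap e.toMonoidHom ≤ S := fun x hx => by
      obtain ⟨s, hs, e'⟩ := hT hx
      exact (e.injective e') ▸ hs
    have h1 := h.good _ hT₀ (fun s hs t ht v hv => e.injective (by
        have h2 := hq _ ⟨s, hs, rfl⟩ _ ⟨t, ht, rfl⟩ _ ⟨v, hv, rfl⟩
        rw [← map_commutatorElement] at h2
        rw [map_mul, map_mul]
        exact h2))
      fun hle => hn (Subgroup.map_le_iff_le_comap.2 ((hc U).symm ▸ hle))
    rwa [← hc U, ← hc (T.comap e.toMonoidHom), Subgroup.relIndex_comap, Subgroup.relIndex_comap] at h1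

variable {V : Subgroup G} [V.Normal] [IsMulCommutative V]

/-- The group condition on a subgroup of an abelian normal subgroup is the module condition. -/
theorem goodSub_iff_goodMod {S U : Subgroup G} (hU : U ≤ V) (hel : Cfsg.IsElementaryAbelian 2 U) :
    GoodSub S U ↔ GoodMod (ModuleTrick.conjEnd V) S (Subgroup.toAddSubgroup (U.subgroupOf V)) := by
  set ρ := ModuleTrick.conjEnd V
  set U' := Subgroup.toAddSubgroup (U.subgroupOf V)
  let val : Additive V → G := fun v => ((Additive.toMul v : V) : G)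
  have hval : ∀ (t : G) (v : Additive V), val (ρ t v) = t * val v * t⁻¹ :=
    fun t v => ModuleTrick.conjEnd_apply V t v
  have hinj : Function.Injective val := fun a b e => Additive.toMul.injective (Subtype.ext e)
  have hfx : ∀ (t : G) (v : Additive V), ρ t v = v ↔ t * val v = val v * t := fun t v => by
    rw [← hinj.eq_iff, hval, mul_inv_eq_iff_eq_mul]
  have hpt : ptStab ρ U' = centralizer (U : Set G) := by
    ext t
    rw [mem_ptStab, Subgroup.mem_centralizer_iff]
    constructor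
    · intro ht x hx
      exact ((hfx t (Additive.ofMul ⟨x, hU hx⟩)).1 (ht _ hx)).symm
    · exact fun ht v hv => (hfx t v).2 (ht _ hv).symm
  have hfix : ∀ (T : Subgroup G) (v : Additive V), v ∈ fixedPts ρ T ↔ ∀ s ∈ T, s * val v = val v * s :=
    fun T v => forall₂_congr fun s _ => hfx s v
  have hidx : ∀ T : Subgroup G, (fixedPts ρ T).relIndex U' = (centralizer (T : Set G)).relIndex U := by
    intro T
    have e : fixedPts ρ T = Subgroup.toAddSubgroup ((centralizer (T : Set G)).subgroupOf V) := by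
      ext v
      rw [hfix]
      exact ⟨fun h => Subgroup.mem_centralizer_iff.2 fun s hs => h s hs,
        fun h s hs => Subgroup.mem_centralizer_iff.1 h s hs⟩
    rw [e, Subgroup.relIndex_toAddSubgroup]
    show ((centralizer (T : Set G)).comap V.subtype).relIndex _ = _
    rw [Subgroup.relIndex_comap, Subgroup.map_subgroupOf_eq_of_le hU]
  have hcomm : ∀ (t : G) (v : Additive V), val (ρ t v - v) = ⁅t, val v⁆ := fun t v => by
    show val (ρ t v) / val v = _
    rw [hval, div_eq_mul_inv, commutatorElement_def]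
  have hq : ∀ T : Subgroup G, (∀ s ∈ T, ∀ t ∈ T, ∀ v ∈ U, s * ⁅t, v⁆ = ⁅t, v⁆ * s) ↔
      ∀ t ∈ T, ∀ w ∈ U', ρ t w - w ∈ fixedPts ρ T := by
    intro T
    constructor
    · intro h t ht w hw
      rw [hfix, hcomm]
      exact fun s hs => h s hs t ht (val w) hw
    · intro h s hs t ht x hx
      have h1 := h t ht (Additive.ofMul ⟨x, hU hx⟩) hx
      rw [hfix, hcomm] at h1
      exact h1 s hs
  constructor
  · intro h
    refine ⟨fun s hs w hw => ?_, fun T hT hTq hTn => ?_⟩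
    · show val (ρ s w) ∈ U
      rw [hval]
      exact (Subgroup.mem_normalizer_iff.1 (h.norm hs) _).1 hw
    · rw [hidx, hpt]
      exact h.good T hT ((hq T).2 hTq) fun hle => hTn (hle.trans hpt.ge)
  · intro h
    refine ⟨hel, Subgroup.le_normalizer_iff.2 fun s hs x hx => ?_, fun T hT hTq hTn => ?_⟩
    · have h1 : val (ρ s (Additive.ofMul ⟨x, hU hx⟩)) ∈ U := h.inv s hs _ hx
      rwa [hval] at h1
    · rw [← hidx, ← hpt]
      exact h.good T hT ((hq T).1 hTq) fun hle => hTn (hle.trans hpt.le)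

omit [V.Normal] [IsMulCommutative V]

/-- The normal closure of a good subgroup of the 2-core is good. -/
theorem GoodSub.normalClosure [Finite G] (hG : ¬ Cfsg.Involves (Equiv.Perm (Fin 4)) G) {P : Sylow 2 G}
    {W : Subgroup G} (h : GoodSub (P : Subgroup G) W) (hW : W ≤ Cfsg.pCore 2 G) :
    GoodSub (P : Subgroup G) (Subgroup.normalClosure (W : Set G)) := by
  have : Fact (Nat.Prime 2) := ⟨Nat.prime_two⟩
  have hQn : (Cfsg.pCore 2 G).Normal := Cfsg.pCore_normal 2 G
  set N := Subgroup.normalClosure (W : Set G) with hN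
  set C := Group.conjugatesOfSet (W : Set G) with hC
  have hQP : ∀ g : G, Cfsg.pCore 2 G ≤ (P : Subgroup G).map (MulAut.conj g).toMonoidHom := fun g x hx =>
    mem_cg.2 (CfsgLib.PCore.pCore_le_sylow P (by simpa using hQn.conj_mem x hx g⁻¹))
  have hWQ : ∀ g : G, W.map (MulAut.conj g).toMonoidHom ≤ Cfsg.pCore 2 G := by
    rintro g _ ⟨x, hx, rfl⟩
    exact hQn.conj_mem x (hW hx) g
  have hCm : ∀ x ∈ C, ∃ g, x ∈ W.map (MulAut.conj g).toMonoidHom := fun x hx => by
    obtain ⟨a, ha, hax⟩ := Group.mem_conjugatesOfSet_iff.1 hx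
    obtain ⟨g, rfl⟩ := isConj_iff.1 hax
    exact ⟨g, a, ha, rfl⟩
  have hCc : ∀ x ∈ C, ∀ y ∈ C, x * y = y * x := by
    intro x hx y hy
    obtain ⟨a, ha⟩ := hCm x hx
    obtain ⟨b, hb⟩ := hCm y hy
    exact (h.map_equiv (MulAut.conj a)).commute (h.map_equiv (MulAut.conj b))
      ((hWQ b).trans (hQP a)) ((hWQ a).trans (hQP b)) x ha y hb
  have h1 : N ≤ centralizer C := (Subgroup.closure_le _).2 fun x hx =>
    Subgroup.mem_centralizer_iff.2 fun y hy => hCc y hy x hx
  have h2 : N ≤ centralizer (N : Set G) := (Subgroup.closure_le _).2 fun x hx =>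
    Subgroup.mem_centralizer_iff.2 fun y hy => (Subgroup.mem_centralizer_iff.1 (h1 hy) x hx).symm
  have hNc : IsMulCommutative N :=
    ⟨⟨fun a b => Subtype.ext (Subgroup.mem_centralizer_iff.1 (h2 b.2) a a.2)⟩⟩
  have hsq : ∀ x ∈ N, x ^ 2 = 1 := by
    intro x hx
    induction hx using Subgroup.closure_induction with
    | mem y hy =>
      obtain ⟨g, hg⟩ := hCm y hy
      exact (h.map_equiv (MulAut.conj g)).elem.2 y hg
    | one => exact one_pow 2
    | mul a b ha hb ea eb =>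
      have hab : Commute a b := Subgroup.mem_centralizer_iff.1 (h2 hb) a ha
      rw [hab.mul_pow, ea, eb, one_mul]
    | inv a _ ea => rw [inv_pow, ea, inv_one]
  have hel : Cfsg.IsElementaryAbelian 2 N := ⟨hNc, hsq⟩
  set ρ := ModuleTrick.conjEnd N with hρ
  have hS : S3Free (G ⧸ ρ.ker) := by
    have hNp : IsPGroup 2 N := fun a => ⟨1, Subtype.ext (by simpa using hsq a a.2)⟩
    have h0 : ¬ Cfsg.Involves (Equiv.Perm (Fin 3)) (↥(normalizer (N : Set G)) ⧸
        (centralizer (N : Set G)).subgroupOf (normalizer (N : Set G))) :=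
      fun h' => hG (Cfsg.Agent.S2759.backward N hNp h')
    refine S3Free.of_surjective h0 (QuotientGroup.lift _
      ((QuotientGroup.mk' ρ.ker).comp (normalizer (N : Set G)).subtype) fun x hx => ?_) ?_
    · refine (QuotientGroup.eq_one_iff _).2 ?_
      rw [ModuleTrick.conjEnd_ker]
      exact hx
    · intro y
      induction y using QuotientGroup.induction_on with
      | H g => exact ⟨QuotientGroup.mk ⟨g, by rw [Subgroup.normalizer_eq_top]; exact mem_top g⟩, rfl⟩
  have hV2 : ∀ v : Additive N, v + v = 0 := fun v => Additive.toMul.injective (Subtype.ext (by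
    show ((Additive.toMul v : N) : G) * ((Additive.toMul v : N) : G) = 1
    rw [← pow_two]; exact hsq _ (Additive.toMul v).2))
  have h3 := ((goodSub_iff_goodMod Subgroup.le_normalClosure h.elem).1 h).closure' hV2 hS
  set W' := Subgroup.toAddSubgroup (W.subgroupOf N)
  have h4 : closureMod ρ W' = Subgroup.toAddSubgroup (N.subgroupOf N) := by
    refine le_antisymm (fun v _ => (Additive.toMul v).2) fun v _ => ?_
    have h5 : N ≤ ((Subgroup.toAddSubgroup (G := N)).symm (closureMod ρ W')).map N.subtype := by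
      refine (Subgroup.closure_le _).2 fun x hx => ?_
      obtain ⟨g, a, ha, rfl⟩ := hCm x hx
      refine ⟨Additive.toMul (ρ g (Additive.ofMul ⟨a, Subgroup.le_normalClosure ha⟩)), ?_,
        ModuleTrick.conjEnd_apply N g _⟩
      show ρ g (Additive.ofMul ⟨a, Subgroup.le_normalClosure ha⟩) ∈ closureMod ρ W'
      exact AddSubgroup.subset_closure ⟨g, Additive.ofMul ⟨a, Subgroup.le_normalClosure ha⟩, ha, rfl⟩
    obtain ⟨y, hy, e⟩ := h5 (Additive.toMul v).2
    rw [Subtype.ext e] at hy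
    exact hy
  rw [h4] at h3
  exact (goodSub_iff_goodMod le_rfl hel).2 h3

end Sub

/-- The group form of inheritance. -/
theorem goodSub_normalClosure {G : Type u} [Group G] [Finite G] (P : Sylow 2 G)
    (hS4 : ¬ Cfsg.Involves (Equiv.Perm (Fin 4)) G) {W : Subgroup G} (hW : GoodSub (P : Subgroup G) W)
    (hWQ : W ≤ Cfsg.pCore 2 G) : GoodSub (P : Subgroup G) (Subgroup.normalClosure (W : Set G)) :=
  hW.normalClosure hS4 hWQ

end CfsgLib.SFour
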