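import Cfsg.Agent.Lib.SFour.Models
import Cfsg.Agent.Lib.SFour.GPart
import Cfsg.Agent.Lib.SFour.Inherit

/-!
The context of the universal theorem: the data of the group part of a constrained model, read in the
2-group `S`.
-/

set_option autoImplicit false
set_option linter.unusedSectionVars false
set_option linter.style.haveILetI false

namespace CfsgLib.SFour

open Subgroup
open scoped commutatorElement

universe u v

section Map

variable {S : Type u} [Group S] {G : Type v} [Group G] {f : S →* G}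

theorem comap_centralizer_map (hf : Function.Injective f) (X : Subgroup S) :
    (centralizer ((X.map f : Subgroup G) : Set G)).comap f = centralizer (X : Set S) := by
  ext s
  simp only [mem_comap, mem_centralizer_iff]
  constructor
  · intro h x hx
    exact hf (by rw [map_mul, map_mul]; exact h _ ⟨x, hx, rfl⟩)
  · rintro h _ ⟨x, hx, rfl⟩
    rw [← map_mul, ← map_mul, h x hx]

theorem relIndex_centralizer_map (hf : Function.Injective f) (X T : Subgroup S) :
    (centralizer ((X.map f : Subgroup G) : Set G)).relIndex (T.map f) =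
      (centralizer (X : Set S)).relIndex T := by
  rw [← comap_centralizer_map hf X, relIndex_comap]

theorem isElementaryAbelian_map_iff (hf : Function.Injective f) (X : Subgroup S) :
    Cfsg.IsElementaryAbelian 2 (X.map f) ↔ Cfsg.IsElementaryAbelian 2 X := by
  constructor
  · rintro ⟨h1, h2⟩
    refine ⟨⟨⟨fun x y => Subtype.ext (hf ?_)⟩⟩, fun x hx => hf ?_⟩
    · show f ((x : S) * y) = f ((y : S) * x)
      rw [map_mul, map_mul]
      exact congrArg Subtype.val
        (h1.1.comm (⟨f x, x, x.2, rfl⟩ : X.map f) ⟨f y, y, y.2, rfl⟩)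
    · rw [map_pow, map_one]
      exact h2 _ ⟨x, hx, rfl⟩
  · rintro ⟨h1, h2⟩
    refine ⟨⟨⟨?_⟩⟩, ?_⟩
    · rintro ⟨_, x, hx, rfl⟩ ⟨_, y, hy, rfl⟩
      refine Subtype.ext ?_
      show f x * f y = f y * f x
      rw [← map_mul, ← map_mul]
      exact congrArg f (congrArg Subtype.val (h1.1.comm (⟨x, hx⟩ : X) ⟨y, hy⟩))
    · rintro _ ⟨x, hx, rfl⟩
      rw [← map_pow, h2 x hx, map_one]

/-- Good subgroups are transported along injective homomorphisms, into the image. -/
theorem goodSub_map_iff (hf : Function.Injective f) (X : Subgroup S) :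
    GoodSub f.range (X.map f) ↔ GoodSub (⊤ : Subgroup S) X := by
  constructor
  · intro h
    refine ⟨(isElementaryAbelian_map_iff hf X).1 h.elem, fun s _ => ?_, fun T _ hq hn => ?_⟩
    · refine mem_normalizer_iff.2 fun x => ?_
      have := mem_normalizer_iff.1 (h.norm ⟨s, rfl⟩) (f x)
      rwa [← map_inv, ← map_mul, ← map_mul, mem_map_iff_mem hf, mem_map_iff_mem hf] at this
    · have h1 := h.good (T.map f) (map_le_range f T) ?_ ?_
      · rwa [relIndex_centralizer_map hf X T, relIndex_centralizer_map hf T X] at h1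
      · rintro _ ⟨s, hs, rfl⟩ _ ⟨t, ht, rfl⟩ _ ⟨w, hw, rfl⟩
        rw [← map_commutatorElement, ← map_mul, ← map_mul, hq s hs t ht w hw]
      · rw [map_le_iff_le_comap, comap_centralizer_map hf]
        exact hn
  · intro h
    refine ⟨(isElementaryAbelian_map_iff hf X).2 h.elem, ?_, fun T hT hq hn => ?_⟩
    · rintro _ ⟨s, rfl⟩
      exact le_normalizer_map f ⟨s, h.norm (mem_top s), rfl⟩
    · obtain ⟨T', rfl⟩ : ∃ T' : Subgroup S, T'.map f = T :=
        ⟨T.comap f, map_comap_eq_self hT⟩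
      rw [relIndex_centralizer_map hf X T', relIndex_centralizer_map hf T' X]
      refine h.good T' le_top (fun s hs t ht w hw => hf ?_) fun hle => hn ?_
      · rw [map_mul, map_mul, map_commutatorElement]
        exact hq _ ⟨s, hs, rfl⟩ _ ⟨t, ht, rfl⟩ _ ⟨w, hw, rfl⟩
      · rw [map_le_iff_le_comap, comap_centralizer_map hf]
        exact hle

end Map

variable {S : Type u} [Group S]

/-- A good subgroup of `S` outside the core of a constrained model, with one maximal overgroup, yields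
the data of the context. -/
theorem exists_ctx [Finite S] (_hS : IsPGroup 2 S) (m₀ : Model S)
    (hC : centralizer (Cfsg.pCore 2 m₀.G : Set m₀.G) ≤ Cfsg.pCore 2 m₀.G)
    {N : Subgroup S} (hN : GoodSub (⊤ : Subgroup S) N) (hNQ : ¬ N.map m₀.emb ≤ Cfsg.pCore 2 m₀.G)
    (hover : ∀ H : Subgroup m₀.G, m₀.emb.range ≤ H → H ≠ ⊤ →
      H ≤ normalizer ((N.map m₀.emb : Subgroup m₀.G) : Set m₀.G))
    (hctrlQ : ∀ K : Subgroup S, K ≠ ⊥ → K ≠ ⊤ → m₀.Norm K →
      ∃ V : Subgroup S, V.Normal ∧ K < V ∧ m₀.Ctrl K V) :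
    ∃ c : Ctx S, c.N = N ∧ c.m₀ = m₀ := by
  haveI : Fact (Nat.Prime 2) := ⟨Nat.prime_two⟩
  obtain ⟨P, hP⟩ := m₀.syl
  set Q := Cfsg.pCore 2 m₀.G
  haveI : Q.Normal := Cfsg.pCore_normal 2 m₀.G
  have hinj := m₀.inj
  have hPr : ∀ X : Subgroup S, X.map m₀.emb ≤ (P : Subgroup m₀.G) := fun X =>
    hP.symm ▸ map_le_range m₀.emb X
  have hnormQ : ∀ K : Subgroup S, m₀.Norm K → K.map m₀.emb ≤ Q := fun K hK =>
    CfsgLib.PCore.le_pCore hK (P.2.to_le (hPr K))
  -- overgroups of `S` normalising a normal subgroup of `S` that is not normal in the model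
  have hstep : ∀ W : Subgroup S, W.Normal → ¬ m₀.Norm W →
      normalizer ((W.map m₀.emb : Subgroup m₀.G) : Set m₀.G) ≤
        normalizer ((N.map m₀.emb : Subgroup m₀.G) : Set m₀.G) := fun W hW hnn =>
    hover _ m₀.range_le_normalizer fun e => hnn (normalizer_eq_top_iff.1 e)
  have hNP : GoodSub (P : Subgroup m₀.G) (N.map m₀.emb) := hP.symm ▸ (goodSub_map_iff hinj N).2 hN
  -- the image of `N` is strongly closed modulo the core
  have hclosed : ∀ x ∈ N.map m₀.emb, ∀ g, g * x * g⁻¹ ∈ (P : Subgroup m₀.G) →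
      g * x * g⁻¹ ∈ N.map m₀.emb ⊔ Q := by
    rintro _ ⟨x, hx, rfl⟩ g hg
    rw [hP] at hg
    set K := Q.comap m₀.emb
    have hKQ : K.map m₀.emb = Q := map_comap_eq_self (hP ▸ CfsgLib.PCore.pCore_le_sylow P)
    have hKn : m₀.Norm K := by
      show (K.map m₀.emb).Normal
      rw [hKQ]
      infer_instance
    have hKbot : K ≠ ⊥ := by
      intro e
      have hQ : Q = ⊥ := by rw [← hKQ, e, Subgroup.map_bot]
      refine hNQ fun y _ => hC ?_
      rw [hQ, mem_centralizer_iff]
      intro z hz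
      rw [(mem_bot.1 hz : z = 1), one_mul, mul_one]
    have hKtop : K ≠ ⊤ := fun e => hNQ (by rw [← hKQ, e]; exact Subgroup.map_mono le_top)
    obtain ⟨V, hV, hKV, hctrl⟩ := hctrlQ K hKbot hKtop hKn
    have hVn : ¬ m₀.Norm V := fun h => by
      refine not_le_of_gt hKV fun y hy => ?_
      exact hnormQ V h ⟨y, hy, rfl⟩
    have hA : ∀ y ∈ Subgroup.zpowers x, g * m₀.emb y * g⁻¹ ∈ m₀.emb.range := by
      rintro _ ⟨k, rfl⟩
      rw [map_zpow, ← conj_zpow]
      exact zpow_mem hg k
    obtain ⟨n, hn, hk⟩ := hctrl _ g hA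
    have h1 := hk x (Subgroup.mem_zpowers x)
    rw [hKQ] at h1
    have h2 : n * m₀.emb x * n⁻¹ ∈ N.map m₀.emb :=
      (mem_normalizer_iff.1 (hstep V hV hVn hn) _).1 ⟨x, hx, rfl⟩
    have h3 := mul_mem (mem_sup_right (S := N.map m₀.emb) h1) (mem_sup_left (T := Q) h2)
    rwa [inv_mul_cancel_right] at h3
  obtain ⟨d⟩ := exists_gdata P hC m₀.free (hPr N) hNP hNQ
    (fun H hH => hover H (hP ▸ hH)) hclosed
    (fun X hXQ hX => goodSub_normalClosure P m₀.free hX hXQ)
  -- reading `d` in `S`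
  obtain ⟨a, haN, hae⟩ := d.a_mem
  set j := Function.invFun m₀.emb
  set U := d.D.comap m₀.emb
  set T := d.D'.comap m₀.emb
  set Y := d.Y.comap m₀.emb
  have hUe : U.map m₀.emb = d.D := map_comap_eq_self (d.D_le.trans (map_le_range m₀.emb N))
  have hTe : T.map m₀.emb = d.D' := map_comap_eq_self (hP ▸ d.D'_le)
  have hYe : Y.map m₀.emb = d.Y :=
    map_comap_eq_self ((d.Y_le.trans inf_le_left).trans (d.D_le.trans (map_le_range m₀.emb N)))
  have hYT : Y ≤ T := fun y hy => (d.Y_le hy).2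
  have hNmem : ∀ v : S, v ∈ N → m₀.emb v ∈ N.map m₀.emb := fun v hv => ⟨v, hv, rfl⟩
  have htau : ∀ f ∈ T, m₀.emb (j (d.tau (m₀.emb f))) = d.tau (m₀.emb f) := fun f hf =>
    Function.invFun_eq (MonoidHom.mem_range.1 (hP.le (d.D'_le (d.tau_mem _ hf))))
  have hcore : ∀ K : Subgroup S, m₀.Norm K → ∀ z ∈ K, m₀.emb z ∈ Q := fun K hK z hz =>
    hnormQ K hK ⟨z, hz, rfl⟩
  have hTK : ∀ K : Subgroup S, (T ⊓ K ⊔ Y).map m₀.emb = d.D' ⊓ K.map m₀.emb ⊔ d.Y := fun K => by
    rw [Subgroup.map_sup, Subgroup.map_inf _ _ _ hinj, hTe, hYe]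
  have hUK : ∀ K : Subgroup S, (U ⊓ K ⊔ Y).map m₀.emb = d.D ⊓ K.map m₀.emb ⊔ d.Y := fun K => by
    rw [Subgroup.map_sup, Subgroup.map_inf _ _ _ hinj, hUe, hYe]
  let sd : SData N :=
    { a := a
      tau := fun f => j (d.tau (m₀.emb f))
      T := T
      U := U
      Y := Y
      Com₀ := fun K => m₀.Norm K
      Fix := fun z => Commute (m₀.emb z) d.p
      a_mem := haN
      a_not := fun h => d.a_not (hae ▸ h)
      U_le := fun x hx => (mem_map_iff_mem hinj).1 (d.D_le hx)
      Y_le := fun y hy => d.Y_le hy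
      T_abelian := fun f hf g hg => hinj (by rw [map_mul, map_mul]; exact d.D'_abelian _ hf _ hg)
      T_sq := fun f hf => hinj (by rw [map_mul, map_one]; exact d.D'_sq _ hf)
      inv := fun f hf v hv => by
        show m₀.emb ⁅f, v⁆ ∈ d.D
        rw [map_commutatorElement]
        exact d.inv _ hf _ (hNmem v hv)
      inv' := fun f hf w hw => by
        show m₀.emb ⁅f, w⁆ ∈ d.Y
        rw [map_commutatorElement]
        exact d.inv' _ hf _ hw
      fixed := fun v hv => by
        refine ⟨fun h => (d.fixed _ (hNmem v hv)).1 fun g hg => ?_, fun h f hf => hinj ?_⟩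
        · obtain ⟨f, hf, rfl⟩ := hTe.ge hg
          rw [← map_mul, ← map_mul, h f hf]
        · rw [map_mul, map_mul]
          exact (d.fixed _ (hNmem v hv)).2 h _ hf
      faith := fun v hv hvU f hf hY => d.faith _ (hNmem v hv) hvU _ hf (by
        rw [← map_commutatorElement]; exact hY)
      surj := fun v hv hvU w hw => by
        obtain ⟨g, hg, hY⟩ := d.surj _ (hNmem v hv) hvU _ hw
        obtain ⟨f, hf, rfl⟩ := hTe.ge hg
        refine ⟨f, hf, ?_⟩
        show m₀.emb (⁅f, v⁆ * w⁻¹) ∈ d.Y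
        rw [map_mul, map_commutatorElement, map_inv]
        exact hY
      big := by
        have h := d.big
        rw [← hUe, ← hYe, card_map_of_injective hinj, card_map_of_injective hinj,
          relIndex_map_map_of_injective _ _ hinj] at h
        exact h
      tau_mem := fun f hf => by
        show m₀.emb _ ∈ d.D'
        rw [htau f hf]
        exact d.tau_mem _ hf
      tau_mul := fun f hf g hg => by
        show m₀.emb _ ∈ d.Y
        rw [map_mul, map_inv, htau _ (mul_mem hf hg)]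
        simp only [map_mul, htau f hf, htau g hg]
        exact d.tau_mul _ hf _ hg
      tau_adj := fun f hf g hg => hinj (by
        simp only [map_commutatorElement]
        rw [htau f hf, htau g hg, hae]
        exact d.tau_adj _ hf _ hg)
      tau_inj := fun f hf hY => d.tau_inj _ hf (htau f hf ▸ hY)
      tau_inj' := fun f hf hY => d.tau_inj' _ hf (by
        have h1 : m₀.emb (j (d.tau (m₀.emb f)) * f) ∈ d.Y := hY
        rwa [map_mul, htau f hf] at h1)
      tau_normal := fun K hK f hf => by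
        have hfT : f ∈ T := sup_le inf_le_left hYT hf
        rw [← mem_map_iff_mem hinj, hTK, htau f hfT]
        exact d.tau_normal _ hK (hPr K) _ ((hTK K).le ⟨f, hf, rfl⟩)
      z_norm := fun K hK z hz hzp f hf => by
        show m₀.emb _ ∈ d.D'
        rw [map_mul, map_mul, map_inv]
        exact d.z_norm _ (hcore K hK z hz) hzp _ hf
      z_norm_Y := fun K hK z hz hzp y hy => by
        show m₀.emb _ ∈ d.Y
        rw [map_mul, map_mul, map_inv]
        exact d.z_norm_Y _ (hcore K hK z hz) hzp _ hy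
      tau_fixed := fun K hK z hz hzp f hf => by
        have h1 : z * f * z⁻¹ ∈ T := by
          show m₀.emb _ ∈ d.D'
          rw [map_mul, map_mul, map_inv]
          exact d.z_norm _ (hcore K hK z hz) hzp _ hf
        show m₀.emb _ ∈ d.Y
        rw [map_mul, map_inv, htau _ h1]
        simp only [map_mul, map_inv, htau f hf]
        exact d.tau_fixed _ (hcore K hK z hz) hzp _ hf
      a_fixed := fun K hK z hz hzp => by
        show m₀.emb ⁅z, a⁆ ∈ d.Y
        rw [map_commutatorElement, hae]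
        exact d.a_fixed _ (hcore K hK z hz) hzp
      decomp := fun K hK r hr => by
        obtain ⟨d₁, hd₁, f₁, hf₁, _, ⟨z, hz, rfl⟩, hzp, he⟩ :=
          d.decomp _ hK (hPr K) _ ⟨r, hr, rfl⟩
        obtain ⟨d₀, hd₀, rfl⟩ := (hUK K).ge hd₁
        obtain ⟨f₀, hf₀, rfl⟩ := (hTK K).ge hf₁
        exact ⟨d₀, hd₀, f₀, hf₀, z, hz, hzp, hinj (by rw [map_mul, map_mul]; exact he)⟩
      dvd := fun K hK v hv hvU w hw => by
        obtain ⟨g, hg, hY⟩ := d.dvd _ hK (hPr K) _ (hNmem v hv) hvU (m₀.emb w)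
          ⟨hNmem w hw.1, w, hw.2, rfl⟩
        obtain ⟨f, hf, rfl⟩ := hTe.ge hg.1
        refine ⟨f, ⟨hf, (mem_map_iff_mem hinj).1 hg.2⟩, ?_⟩
        show m₀.emb (⁅f, v⁆ * w⁻¹) ∈ d.Y
        rw [map_mul, map_commutatorElement, map_inv]
        exact hY }
  refine ⟨{ N := N, d := sd, m₀ := m₀, good := hN, com₀ := fun K h => h,
            small := fun X hX hgood => d.small _ (map_le_iff_le_comap.2 hX)
              (hP.symm ▸ (goodSub_map_iff hinj X).2 hgood),
            descend := ?_ }, rfl, rfl⟩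
  -- `p` conjugates `D` into `S`
  intro K W _ hW hKn hctrl hWn f hf
  have hA : ∀ y ∈ U, d.p * m₀.emb y * d.p⁻¹ ∈ m₀.emb.range := fun y hy =>
    hP ▸ d.D'_le (d.D'_eq.ge ⟨_, hy, rfl⟩)
  obtain ⟨n, hn, hk⟩ := hctrl U d.p hA
  obtain ⟨x, hx, hfx⟩ := d.D'_eq.le (show m₀.emb f ∈ d.D' from hf)
  obtain ⟨y, hy, rfl⟩ := hUe.ge hx
  have h1 : n * m₀.emb y * n⁻¹ ∈ N.map m₀.emb :=
    (mem_normalizer_iff.1 (hstep W hW hWn hn) _).1 (d.D_le hy)
  have h2 := mul_mem (mem_sup_right (S := N.map m₀.emb) (hk y hy))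
    (mem_sup_left (T := K.map m₀.emb) h1)
  rw [inv_mul_cancel_right, ← Subgroup.map_sup] at h2
  refine (mem_map_iff_mem hinj).1 ?_
  rw [← hfx]
  exact h2

end CfsgLib.SFour
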