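import Cfsg.Agent.Lib.SFour.Config

set_option autoImplicit false
set_option linter.unusedSectionVars false
set_option linter.style.haveILetI false

/-! Zeros of functions of low degree between elementary abelian 2-groups. -/

namespace CfsgLib.SFour

universe u v w

/-- All differences of order `d + 1` vanish. -/
def DegLE {G : Type u} [AddCommGroup G] {A : Type v} [AddCommGroup A] : ℕ → (G → A) → Prop
  | 0, F => ∀ a x, F (x + a) = F x
  | d + 1, F => ∀ a, DegLE d fun x => F (x + a) - F x

section Api

variable {G : Type u} [AddCommGroup G] {A : Type v} [AddCommGroup A]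

theorem DegLE.comp {B : Type w} [AddCommGroup B] (φ : A →+ B) :
    ∀ {d : ℕ} {F : G → A}, DegLE d F → DegLE d fun x => φ (F x)
  | 0, _, h => fun a x => congrArg φ (h a x)
  | d + 1, F, h => fun a => by
    have := DegLE.comp φ (h a)
    simpa only [map_sub] using this

theorem DegLE.restrict {H : Type w} [AddCommGroup H] (ι : H →+ G) :
    ∀ {d : ℕ} {F : G → A}, DegLE d F → DegLE d fun x => F (ι x)
  | 0, F, h => fun a x => by show F (ι (x + a)) = F (ι x); rw [map_add]; exact h _ _
  | d + 1, F, h => fun a => by
    have := DegLE.restrict ι (h (ι a))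
    simpa only [map_add] using this

theorem DegLE.const (c : A) : ∀ d : ℕ, DegLE d fun _ : G => c
  | 0 => fun _ _ => rfl
  | d + 1 => fun _ => by simpa only [sub_self] using DegLE.const (0 : A) d

theorem DegLE.succ : ∀ {d : ℕ} {F : G → A}, DegLE d F → DegLE (d + 1) F
  | 0, F, h => fun a => by
    have : (fun x => F (x + a) - F x) = fun _ => (0 : A) := funext fun x => by rw [h a x, sub_self]
    rw [this]; exact DegLE.const 0 0
  | d + 1, F, h => fun a => DegLE.succ (h a)

theorem DegLE.add : ∀ {d : ℕ} {F F' : G → A}, DegLE d F → DegLE d F' → DegLE d fun x => F x + F' x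
  | 0, F, F', h, h' => fun a x => by show F (x + a) + F' (x + a) = F x + F' x; rw [h a x, h' a x]
  | d + 1, F, F', h, h' => fun a => by
    have := DegLE.add (h a) (h' a)
    have e : (fun x => F (x + a) + F' (x + a) - (F x + F' x)) =
        fun x => F (x + a) - F x + (F' (x + a) - F' x) := funext fun x => by abel
    show DegLE d fun x => F (x + a) + F' (x + a) - (F x + F' x)
    rw [e]; exact this

theorem DegLE.shift : ∀ {d : ℕ} {F : G → A}, DegLE d F → ∀ c, DegLE d fun x => F (x + c)
  | 0, F, h, c => fun a x => by show F (x + a + c) = F (x + c); rw [add_right_comm, h a]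
  | d + 1, F, h, c => fun a => by
    have := DegLE.shift (h a) c
    show DegLE d fun x => F (x + a + c) - F (x + c)
    simpa only [add_right_comm _ c a] using this

theorem DegLE.mul {R : Type v} [CommRing R] : ∀ (n d e : ℕ), d + e = n → ∀ {F F' : G → R},
    DegLE d F → DegLE e F' → DegLE n fun x => F x * F' x := by
  intro n
  induction n with
  | zero =>
    intro d e h F F' hF hF'
    obtain ⟨rfl, rfl⟩ : d = 0 ∧ e = 0 := by omega
    exact fun a x => by show F (x + a) * F' (x + a) = F x * F' x; rw [hF a x, hF' a x]
  | succ n ih =>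
    intro d e h F F' hF hF'
    rcases Nat.eq_zero_or_pos d with rfl | hd
    · obtain rfl : e = n + 1 := by omega
      have e : (fun x => F x * F' x) = fun x => AddMonoidHom.mulLeft (F 0) (F' x) := funext fun x => by
        have := hF x 0
        rw [zero_add] at this
        show F x * F' x = F 0 * F' x
        rw [this]
      rw [e]; exact hF'.comp _
    rcases Nat.eq_zero_or_pos e with rfl | he
    · obtain rfl : d = n + 1 := by omega
      have e : (fun x => F x * F' x) = fun x => AddMonoidHom.mulRight (F' 0) (F x) := funext fun x => by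
        have := hF' x 0
        rw [zero_add] at this
        show F x * F' x = F x * F' 0
        rw [this]
      rw [e]; exact hF.comp _
    obtain ⟨d', rfl⟩ : ∃ d', d = d' + 1 := ⟨d - 1, by omega⟩
    obtain ⟨e', rfl⟩ : ∃ e', e = e' + 1 := ⟨e - 1, by omega⟩
    intro a
    have h1 := ih (d' + 1) e' (by omega) (hF.shift a) (hF' a)
    have h2 := ih d' (e' + 1) (by omega) (hF a) hF'
    have e : (fun x => F (x + a) * F' (x + a) - F x * F' x) =
        fun x => F (x + a) * (F' (x + a) - F' x) + (F (x + a) - F x) * F' x := funext fun x => by ring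
    show DegLE n fun x => F (x + a) * F' (x + a) - F x * F' x
    rw [e]; exact h1.add h2

end Api

theorem exists_functional {G : Type u} [AddCommGroup G] [Finite G] (h2 : ∀ g : G, g + g = 0) {n : ℕ}
    (hn : Nat.card G = 2 ^ (n + 1)) :
    ∃ (φ : G →+ ZMod 2) (e : G), φ e = 1 ∧ Nat.card φ.ker = 2 ^ n := by
  have hval : ∀ z : ZMod 2, z ≠ 0 → z = 1 := by decide
  haveI : Fact (Nat.Prime 2) := ⟨Nat.prime_two⟩
  letI : Module (ZMod 2) G := AddCommGroup.zmodModule fun g => by rw [two_nsmul]; exact h2 g
  haveI : Nontrivial G := Finite.one_lt_card_iff_nontrivial.1 (by rw [hn]; exact Nat.one_lt_two_pow (by omega))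
  obtain ⟨g, hg⟩ := exists_ne (0 : G)
  obtain ⟨φ, hφ⟩ : ∃ φ : Module.Dual (ZMod 2) G, φ g ≠ 0 := by
    by_contra! hall
    exact hg ((Module.forall_dual_apply_eq_zero_iff (ZMod 2) _).1 hall)
  refine ⟨φ.toAddMonoidHom, g, hval _ hφ, ?_⟩
  have h1 := φ.toAddMonoidHom.ker.card_mul_index
  have hsurj : φ.toAddMonoidHom.range = ⊤ := eq_top_iff.2 fun z _ => by
    by_cases hz : z = 0
    · exact hz ▸ zero_mem _
    · exact ⟨g, (hval _ hφ).trans (hval _ hz).symm⟩
  rw [AddSubgroup.index_ker, hsurj, AddSubgroup.card_top, Nat.card_zmod, hn, pow_succ] at h1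
  omega

theorem sum_eq_zero_of_degLE : ∀ (n d : ℕ) (G : Type u) [AddCommGroup G] [Fintype G],
    (∀ g : G, g + g = 0) → Nat.card G = 2 ^ n → d < n → ∀ F : G → ZMod 2, DegLE d F → ∑ x, F x = 0 := by
  intro n
  induction n with
  | zero => intro d G _ _ _ _ h; omega
  | succ n ih =>
    intro d G _ _ h2 hn hd F hF
    classical
    obtain ⟨φ, e, he, hker⟩ := exists_functional h2 hn
    letI : Fintype φ.ker := Fintype.ofFinite _
    let j : φ.ker ⊕ φ.ker → G := Sum.elim (fun h => (h : G)) (fun h => (h : G) + e)
    have hj : Function.Injective j := by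
      rintro (a | a) (b | b) hab
      · exact congrArg Sum.inl (Subtype.ext hab)
      · have := congrArg φ (show (a : G) = b + e from hab)
        rw [map_add, a.2, b.2, he, zero_add] at this
        exact absurd this zero_ne_one
      · have := congrArg φ (show (a : G) + e = b from hab)
        rw [map_add, a.2, b.2, he, zero_add] at this
        exact absurd this one_ne_zero
      · exact congrArg Sum.inr (Subtype.ext (add_right_cancel (show (a : G) + e = b + e from hab)))
    have hb : Function.Bijective j := (Nat.bijective_iff_injective_and_card j).2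
      ⟨hj, by rw [Nat.card_sum, hker, hn, pow_succ]; ring⟩
    rw [← (Equiv.ofBijective j hb).sum_comp F, Fintype.sum_sum_type, ← Finset.sum_add_distrib]
    rcases d with _ | d
    · refine Finset.sum_eq_zero fun h _ => ?_
      show F (h : G) + F ((h : G) + e) = 0
      rw [hF e]
      exact CharTwo.add_self_eq_zero _
    · have := ih d φ.ker (fun g => Subtype.ext (h2 g)) hker (by omega) _ ((hF e).restrict φ.ker.subtype)
      refine (Finset.sum_congr rfl fun h _ => ?_).trans this
      show F (h : G) + F ((h : G) + e) = F ((h : G) + e) - F (h : G)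
      rw [CharTwo.sub_eq_add, add_comm]

theorem degLE_indicator : ∀ (k : ℕ) (Q : Type v) [AddCommGroup Q] [Finite Q] [DecidableEq Q],
    (∀ q : Q, q + q = 0) → Nat.card Q = 2 ^ k → ∀ {G : Type u} [AddCommGroup G] (d : ℕ) (f : G → Q),
      DegLE d f → DegLE (k * d) fun x => if f x = 0 then (1 : ZMod 2) else 0 := by
  intro k
  induction k with
  | zero =>
    intro Q _ _ _ _ hn G _ d f _
    haveI : Subsingleton Q := Finite.card_le_one_iff_subsingleton.1 (by rw [hn]; simp)
    have : (fun x => if f x = 0 then (1 : ZMod 2) else 0) = fun _ => 1 :=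
      funext fun x => if_pos (Subsingleton.elim _ _)
    rw [this, zero_mul]
    exact DegLE.const 1 0
  | succ k ih =>
    intro Q _ _ _ h2 hn G _ d f hf
    obtain ⟨φ, e, he, hker⟩ := exists_functional h2 hn
    have hz : ∀ z : ZMod 2, z = 0 ∨ z = 1 := by decide
    let π : Q →+ φ.ker :=
      { toFun := fun q => ⟨if φ q = 0 then q else q + e, by
          rcases hz (φ q) with h | h
          · rw [if_pos h]; exact h
          · rw [if_neg (by rw [h]; exact one_ne_zero)]
            show φ (q + e) = 0
            rw [map_add, h, he]; decide⟩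
        map_zero' := Subtype.ext (if_pos (map_zero φ))
        map_add' := fun p q => Subtype.ext (by
          show (if φ (p + q) = 0 then p + q else p + q + e) =
            (if φ p = 0 then p else p + e) + if φ q = 0 then q else q + e
          rw [map_add]
          rcases hz (φ p) with hp | hp <;> rcases hz (φ q) with hq | hq <;> rw [hp, hq]
          · simp
          · simp [add_assoc]
          · simp [add_right_comm]
          · rw [if_pos (by decide), if_neg one_ne_zero, if_neg one_ne_zero, add_add_add_comm, h2 e, add_zero]) }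
    have hπ : ∀ q, φ q = 0 → (π q : Q) = q := fun q h => if_pos h
    have h1 : DegLE d fun x => 1 + φ (f x) := (DegLE.const 1 d).add (hf.comp φ)
    have h3 := ih φ.ker (fun q => Subtype.ext (h2 q)) hker d (fun x => π (f x)) (hf.comp π)
    have e1 : (fun x => if f x = 0 then (1 : ZMod 2) else 0) =
        fun x => (1 + φ (f x)) * if π (f x) = 0 then (1 : ZMod 2) else 0 := funext fun x => by
      rcases hz (φ (f x)) with h | h
      · rw [h, add_zero, one_mul]
        by_cases hfx : f x = 0
        · rw [if_pos hfx, if_pos (by rw [hfx, map_zero])]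
        · rw [if_neg hfx, if_neg fun h0 => hfx ((hπ _ h).symm.trans (congrArg Subtype.val h0))]
      · rw [h, show (1 : ZMod 2) + 1 = 0 by decide, zero_mul,
          if_neg fun hfx => one_ne_zero (h.symm.trans (by rw [hfx, map_zero]))]
    rw [e1]
    exact DegLE.mul _ d (k * d) (by ring) h1 h3

/-- A function of degree `d` vanishing at zero has another zero if there are enough variables. -/
theorem exists_zero_ne {G : Type u} [AddCommGroup G] [Finite G] {Q : Type v} [AddCommGroup Q] [Finite Q]
    (hG2 : ∀ g : G, g + g = 0) (hQ2 : ∀ q : Q, q + q = 0) (d : ℕ) (f : G → Q) (hf : DegLE d f)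
    (h0 : f 0 = 0) (hcard : Nat.card Q ^ d < Nat.card G) : ∃ x, x ≠ 0 ∧ f x = 0 := by
  classical
  obtain ⟨n, hn⟩ := CfsgLib.Techniques.SThree.exists_card_eq_two_pow hG2
  obtain ⟨k, hk⟩ := CfsgLib.Techniques.SThree.exists_card_eq_two_pow hQ2
  rw [hn, hk, ← pow_mul, Nat.pow_lt_pow_iff_right (by norm_num)] at hcard
  letI := Fintype.ofFinite G
  have hsum := sum_eq_zero_of_degLE n (k * d) G hG2 hn hcard _ (degLE_indicator k Q hQ2 hk d f hf)
  by_contra! hall
  rw [Finset.sum_eq_single (0 : G) (fun x _ hx => if_neg (hall x hx))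
    (fun h => absurd (Finset.mem_univ _) h), if_pos h0] at hsum
  exact one_ne_zero hsum

end CfsgLib.SFour
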