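import Cfsg.Agent.Lib.SFour.GSpace

/-!
The group part: the bound `|N : D|² |Y| < |D|`.  The conjugates of `D/Y` under `L` meet pairwise trivially,
so the graphs of the shears of `N` and `N^p` are at most `|D : Y|` in number, and equality would make
`DD'` elementary abelian.
-/

set_option autoImplicit false
set_option linter.unusedSectionVars false
set_option linter.style.haveILetI false

namespace CfsgLib.SFour

open Subgroup
open CfsgLib.LLemma (cg mem_cg cg_cg cg_one cg_le_iff cg_eq_of_mem card_cg)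
open CfsgLib.Stellmacher
open scoped commutatorElement

universe u

variable {G : Type u} [Group G] [Finite G] {P : Sylow 2 G} {N : Subgroup G} {a p : G}

/-- Conjugation of endomorphisms by an isomorphism. -/
def endConj {A B : Type u} [AddCommGroup A] [AddCommGroup B] (e : A ≃+ B) :
    AddMonoid.End B →* AddMonoid.End A where
  toFun f := (e.symm.toAddMonoidHom.comp f).comp e.toAddMonoidHom
  map_one' := AddMonoidHom.ext fun x => e.symm_apply_apply x
  map_mul' f g := AddMonoidHom.ext fun x =>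
    congrArg (fun z => e.symm (f z)) (e.apply_symm_apply _).symm

namespace GSetting

variable (h : GSetting P N a p)
include h

theorem exists_D'_not_Y : ∃ f ∈ gD' N p, f ∉ gY N p := by
  obtain ⟨d, hd, hdY⟩ := h.exists_D_not_Y
  refine ⟨_, h.swap_D hd, fun hY => hdY ?_⟩
  have h1 := h.conj_Y hY (inv_mem h.swap_mem)
  rw [show (p * a)⁻¹ * (p * a * d * (p * a)⁻¹) * (p * a)⁻¹⁻¹ = d by group] at h1
  exact h1 ▸ hY

/-- The splitting of the module. -/
noncomputable def split : gPW N p × gQW N p ≃+ GW N p :=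
  AddEquiv.ofBijective ((gPW N p).subtype.coprod (gQW N p).subtype) ⟨by
    refine (injective_iff_map_eq_zero _).2 ?_
    rintro ⟨x, y⟩ e
    have e' : (x : GW N p) + y = 0 := e
    have hxy : (x : GW N p) = y := by rw [eq_neg_of_add_eq_zero_left e', h.neg_eq]
    have hx0 : (x : GW N p) = 0 := h.PW_inf_QW x.2 (hxy ▸ y.2)
    exact Prod.ext (Subtype.ext hx0) (Subtype.ext (hxy.symm.trans hx0)), by
    intro w
    obtain ⟨r, hr, rfl⟩ := cl_surj w
    obtain ⟨d, hd, f, hf, rfl⟩ := h.exists_mul hr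
    exact ⟨(⟨_, h.cl_mem_PW hd⟩, ⟨_, h.cl_mem_QW hf⟩), (cl_mul (h.D_R0 hd) (h.D'_R0 hf)).symm⟩⟩

theorem split_apply (w : gPW N p × gQW N p) : h.split w = (w.1 : GW N p) + w.2 := rfl

/-- The module of `L` on the product. -/
noncomputable def pairRep :
    ((pairGroup N p : Subgroup G) ⧸ (h.gRep).ker) →* AddMonoid.End (gPW N p × gQW N p) :=
  (endConj h.split).comp (QuotientGroup.lift (h.gRep).ker h.gRep le_rfl)

theorem pairRep_mk (l : (pairGroup N p : Subgroup G)) (w : gPW N p × gQW N p) :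
    h.pairRep (QuotientGroup.mk l) w = h.split.symm (h.act (l : G) l.2 (h.split w)) := rfl

/-- The data of the graphs. -/
theorem graphs : Graphs.Data h.pairRep h.shearA h.shearB := by
  refine ⟨h.free_image, fun x => Subtype.ext (h.two _), fun y => Subtype.ext (h.two _), ?_, ?_, ?_, ?_, ?_⟩
  · obtain ⟨d, hd, hdY⟩ := h.exists_D_not_Y
    exact ⟨⟨_, h.cl_mem_PW hd⟩, fun e => hdY ((h.cl_eq_zero_iff (h.D_R0 hd)).1 (congrArg Subtype.val e))⟩
  · rintro A ⟨v, hv, hA⟩ hA0
    refine h.bijective_A hv (fun hvD => hA0 (AddMonoidHom.ext fun w => Subtype.ext ?_)) hA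
    obtain ⟨f, hf, e⟩ := h.exists_QW w.2
    obtain rfl : w = ⟨_, h.cl_mem_QW hf⟩ := Subtype.ext e.symm
    rw [h.cl_comm_A hv hA hf]
    exact h.cl_Y (h.inv_mem_Y hf hvD)
  · rintro B ⟨b, hb, hB⟩ hB0
    refine h.bijective_B hb (fun hbD => hB0 (AddMonoidHom.ext fun w => Subtype.ext ?_)) hB
    obtain ⟨d, hd, e⟩ := h.exists_PW w.2
    obtain rfl : w = ⟨_, h.cl_mem_PW hd⟩ := Subtype.ext e.symm
    rw [h.cl_comm_B hb hB hd]
    exact h.cl_Y (h.comm_R0 (h.D_R0 hd) (h.D'_R0 hbD))
  · rintro A ⟨v, hv, hA⟩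
    refine ⟨QuotientGroup.mk (⟨v, le_sup_left (b := cg N p) hv⟩ : (pairGroup N p : Subgroup G)), fun w => ?_⟩
    rw [h.pairRep_mk, AddEquiv.symm_apply_eq, h.split_apply, h.split_apply]
    rw [map_add, h.act_N_D hv w.1.2, ← hA w.2]
    show (w.1 : GW N p) + ((A w.2 : GW N p) + w.2) = (w.1 : GW N p) + (A w.2 : GW N p) + ((w.2 : GW N p) + 0)
    rw [add_zero, add_assoc]
  · rintro B ⟨b, hb, hB⟩
    refine ⟨QuotientGroup.mk (⟨b, (show cg N p ≤ pairGroup N p from le_sup_right) hb⟩ :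
      (pairGroup N p : Subgroup G)), fun w => ?_⟩
    rw [h.pairRep_mk, AddEquiv.symm_apply_eq, h.split_apply, h.split_apply]
    rw [map_add, h.act_N'_D' hb w.2.2, ← hB w.1]
    show (B w.1 : GW N p) + w.1 + w.2 = (w.1 : GW N p) + 0 + ((w.2 : GW N p) + (B w.1 : GW N p))
    abel

theorem cg_D_of_cg_N {l m : G} (hl : l ∈ pairGroup N p) (hm : m ∈ pairGroup N p) (e : cg N l = cg N m) :
    cg (gD N p) l = cg (gD N p) m := by
  show (N ⊓ pairCore N p).map _ = (N ⊓ pairCore N p).map _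
  rw [Subgroup.map_inf _ _ _ (MulAut.conj l).injective, Subgroup.map_inf _ _ _ (MulAut.conj m).injective]
  exact congrArg₂ (· ⊓ ·) e ((h.cg_R hl).trans (h.cg_R hm).symm)

theorem exists_of_act_PW {l : G} (hl : l ∈ pairGroup N p) {w : GW N p}
    (hw : w ∈ (gPW N p).map (h.act l hl : GW N p →+ GW N p)) :
    ∃ x ∈ cg (gD N p) l, x ∈ gR0 N p ∧ cl N p x = w := by
  obtain ⟨w', hw', rfl⟩ := hw
  obtain ⟨d, hd, rfl⟩ := h.exists_PW hw'
  exact ⟨_, ⟨d, hd, rfl⟩, h.conj_R0 hl (h.D_R0 hd), (h.act_cl hl (h.D_R0 hd)).symm⟩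

theorem act_PW_of_eq {l m : G} (hl : l ∈ pairGroup N p) (hm : m ∈ pairGroup N p) (e : cg N l = cg N m) :
    (gPW N p).map (h.act l hl : GW N p →+ GW N p) = (gPW N p).map (h.act m hm : GW N p →+ GW N p) := by
  have key : ∀ {l m : G} (hl : l ∈ pairGroup N p) (hm : m ∈ pairGroup N p), cg N l = cg N m →
      (gPW N p).map (h.act l hl : GW N p →+ GW N p) ≤ (gPW N p).map (h.act m hm : GW N p →+ GW N p) := by
    intro l m hl hm e w hw
    obtain ⟨x, hx, -, rfl⟩ := h.exists_of_act_PW hl hw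
    rw [h.cg_D_of_cg_N hl hm e] at hx
    obtain ⟨d, hd, rfl⟩ := hx
    exact ⟨_, h.cl_mem_PW hd, h.act_cl hm (h.D_R0 hd)⟩
  exact le_antisymm (key hl hm e) (key hm hl e.symm)

/-- Two conjugates of `D/Y` are equal or meet trivially. -/
theorem act_PW_inf {l m : G} (hl : l ∈ pairGroup N p) (hm : m ∈ pairGroup N p)
    (hne : (gPW N p).map (h.act l hl : GW N p →+ GW N p) ≠ (gPW N p).map (h.act m hm : GW N p →+ GW N p)) :
    (gPW N p).map (h.act l hl : GW N p →+ GW N p) ⊓ (gPW N p).map (h.act m hm : GW N p →+ GW N p) = ⊥ := by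
  rcases h.eq_or_top (h.cg_le_of_mem hl) (h.cg_le_of_mem hm) with e | e
  · exact absurd (h.act_PW_of_eq hl hm e) hne
  refine (AddSubgroup.eq_bot_iff_forall _).2 fun w hw => ?_
  obtain ⟨x, hx, hxR, rfl⟩ := h.exists_of_act_PW hl hw.1
  obtain ⟨y, hy, hyR, exy⟩ := h.exists_of_act_PW hm hw.2
  have hY : ∀ {l : G}, l ∈ pairGroup N p → gY N p ≤ cg N l := fun hl =>
    (h.cg_Y hl).ge.trans (Subgroup.map_mono inf_le_left)
  have hxl : x ∈ cg N l := (Subgroup.map_mono inf_le_left : cg (gD N p) l ≤ cg N l) hx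
  have hxm : x ∈ cg N m := by
    have h1 := hY hm ((h.cl_eq_iff hyR hxR).1 exy)
    simpa using mul_mem ((Subgroup.map_mono inf_le_left : cg (gD N p) m ≤ cg N m) hy) h1
  have hcl : ∀ {l : G} {z : G}, z ∈ cg N l → cg N l ≤ centralizer ({z} : Set G) := by
    rintro l z ⟨n, hn, rfl⟩ _ ⟨n', hn', rfl⟩
    refine mem_centralizer_iff.2 ?_
    rintro _ rfl
    show (MulAut.conj l) n * (MulAut.conj l) n' = (MulAut.conj l) n' * (MulAut.conj l) n
    rw [← map_mul, ← map_mul, h.comm hn hn']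
  have hcen : pairGroup N p ≤ centralizer ({x} : Set G) := e ▸ sup_le (hcl hxl) (hcl hxm)
  have hfix : ∀ g ∈ pairGroup N p, g⁻¹ * x * g = x := fun g hg => by
    rw [mul_assoc, mem_centralizer_iff.1 (hcen hg) x rfl, inv_mul_cancel_left]
  have hxN : x ∈ N := by
    have h1 := mem_cg.1 hxl
    rwa [hfix l hl] at h1
  refine h.cl_Y ⟨hxN, mem_cg.2 ?_⟩
  rw [hfix p h.p_mem]
  exact hxN

theorem card_PW : Nat.card (gPW N p) * Nat.card (gY N p) = Nat.card (gD N p) := by
  have h1 : Nat.card (gPW N p) = (gY N p).relIndex (gD N p) := by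
    refine (Nat.card_congr (Equiv.ofBijective (fun q : gD N p ⧸ (gY N p).subgroupOf (gD N p) =>
      (⟨_, h.cl_mem_PW q.out.2⟩ : gPW N p)) ⟨fun q q' e => ?_, fun w => ?_⟩)).symm
    · rw [← q.out_eq', ← q'.out_eq']
      refine QuotientGroup.eq.2 (mem_subgroupOf.2 ?_)
      exact (h.cl_eq_iff (h.D_R0 q.out.2) (h.D_R0 q'.out.2)).1 (congrArg Subtype.val e)
    · obtain ⟨d, hd, e⟩ := h.exists_PW w.2
      refine ⟨QuotientGroup.mk ⟨d, hd⟩, Subtype.ext ?_⟩
      refine Eq.trans ((h.cl_eq_iff (h.D_R0 (SetLike.coe_mem _)) (h.D_R0 hd)).2 ?_) e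
      exact mem_subgroupOf.1 (QuotientGroup.eq.1
        (QuotientGroup.out_eq' (QuotientGroup.mk (⟨d, hd⟩ : gD N p) : gD N p ⧸ (gY N p).subgroupOf (gD N p))))
  rw [h1, ← Nat.card_congr (subgroupOfEquivOfLe h.Y_le_D).toEquiv, mul_comm]
  exact Subgroup.card_mul_index _

/-- `|N : D|² |Y| < |D|`. -/
theorem big : (gD N p).relIndex N ^ 2 * Nat.card (gY N p) < Nat.card (gD N p) := by
  haveI : Finite (gQW N p →+ gPW N p) := Finite.of_injective _ DFunLike.coe_injective
  haveI : Finite (gPW N p →+ gQW N p) := Finite.of_injective _ DFunLike.coe_injective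
  have hd := h.graphs
  -- every member is a conjugate of `D/Y`
  have hmem : ∀ i, ∃ (l : G) (hl : l ∈ pairGroup N p), Graphs.member h.shearA h.shearB i =
      ((gPW N p).map (h.act l hl : GW N p →+ GW N p)).comap h.split.toAddMonoidHom := by
    have himg : ∀ (l : (pairGroup N p : Subgroup G)) (S : AddSubgroup (gPW N p × gQW N p)),
        S.map (h.pairRep (QuotientGroup.mk l) : gPW N p × gQW N p →+ gPW N p × gQW N p) =
          ((S.map h.split.toAddMonoidHom).map (h.act (l : G) l.2 : GW N p →+ GW N p)).comap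
            h.split.toAddMonoidHom := by
      intro l S
      ext w
      constructor
      · rintro ⟨v, hv, rfl⟩
        exact ⟨_, ⟨v, hv, rfl⟩, (h.split.apply_symm_apply _).symm⟩
      · rintro ⟨_, ⟨v, hv, rfl⟩, e⟩
        exact ⟨v, hv, (congrArg h.split.symm e).trans (h.split.symm_apply_apply w)⟩
    have hbase : (Graphs.base (gPW N p) (gQW N p)).map h.split.toAddMonoidHom = gPW N p := by
      ext w
      constructor
      · rintro ⟨_, ⟨x, rfl⟩, rfl⟩
        show (x : GW N p) + 0 ∈ _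
        rw [add_zero]; exact x.2
      · intro hw
        exact ⟨_, ⟨⟨w, hw⟩, rfl⟩, add_zero _⟩
    have hsecond : (AddMonoidHom.inr (gPW N p) (gQW N p)).range.map h.split.toAddMonoidHom =
        (gPW N p).map (h.act (p * a) h.swap_mem : GW N p →+ GW N p) := by
      ext w
      constructor
      · rintro ⟨_, ⟨y, rfl⟩, rfl⟩
        obtain ⟨f, hf, e⟩ := h.exists_QW y.2
        refine ⟨_, h.cl_mem_PW (h.swap_D' hf), ?_⟩
        show h.act (p * a) h.swap_mem (cl N p _) = 0 + (y : GW N p)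
        rw [zero_add, ← e, h.act_cl _ (h.D_R0 (h.swap_D' hf))]
        have hs2 : p * a * (p * a) = 1 := by
          have h1 : a * p = p⁻¹ * a := by rw [← h.inverted]; group
          calc p * a * (p * a) = p * (a * p) * a := by simp only [mul_assoc]
            _ = a * a := by rw [h1, mul_inv_cancel_left]
            _ = 1 := h.sq h.a_mem
        rw [inv_eq_of_mul_eq_one_right hs2]
        congr 1
        calc p * a * (p * a * f * (p * a)) * (p * a) = p * a * (p * a) * f * (p * a * (p * a)) := by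
              simp only [mul_assoc]
          _ = f := by rw [hs2, one_mul, mul_one]
      · rintro ⟨_, hw, rfl⟩
        obtain ⟨d, hd', rfl⟩ := h.exists_PW hw
        refine ⟨_, ⟨⟨_, h.cl_mem_QW (h.swap_D hd')⟩, rfl⟩, ?_⟩
        show 0 + cl N p _ = h.act (p * a) h.swap_mem (cl N p d)
        rw [zero_add, h.act_cl _ (h.D_R0 hd')]
    rintro (_ | ⟨A, B⟩)
    · refine ⟨1, one_mem _, ?_⟩
      ext w
      constructor
      · intro hw
        refine ⟨h.split w, hbase.le ⟨w, hw, rfl⟩, ?_⟩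
        exact h.act_one_apply _
      · rintro ⟨v, hv, e⟩
        have e' : v = h.split w := (h.act_one_apply v).symm.trans e
        obtain ⟨w', hw', e''⟩ := hbase.ge hv
        rw [← h.split.injective (e''.trans e')]
        exact hw'
    · by_cases hB : (B : gPW N p →+ gQW N p) = 0
      · obtain ⟨g, hg⟩ := hd.exists_map_second A B hB
        obtain ⟨l, rfl⟩ := QuotientGroup.mk_surjective g
        refine ⟨(l : G) * (p * a), mul_mem l.2 h.swap_mem, ?_⟩
        rw [hg, himg, hsecond]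
        exact congrArg (AddSubgroup.comap h.split.toAddMonoidHom) ((AddSubgroup.map_map _ _ _).trans
          (congrArg (fun f : GW N p →+ GW N p => (gPW N p).map f)
            (AddMonoidHom.ext fun w => h.act_act l.2 h.swap_mem w)))
      · obtain ⟨g, hg⟩ := hd.exists_map_base A B hB
        obtain ⟨l, rfl⟩ := QuotientGroup.mk_surjective g
        exact ⟨l, l.2, by rw [hg, himg, hbase]⟩
  have hdisj : ∀ i j, Graphs.member h.shearA h.shearB i ≠ Graphs.member h.shearA h.shearB j →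
      Graphs.member h.shearA h.shearB i ⊓ Graphs.member h.shearA h.shearB j = ⊥ := by
    intro i j hne
    obtain ⟨l, hl, ei⟩ := hmem i
    obtain ⟨m, hm, ej⟩ := hmem j
    rw [ei, ej] at hne ⊢
    refine (AddSubgroup.eq_bot_iff_forall _).2 fun w hw => ?_
    have h1 : h.split w ∈ (⊥ : AddSubgroup (GW N p)) :=
      h.act_PW_inf hl hm (fun e => hne (by rw [e])) ▸ ⟨hw.1, hw.2⟩
    exact h.split.injective ((AddSubgroup.mem_bot.1 h1).trans (map_zero _).symm)
  obtain ⟨hle, heq⟩ := hd.count h.card_QW hdisj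
  set n := (gD N p).relIndex N
  -- the shears of distinct cosets are distinct
  choose FA hFA hFA' using fun v : N => h.exists_shearA v.2
  have hsB : ∀ v : N, p * a * (v : G) * (p * a)⁻¹ ∈ cg N p := fun v => h.cg_swap.1.le ⟨v, v.2, rfl⟩
  choose FB hFB hFB' using fun v : N => h.exists_shearB (hsB v)
  have hA : n ≤ Nat.card h.shearA := by
    refine Nat.card_le_card_of_injective (fun q : N ⧸ (gD N p).subgroupOf N => (⟨_, hFA q.out⟩ : h.shearA))
      fun q q' e => ?_
    rw [← q.out_eq', ← q'.out_eq']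
    refine QuotientGroup.eq.2 (mem_subgroupOf.2 ?_)
    have e' : FA q.out = FA q'.out := congrArg Subtype.val e
    show (q.out : G)⁻¹ * (q'.out : G) ∈ gD N p
    by_contra hne
    obtain ⟨f, hf, hfY⟩ := h.exists_D'_not_Y
    have hv := mul_mem (inv_mem q.out.2) q'.out.2
    refine hfY (h.faith hv hne hf ((h.cl_eq_zero_iff (h.D_R0 (h.comm_D (h.D'_le_R hf) hv))).1 ?_))
    have h1 := h.act_N hv hf
    rw [← h.act_act (mem_sup_left (inv_mem q.out.2)) (mem_sup_left q'.out.2),
      ← hFA' q'.out ⟨_, h.cl_mem_QW hf⟩, ← e', hFA' q.out ⟨_, h.cl_mem_QW hf⟩,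
      h.act_act, h.act_congr _ (one_mem _) (inv_mul_cancel _), h.act_one_apply] at h1
    exact (right_eq_add.1 h1)
  have hB : n ≤ Nat.card h.shearB := by
    refine Nat.card_le_card_of_injective (fun q : N ⧸ (gD N p).subgroupOf N => (⟨_, hFB q.out⟩ : h.shearB))
      fun q q' e => ?_
    rw [← q.out_eq', ← q'.out_eq']
    refine QuotientGroup.eq.2 (mem_subgroupOf.2 ?_)
    have e' : FB q.out = FB q'.out := congrArg Subtype.val e
    show (q.out : G)⁻¹ * (q'.out : G) ∈ gD N p
    by_contra hne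
    obtain ⟨d, hd', hdY⟩ := h.exists_D_not_Y
    have hb := mul_mem (inv_mem (hsB q.out)) (hsB q'.out)
    set b := (p * a * (q.out : G) * (p * a)⁻¹)⁻¹ * (p * a * (q'.out : G) * (p * a)⁻¹)
    have hbD : b ∉ gD' N p := fun hbD => hne (by
      have h1 := h.swap_D' hbD
      have hs2 : p * a * (p * a) = 1 := by
        have h1 : a * p = p⁻¹ * a := by rw [← h.inverted]; group
        calc p * a * (p * a) = p * (a * p) * a := by simp only [mul_assoc]
          _ = a * a := by rw [h1, mul_inv_cancel_left]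
          _ = 1 := h.sq h.a_mem
      have e2 : p * a * b * (p * a)⁻¹ =
          (p * a * (p * a)) * ((q.out : G)⁻¹ * (q'.out : G)) * (p * a * (p * a))⁻¹ := by
        simp only [b]; group
      rw [e2, hs2, one_mul, inv_one, mul_one] at h1
      exact h1)
    refine hdY (h.faith' hb hbD hd' ((h.cl_eq_zero_iff (h.D'_R0 (h.comm_D' hd'.2 hb))).1 ?_))
    have h1 := h.act_N' hb hd'
    rw [h.act_congr _ (mul_mem (inv_mem (mem_sup_right (hsB q.out))) (mem_sup_right (hsB q'.out))) rfl,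
      ← h.act_act (inv_mem (mem_sup_right (hsB q.out))) (mem_sup_right (hsB q'.out)),
      ← hFB' q'.out ⟨_, h.cl_mem_PW hd'⟩, ← e', hFB' q.out ⟨_, h.cl_mem_PW hd'⟩,
      h.act_act, h.act_congr _ (one_mem _) (inv_mul_cancel _), h.act_one_apply] at h1
    exact (right_eq_add.1 h1)
  have hlt : n * n < Nat.card (gPW N p) := by
    refine lt_of_le_of_ne ((Nat.mul_le_mul hA hB).trans hle) fun e => ?_
    have hcov := heq (le_antisymm hle (e ▸ Nat.mul_le_mul hA hB))
    -- `DD'` is elementary abelian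
    have hsq : ∀ r ∈ gR0 N p, r * r = 1 := by
      intro r hr
      obtain ⟨i, hi⟩ := hcov (h.split.symm (cl N p r))
      obtain ⟨l, hl, ei⟩ := hmem i
      rw [ei, AddSubgroup.mem_comap] at hi
      change h.split (h.split.symm (cl N p r)) ∈ _ at hi
      rw [AddEquiv.apply_symm_apply] at hi
      obtain ⟨x, hx, hxR, e1⟩ := h.exists_of_act_PW hl hi
      have hrl : r ∈ cg N l := by
        have h1 : x⁻¹ * r ∈ cg N l :=
          (Subgroup.map_mono inf_le_left : cg (gY N p) l ≤ cg N l) ((h.cg_Y hl).ge ((h.cl_eq_iff hxR hr).1 e1))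
        simpa using mul_mem ((Subgroup.map_mono inf_le_left : cg (gD N p) l ≤ cg N l) hx) h1
      obtain ⟨n', hn', rfl⟩ := hrl
      show (MulAut.conj l) n' * (MulAut.conj l) n' = 1
      rw [← map_mul, h.sq hn', map_one]
    obtain ⟨d, hd', hdY⟩ := h.exists_D_not_Y
    refine hdY (h.mem_Y_of_comm hd' fun f hf => ?_)
    have h1 := hsq _ (mul_mem (h.D'_R0 hf) (h.D_R0 hd'))
    calc f * d = (f * d)⁻¹ := (inv_eq_of_mul_eq_one_right h1).symm
      _ = d * f := by rw [mul_inv_rev, h.inv_eq hd'.1, h.D'_inv hf]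
  rw [pow_two, ← h.card_PW]
  exact Nat.mul_lt_mul_of_pos_right hlt Nat.card_pos

end GSetting

end CfsgLib.SFour
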