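import Cfsg.Agent.Lib.SFour.GSetting

/-!
The group part: `L = ⟨N, N^p⟩`, `D = N ∩ O₂(L)`, `D' = D^p`, `Y = N ∩ N^p` and the module
`DD'/Y` of `L`.
-/

set_option autoImplicit false
set_option linter.unusedSectionVars false
set_option linter.style.haveILetI false

namespace CfsgLib.SFour

open Subgroup
open CfsgLib.LLemma (cg mem_cg cg_cg cg_one cg_le_iff cg_eq_of_mem card_cg)
open scoped commutatorElement

universe u

variable {G : Type u} [Group G]

/-- `N ∩ O₂(L)`. -/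
abbrev gD (N : Subgroup G) (p : G) : Subgroup G := N ⊓ pairCore N p

/-- `(N ∩ O₂(L))^p`. -/
abbrev gD' (N : Subgroup G) (p : G) : Subgroup G := cg (gD N p) p

/-- `N ∩ N^p`. -/
abbrev gY (N : Subgroup G) (p : G) : Subgroup G := N ⊓ cg N p

/-- `DD'`. -/
abbrev gR0 (N : Subgroup G) (p : G) : Subgroup G := gD N p ⊔ gD' N p

variable [Finite G] {P : Sylow 2 G} {N : Subgroup G} {a p : G}

namespace GSetting

variable (h : GSetting P N a p)
include h

theorem a_L : a ∈ pairGroup N p := le_sup_left (b := cg N p) h.a_mem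

theorem sq {x : G} (hx : x ∈ N) : x * x = 1 := by rw [← pow_two]; exact h.good.elem.2 x hx

theorem inv_eq {x : G} (hx : x ∈ N) : x⁻¹ = x := inv_eq_of_mul_eq_one_right (h.sq hx)

theorem comm {x y : G} (hx : x ∈ N) (hy : y ∈ N) : x * y = y * x := h.good.comm hx hy

theorem eq_or_top {x y : G} (hx : cg N x ≤ pairGroup N p) (hy : cg N y ≤ pairGroup N p) :
    cg N x = cg N y ∨ cg N x ⊔ cg N y = pairGroup N p := by
  by_cases hxy : x⁻¹ * y ∈ normalizer (N : Set G)
  · refine Or.inl ?_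
    rw [← CfsgLib.Techniques.map_conj_eq_self_iff] at hxy
    calc cg N x = cg (cg N (x⁻¹ * y)) x := by rw [show cg N (x⁻¹ * y) = N from hxy]
      _ = cg N y := by rw [cg_cg, mul_inv_cancel_left]
  · refine Or.inr (eq_of_le_of_card_ge (sup_le hx hy) ?_)
    have e : cg N x ⊔ cg N y = cg (N ⊔ cg N (x⁻¹ * y)) x := by
      show _ = (N ⊔ cg N (x⁻¹ * y)).map _
      rw [Subgroup.map_sup]
      show _ = cg N x ⊔ cg (cg N (x⁻¹ * y)) x
      rw [cg_cg, mul_inv_cancel_left]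
    rw [e, card_cg]
    exact h.min _ hxy

theorem cg_le_of_mem {l : G} (hl : l ∈ pairGroup N p) : cg N l ≤ pairGroup N p :=
  (Subgroup.map_mono le_sup_left).trans (cg_eq_of_mem hl).le

theorem cg_R {l : G} (hl : l ∈ pairGroup N p) : cg (pairCore N p) l = pairCore N p :=
  haveI : Fact (Nat.Prime 2) := ⟨Nat.prime_two⟩
  CfsgLib.Techniques.map_conj_eq_self_iff.2 (CfsgLib.LLemma.le_normalizer_pCoreOf _ hl)

theorem D'_eq : gD' N p = cg N p ⊓ pairCore N p := by
  show (N ⊓ pairCore N p).map _ = _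
  rw [Subgroup.map_inf _ _ _ (MulAut.conj p).injective]
  exact congrArg (cg N p ⊓ ·) (h.cg_R h.p_mem)

theorem R_norm : pairCore N p ≤ normalizer (N : Set G) := h.R_le.trans h.good.norm

theorem R_norm' : pairCore N p ≤ normalizer (cg N p : Set G) := fun r hr => by
  have h1 : p⁻¹ * r * p ∈ pairCore N p := mem_cg.1 ((h.cg_R h.p_mem).ge hr)
  have h2 := CfsgLib.Techniques.map_conj_eq_self_iff.2 (h.R_norm h1)
  refine CfsgLib.Techniques.map_conj_eq_self_iff.1 ?_
  show cg (cg N p) r = cg N p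
  conv_rhs => rw [← show cg N (p⁻¹ * r * p) = N from h2]
  rw [cg_cg, cg_cg, show p * (p⁻¹ * r * p) = r * p by group]

theorem Y_le_D : gY N p ≤ gD N p := by
  haveI : Fact (Nat.Prime 2) := ⟨Nat.prime_two⟩
  refine le_inf inf_le_left (CfsgLib.LLemma.le_pCoreOf (inf_le_left.trans le_sup_left) ?_
    (h.good.elem |> fun he => (P.2.to_le (inf_le_left.trans h.le))))
  refine sup_le ?_ ?_
  · intro n hn
    refine (centralizer_le_normalizer _) (mem_centralizer_iff.2 fun y hy => h.comm hy.1 hn)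
  · rintro _ ⟨n, hn, rfl⟩
    refine (centralizer_le_normalizer _) (mem_centralizer_iff.2 ?_)
    rintro y ⟨-, z, hz, rfl⟩
    show (MulAut.conj p) z * (MulAut.conj p) n = (MulAut.conj p) n * (MulAut.conj p) z
    rw [← map_mul, ← map_mul, h.comm hz hn]

theorem Y_central {y : G} (hy : y ∈ gY N p) {l : G} (hl : l ∈ pairGroup N p) : y * l = l * y := by
  have hle : pairGroup N p ≤ centralizer ({y} : Set G) := by
    refine sup_le (fun n hn => mem_centralizer_iff.2 ?_) ?_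
    · rintro _ rfl; exact h.comm hy.1 hn
    · rintro _ ⟨n, hn, rfl⟩
      refine mem_centralizer_iff.2 ?_
      rintro _ rfl
      obtain ⟨z, hz, rfl⟩ := hy.2
      show (MulAut.conj p) z * (MulAut.conj p) n = (MulAut.conj p) n * (MulAut.conj p) z
      rw [← map_mul, ← map_mul, h.comm hz hn]
  exact mem_centralizer_iff.1 (hle hl) y rfl

theorem conj_Y {y : G} (hy : y ∈ gY N p) {l : G} (hl : l ∈ pairGroup N p) : l * y * l⁻¹ = y := by
  rw [← h.Y_central hy hl, mul_inv_cancel_right]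

theorem cg_Y {l : G} (hl : l ∈ pairGroup N p) : cg (gY N p) l = gY N p := by
  ext y
  rw [mem_cg]
  constructor
  · intro hy
    have h1 := h.conj_Y hy hl
    rw [show l * (l⁻¹ * y * l) * l⁻¹ = y by group] at h1
    rwa [← h1] at hy
  · intro hy
    have h1 := h.conj_Y hy (inv_mem hl)
    rw [inv_inv] at h1
    rwa [h1]

theorem Y_le_D' : gY N p ≤ gD' N p := (h.cg_Y h.p_mem).ge.trans (Subgroup.map_mono h.Y_le_D)

theorem D_inf_D' : gD N p ⊓ gD' N p = gY N p := by
  refine le_antisymm ?_ (le_inf h.Y_le_D h.Y_le_D')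
  rintro x ⟨hx, hx'⟩
  exact ⟨hx.1, (Subgroup.map_mono inf_le_left : gD' N p ≤ cg N p) hx'⟩

theorem D'_le_R : gD' N p ≤ pairCore N p := h.D'_eq.le.trans inf_le_right

theorem D'_le : gD' N p ≤ (P : Subgroup G) := h.D'_le_R.trans h.R_le

theorem D'_sq {f : G} (hf : f ∈ gD' N p) : f * f = 1 := by
  obtain ⟨d, hd, rfl⟩ := hf
  show (MulAut.conj p) d * (MulAut.conj p) d = 1
  rw [← map_mul, h.sq hd.1, map_one]

theorem D'_inv {f : G} (hf : f ∈ gD' N p) : f⁻¹ = f := inv_eq_of_mul_eq_one_right (h.D'_sq hf)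

theorem D'_comm {f g : G} (hf : f ∈ gD' N p) (hg : g ∈ gD' N p) : f * g = g * f := by
  obtain ⟨d, hd, rfl⟩ := hf
  obtain ⟨e, he, rfl⟩ := hg
  show (MulAut.conj p) d * (MulAut.conj p) e = (MulAut.conj p) e * (MulAut.conj p) d
  rw [← map_mul, ← map_mul, h.comm hd.1 he.1]

theorem comm_D {r v : G} (hr : r ∈ pairCore N p) (hv : v ∈ N) : ⁅r, v⁆ ∈ gD N p := by
  rw [commutatorElement_def]
  refine ⟨N.mul_mem ((mem_normalizer_iff.1 (h.R_norm hr) v).1 hv) (N.inv_mem hv), ?_⟩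
  have h1 : v * r⁻¹ * v⁻¹ ∈ pairCore N p :=
    (h.cg_R (le_sup_left (b := cg N p) hv)).le ⟨_, (pairCore N p).inv_mem hr, rfl⟩
  simpa [mul_assoc] using mul_mem hr h1

theorem comm_D' {r v : G} (hr : r ∈ pairCore N p) (hv : v ∈ cg N p) : ⁅r, v⁆ ∈ gD' N p := by
  rw [h.D'_eq, commutatorElement_def]
  refine ⟨(cg N p).mul_mem ((mem_normalizer_iff.1 (h.R_norm' hr) v).1 hv) ((cg N p).inv_mem hv), ?_⟩
  have h1 : v * r⁻¹ * v⁻¹ ∈ pairCore N p :=
    (h.cg_R ((show cg N p ≤ pairGroup N p from le_sup_right) hv)).le ⟨_, (pairCore N p).inv_mem hr, rfl⟩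
  simpa [mul_assoc] using mul_mem hr h1

theorem inv_mem_Y {f u : G} (hf : f ∈ gD' N p) (hu : u ∈ gD N p) : ⁅f, u⁆ ∈ gY N p := by
  rw [← h.D_inf_D']
  refine ⟨h.comm_D (h.D'_le_R hf) hu.1, ?_⟩
  rw [← commutatorElement_inv]
  exact (gD' N p).inv_mem (h.comm_D' hu.2 ((Subgroup.map_mono inf_le_left : gD' N p ≤ cg N p) hf))

theorem R0_le : gR0 N p ≤ pairCore N p := sup_le inf_le_right h.D'_le_R

theorem R0_le_L : gR0 N p ≤ pairGroup N p :=
  haveI : Fact (Nat.Prime 2) := ⟨Nat.prime_two⟩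
  h.R0_le.trans (CfsgLib.LLemma.pCoreOf_le _)

theorem D'_norm : gD' N p ≤ normalizer (gD N p : Set G) := fun f hf => by
  haveI : Fact (Nat.Prime 2) := ⟨Nat.prime_two⟩
  exact CfsgLib.Techniques.mem_normalizer_inf (h.R_norm (h.D'_le_R hf))
    (CfsgLib.LLemma.le_normalizer_pCoreOf _ ((CfsgLib.LLemma.pCoreOf_le _) (h.D'_le_R hf)))

theorem exists_mul {r : G} (hr : r ∈ gR0 N p) : ∃ d ∈ gD N p, ∃ f ∈ gD' N p, d * f = r := by
  rw [gR0, sup_comm] at hr
  exact CfsgLib.Techniques.exists_mul_of_mem_sup' h.D'_norm hr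

theorem conj_R0 {l : G} (hl : l ∈ pairGroup N p) {r : G} (hr : r ∈ gR0 N p) : l * r * l⁻¹ ∈ gR0 N p := by
  have key : pairGroup N p ≤ normalizer (gR0 N p : Set G) := by
    refine sup_le ?_ ?_
    · intro v hv
      refine CfsgLib.Techniques.map_conj_eq_self_iff.1 (eq_of_le_of_card_ge ?_ (card_cg _ _).ge)
      rw [Subgroup.map_le_iff_le_comap]
      refine sup_le (fun d hd => ?_) (fun f hf => ?_)
      · show v * d * v⁻¹ ∈ gR0 N p
        rw [h.comm hv hd.1, mul_inv_cancel_right]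
        exact mem_sup_left hd
      · show v * f * v⁻¹ ∈ gR0 N p
        rw [show v * f * v⁻¹ = ⁅f, v⁆⁻¹ * f by rw [commutatorElement_def]; group]
        exact mul_mem (inv_mem (mem_sup_left (h.comm_D (h.D'_le_R hf) hv))) (mem_sup_right hf)
    · intro w hw
      refine CfsgLib.Techniques.map_conj_eq_self_iff.1 (eq_of_le_of_card_ge ?_ (card_cg _ _).ge)
      rw [Subgroup.map_le_iff_le_comap]
      refine sup_le (fun d hd => ?_) (fun f hf => ?_)
      · show w * d * w⁻¹ ∈ gR0 N p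
        rw [show w * d * w⁻¹ = ⁅d, w⁆⁻¹ * d by rw [commutatorElement_def]; group]
        exact mul_mem (inv_mem (mem_sup_right (h.comm_D' hd.2 hw))) (mem_sup_left hd)
      · show w * f * w⁻¹ ∈ gR0 N p
        obtain ⟨n, hn, rfl⟩ := hw
        obtain ⟨e, he, rfl⟩ := hf
        show (MulAut.conj p) n * (MulAut.conj p) e * ((MulAut.conj p) n)⁻¹ ∈ gR0 N p
        rw [← map_inv, ← map_mul, ← map_mul, h.comm hn he.1, mul_inv_cancel_right]
        exact mem_sup_right ⟨e, he, rfl⟩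
  exact (mem_normalizer_iff.1 (key hl) r).1 hr

/-- `D` is larger than `Y`. -/
theorem exists_D_not_Y : ∃ d ∈ gD N p, d ∉ gY N p := by
  haveI : Fact (Nat.Prime 2) := ⟨Nat.prime_two⟩
  by_contra! hall
  set Q := Cfsg.pCore 2 G
  haveI : Q.Normal := Cfsg.pCore_normal 2 G
  have hN : ∀ n ∈ N, ∀ x ∈ Q, ⁅n, x⁆ ∈ gY N p := by
    intro n hn x hx
    have h1 : ⁅n, x⁆ ∈ N := by
      rw [commutatorElement_def, mul_assoc, mul_assoc, ← mul_assoc x]
      exact mul_mem hn ((mem_normalizer_iff.1 (h.good.norm (pCore_le_sylow' P hx)) _).1 (inv_mem hn))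
    have h2 : ⁅n, x⁆ ∈ Q := by
      rw [commutatorElement_def]
      exact mul_mem (Subgroup.Normal.conj_mem inferInstance x hx n) (inv_mem hx)
    refine hall _ ⟨h1, ?_⟩
    exact (CfsgLib.LLemma.le_pCoreOf (X := pairGroup N p) (N := pairGroup N p ⊓ Q) inf_le_left
      (fun l hl => CfsgLib.Techniques.mem_normalizer_inf (le_normalizer hl) (normalizer_eq_top Q ▸ mem_top l))
      ((CfsgLib.PCore.pCore_isPGroup (p := 2) (G := G)).to_le inf_le_right))
      ⟨le_sup_left (b := cg N p) h1, h2⟩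
  let K : Subgroup G :=
  { carrier := {l | l ∈ pairGroup N p ∧ ∀ x ∈ Q, ⁅l, x⁆ ∈ gY N p}
    one_mem' := ⟨one_mem _, fun x _ => by rw [commutatorElement_one_left]; exact one_mem _⟩
    mul_mem' := fun {l m} hl hm => ⟨mul_mem hl.1 hm.1, fun x hx => by
      have e : ⁅l * m, x⁆ = l * ⁅m, x⁆ * l⁻¹ * ⁅l, x⁆ := by simp only [commutatorElement_def]; group
      rw [e, h.conj_Y (hm.2 x hx) hl.1]
      exact mul_mem (hm.2 x hx) (hl.2 x hx)⟩
    inv_mem' := fun {l} hl => ⟨inv_mem hl.1, fun x hx => by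
      have e : ⁅l⁻¹, x⁆ = l⁻¹ * ⁅l, x⁆⁻¹ * l := by simp only [commutatorElement_def]; group
      have h1 := h.conj_Y (inv_mem (hl.2 x hx)) (inv_mem hl.1)
      rw [inv_inv] at h1
      rw [e, h1]; exact inv_mem (hl.2 x hx)⟩ }
  have hK : pairGroup N p ≤ K := by
    refine sup_le (fun n hn => ⟨le_sup_left (b := cg N p) hn, hN n hn⟩) ?_
    rintro _ ⟨n, hn, rfl⟩
    refine ⟨(show cg N p ≤ pairGroup N p from le_sup_right) ⟨n, hn, rfl⟩, fun x hx => ?_⟩
    have h1 := hN n hn _ (by simpa using Subgroup.Normal.conj_mem (H := Q) inferInstance x hx p⁻¹)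
    show ⁅p * n * p⁻¹, x⁆ ∈ _
    rw [show ⁅p * n * p⁻¹, x⁆ = p * ⁅n, p⁻¹ * x * p⁆ * p⁻¹ by simp only [commutatorElement_def]; group,
      h.conj_Y h1 h.p_mem]
    exact h1
  have hp : p ∈ centralizer (Q : Set G) := by
    refine mem_centralizer_iff.2 fun x hx => ?_
    set y := ⁅p, x⁆
    have hy : y ∈ gY N p := (hK h.p_mem).2 x hx
    have hpow : ∀ k : ℕ, p ^ k * x * (p ^ k)⁻¹ = y ^ k * x := by
      intro k
      induction k with
      | zero => simp
      | succ k ih =>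
        calc p ^ (k + 1) * x * (p ^ (k + 1))⁻¹ = p * (p ^ k * x * (p ^ k)⁻¹) * p⁻¹ := by
              rw [pow_succ']; group
          _ = (p * y ^ k * p⁻¹) * (y * x) := by
              rw [ih, show y * x = p * x * p⁻¹ by simp only [y, commutatorElement_def]; group]
              group
          _ = y ^ (k + 1) * x := by rw [h.conj_Y (pow_mem hy k) h.p_mem, pow_succ]; group
    have h1 := hpow (orderOf p)
    rw [pow_orderOf_eq_one, one_mul, inv_one, mul_one, right_eq_mul] at h1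
    have h2 : y = 1 := by
      obtain ⟨m, hm⟩ := h.odd
      have hy2 : y ^ 2 = 1 := by rw [pow_two]; exact h.sq hy.1
      rwa [hm, pow_succ, pow_mul, hy2, one_pow, one_mul] at h1
    exact (commutatorElement_eq_one_iff_mul_comm.1 h2).symm
  obtain ⟨j, hj⟩ := CfsgLib.PCore.pCore_isPGroup (p := 2) (G := G) ⟨p, h.core hp⟩
  have h2 : orderOf p ∣ 2 ^ j := orderOf_dvd_of_pow_eq_one (congrArg Subtype.val hj)
  have h3 := (Nat.prime_dvd_prime_iff_eq h.prime Nat.prime_two).1 (h.prime.dvd_of_dvd_pow h2)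
  exact (by decide : ¬ Odd 2) (h3 ▸ h.odd)

/-- `(P2)`: the key injectivity. -/
theorem faith {v : G} (hv : v ∈ N) (hvD : v ∉ gD N p) {f : G} (hf : f ∈ gD' N p) (hfv : ⁅f, v⁆ ∈ gY N p) :
    f ∈ gY N p := by
  haveI : Fact (Nat.Prime 2) := ⟨Nat.prime_two⟩
  have hfN : f ∈ cg N p := (Subgroup.map_mono inf_le_left : gD' N p ≤ cg N p) hf
  let K : Subgroup G :=
  { carrier := {l | l ∈ pairGroup N p ∧ ⁅l, f⁆ ∈ gY N p}
    one_mem' := ⟨one_mem _, by rw [commutatorElement_one_left]; exact one_mem _⟩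
    mul_mem' := fun {l m} hl hm => ⟨mul_mem hl.1 hm.1, by
      rw [show ⁅l * m, f⁆ = l * ⁅m, f⁆ * l⁻¹ * ⁅l, f⁆ by simp only [commutatorElement_def]; group,
        h.conj_Y hm.2 hl.1]
      exact mul_mem hm.2 hl.2⟩
    inv_mem' := fun {l} hl => ⟨inv_mem hl.1, by
      have h1 := h.conj_Y (inv_mem hl.2) (inv_mem hl.1)
      rw [inv_inv] at h1
      rw [show ⁅l⁻¹, f⁆ = l⁻¹ * ⁅l, f⁆⁻¹ * l by simp only [commutatorElement_def]; group, h1]
      exact inv_mem hl.2⟩ }
  have hNpK : cg N p ≤ K := fun w hw => ⟨(show cg N p ≤ pairGroup N p from le_sup_right) hw, by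
    have h1 : w * f = f * w := by
      obtain ⟨n, hn, rfl⟩ := hw
      obtain ⟨e, he, rfl⟩ := hfN
      show (MulAut.conj p) n * (MulAut.conj p) e = (MulAut.conj p) e * (MulAut.conj p) n
      rw [← map_mul, ← map_mul, h.comm hn he]
    rw [commutatorElement_eq_one_iff_mul_comm.2 h1]
    exact one_mem _⟩
  have hvK : v ∈ K := ⟨le_sup_left (b := cg N p) hv, by rw [← commutatorElement_inv]; exact inv_mem hfv⟩
  have hvcg : cg N (v * p) ≤ K := by
    rw [← cg_cg]
    exact (Subgroup.map_mono hNpK).trans (cg_eq_of_mem hvK).le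
  rcases h.eq_or_top (h.cg_le_of_mem h.p_mem) (h.cg_le_of_mem (mul_mem (le_sup_left (b := cg N p) hv) h.p_mem))
    with he | he
  · exfalso
    set Q := Cfsg.pCore 2 G
    haveI : Q.Normal := Cfsg.pCore_normal 2 G
    have hp'v : p⁻¹ * v * p ∈ normalizer (N : Set G) := by
      refine CfsgLib.Techniques.map_conj_eq_self_iff.1 ?_
      show cg N (p⁻¹ * v * p) = N
      rw [mul_assoc, ← cg_cg, ← he, cg_cg, inv_mul_cancel, cg_one]
    -- move it into `P`
    obtain ⟨m, hm, hmle⟩ := CfsgLib.Techniques.exists_conj_le_sylow_of (A := zpowers (p⁻¹ * v * p))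
      (zpowers_le.2 hp'v)
      (fun z => ⟨1, Subtype.ext (by
        obtain ⟨i, hi⟩ := mem_zpowers_iff.1 z.2
        show (z : G) ^ (2 ^ 1) = 1
        rw [← hi, pow_one, ← zpow_natCast, ← zpow_mul, mul_comm, zpow_mul, zpow_natCast, pow_two,
          show p⁻¹ * v * p * (p⁻¹ * v * p) = p⁻¹ * (v * v) * p by group, h.sq hv]
        group)⟩)
      h.good.norm P.2 (CfsgLib.Techniques.not_dvd_relIndex_sylow P h.good.norm)
    have h1 : m * (p⁻¹ * v * p) * m⁻¹ ∈ N ⊔ Q := by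
      have h2 : (m * p⁻¹) * v * (m * p⁻¹)⁻¹ ∈ (P : Subgroup G) := by
        have h3 := hmle ⟨_, mem_zpowers _, rfl⟩
        change m * (p⁻¹ * v * p) * m⁻¹ ∈ (P : Subgroup G) at h3
        rwa [show m * p⁻¹ * v * (m * p⁻¹)⁻¹ = m * (p⁻¹ * v * p) * m⁻¹ by group]
      have h4 := h.closed v hv _ h2
      rwa [show m * p⁻¹ * v * (m * p⁻¹)⁻¹ = m * (p⁻¹ * v * p) * m⁻¹ by group] at h4
    have hmNQ : cg (N ⊔ Q) m⁻¹ = N ⊔ Q := by
      show (N ⊔ Q).map _ = _
      rw [Subgroup.map_sup, CfsgLib.Techniques.map_conj_eq_self_iff.2 (inv_mem hm),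
        CfsgLib.Techniques.map_conj_eq_self_iff.2 (normalizer_eq_top Q ▸ mem_top m⁻¹)]
    have h5 : p⁻¹ * v * p ∈ N ⊔ Q := by
      rw [← hmNQ, mem_cg, inv_inv]; exact h1
    have hNN : N ≤ normalizer (Q : Set G) := fun x _ => normalizer_eq_top Q ▸ mem_top x
    obtain ⟨n₀, hn₀, q₀, hq₀, e₀⟩ := CfsgLib.Techniques.exists_mul_of_mem_sup hNN h5
    -- the image of `v` is central in `L` modulo `Q`
    have hcent : pairGroup N p ≤ (centralizer ({(QuotientGroup.mk v : G ⧸ Q)} : Set (G ⧸ Q))).comap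
        (QuotientGroup.mk' Q) := by
      refine sup_le (fun n hn => mem_centralizer_iff.2 ?_) ?_
      · rintro _ rfl; exact congrArg QuotientGroup.mk (h.comm hv hn)
      · rintro _ ⟨n, hn, rfl⟩
        refine mem_centralizer_iff.2 ?_
        rintro _ rfl
        have e1 : (QuotientGroup.mk v : G ⧸ Q) = QuotientGroup.mk (p * n₀ * p⁻¹) := by
          rw [QuotientGroup.eq]
          have h6 := Subgroup.Normal.conj_mem (H := Q) inferInstance _ (inv_mem hq₀) p
          rwa [show v⁻¹ * (p * n₀ * p⁻¹) = p * q₀⁻¹ * p⁻¹ by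
            rw [show v = p * (n₀ * q₀) * p⁻¹ by rw [e₀]; group]; group]
        show (QuotientGroup.mk v : G ⧸ Q) * QuotientGroup.mk ((MulAut.conj p) n) = _ * QuotientGroup.mk v
        rw [e1]
        show (QuotientGroup.mk ((MulAut.conj p) n₀ * (MulAut.conj p) n) : G ⧸ Q) =
          QuotientGroup.mk ((MulAut.conj p) n * (MulAut.conj p) n₀)
        rw [← map_mul, ← map_mul, h.comm hn₀ hn]
    refine hvD ⟨hv, ?_⟩
    set L := pairGroup N p
    set B := (Q ⊔ zpowers v) ⊓ L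
    have hBp : IsPGroup 2 ↥(Q ⊔ zpowers v) :=
      P.2.to_le (sup_le (pCore_le_sylow' P) (zpowers_le.2 (h.le hv)))
    refine (CfsgLib.LLemma.le_pCoreOf (X := L) (N := B) inf_le_right ?_ (hBp.to_le inf_le_left))
      ⟨mem_sup_right (mem_zpowers v), le_sup_left (b := cg N p) hv⟩
    intro l hl
    refine CfsgLib.Techniques.mem_normalizer_inf ?_ (le_normalizer hl)
    refine CfsgLib.Techniques.map_conj_eq_self_iff.1 (eq_of_le_of_card_ge ?_ (card_cg _ _).ge)
    rw [Subgroup.map_sup]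
    refine sup_le ((CfsgLib.Techniques.map_conj_eq_self_iff.2 (normalizer_eq_top Q ▸ mem_top l)).le.trans
      le_sup_left) ?_
    rw [MonoidHom.map_zpowers, zpowers_le]
    have h7 : (QuotientGroup.mk (l * v * l⁻¹) : G ⧸ Q) = QuotientGroup.mk v := by
      have h8 := mem_centralizer_iff.1 (hcent hl) _ rfl
      show (QuotientGroup.mk l : G ⧸ Q) * QuotientGroup.mk v * (QuotientGroup.mk l)⁻¹ = _
      rw [← show (QuotientGroup.mk v : G ⧸ Q) * QuotientGroup.mk l = QuotientGroup.mk l * QuotientGroup.mk v from h8,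
        mul_inv_cancel_right]
    rw [QuotientGroup.eq] at h7
    have h9 : l * v * l⁻¹ = v * ((l * v * l⁻¹)⁻¹ * v)⁻¹ * 1 := by group
    have h10 : (l * v * l⁻¹) = (l * v * l⁻¹) * ((l * v * l⁻¹)⁻¹ * v) * (v⁻¹ * (l * v * l⁻¹)) := by group
    have h11 : v⁻¹ * (l * v * l⁻¹) ∈ Q := by
      have h12 := inv_mem h7
      rwa [mul_inv_rev, inv_inv] at h12
    show l * v * l⁻¹ ∈ _
    rw [show l * v * l⁻¹ = v * (v⁻¹ * (l * v * l⁻¹)) by group]
    exact mul_mem (mem_sup_right (mem_zpowers v)) (mem_sup_left h11)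
  · -- `f` is central in `L`
    have hLK : pairGroup N p ≤ K := he ▸ sup_le hNpK hvcg
    have hmul : ∀ l m : G, l ∈ pairGroup N p → m ∈ pairGroup N p → ⁅l * m, f⁆ = ⁅l, f⁆ * ⁅m, f⁆ := by
      intro l m hl hm
      rw [show ⁅l * m, f⁆ = l * ⁅m, f⁆ * l⁻¹ * ⁅l, f⁆ by simp only [commutatorElement_def]; group,
        h.conj_Y (hLK hm).2 hl]
      exact h.comm (hLK hm).2.1 (hLK hl).2.1
    have hcomm : ∀ n ∈ N, n * f = f * n := by
      intro n hn
      have hnL : n ∈ pairGroup N p := le_sup_left (b := cg N p) hn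
      set n' := p * n * p⁻¹
      have h1 : ⁅n', f⁆ = ⁅n, f⁆ := by
        rw [hmul _ _ (mul_mem h.p_mem hnL) (inv_mem h.p_mem), hmul _ _ h.p_mem hnL,
          h.comm (hLK h.p_mem).2.1 (hLK hnL).2.1, mul_assoc, ← hmul _ _ h.p_mem (inv_mem h.p_mem),
          mul_inv_cancel, commutatorElement_one_left, mul_one]
      have h2 : n' * f = f * n' := by
        obtain ⟨e, he', rfl⟩ := hfN
        show (MulAut.conj p) n * (MulAut.conj p) e = (MulAut.conj p) e * (MulAut.conj p) n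
        rw [← map_mul, ← map_mul, h.comm hn he']
      rw [commutatorElement_eq_one_iff_mul_comm.2 h2] at h1
      exact commutatorElement_eq_one_iff_mul_comm.1 h1.symm
    have hcent : pairGroup N p ≤ centralizer ({f} : Set G) := by
      refine sup_le (fun n hn => mem_centralizer_iff.2 ?_) ?_
      · rintro _ rfl; exact (hcomm n hn).symm
      · rintro _ ⟨n, hn, rfl⟩
        refine mem_centralizer_iff.2 ?_
        rintro _ rfl
        obtain ⟨e, he', rfl⟩ := hfN
        show (MulAut.conj p) e * (MulAut.conj p) n = (MulAut.conj p) n * (MulAut.conj p) e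
        rw [← map_mul, ← map_mul, h.comm he' hn]
    have hpf : f * p = p * f := mem_centralizer_iff.1 (hcent h.p_mem) f rfl
    obtain ⟨e, he', hef⟩ := hfN
    have h3 : e = f := by
      change p * e * p⁻¹ = f at hef
      calc e = p⁻¹ * (p * e * p⁻¹) * p := by group
        _ = p⁻¹ * (f * p) := by rw [hef, mul_assoc]
        _ = f := by rw [hpf, inv_mul_cancel_left]
    exact ⟨h3 ▸ he', ⟨e, he', hef⟩⟩

end GSetting

end CfsgLib.SFour
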