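import Cfsg.Agent.Lib.SFour.Good
import Cfsg.Agent.Lib.Techniques.JeClassTwo
import Cfsg.Agent.S2759

/-!
The group part: a good subgroup `N` of a Sylow 2-subgroup, outside `O₂`, gives an element `p` of odd prime
order inverted by an element of `N`, with `⟨N, N^p⟩` smallest among the subgroups generated by `N` and a
different conjugate.
-/

set_option autoImplicit false
set_option linter.unusedSectionVars false
set_option linter.style.haveILetI false

namespace CfsgLib.SFour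

open Subgroup
open CfsgLib.LLemma (cg mem_cg cg_cg cg_one cg_le_iff cg_eq_of_mem card_cg)
open scoped commutatorElement

universe u

variable {G : Type u} [Group G]

/-- `⟨N, N^p⟩`. -/
abbrev pairGroup (N : Subgroup G) (p : G) : Subgroup G := N ⊔ cg N p

/-- `O₂⟨N, N^p⟩`. -/
abbrev pairCore (N : Subgroup G) (p : G) : Subgroup G := Cfsg.pCoreOf 2 (pairGroup N p)

/-- The choice of `a` and `p`. -/
structure GSetting (P : Sylow 2 G) (N : Subgroup G) (a p : G) : Prop where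
  le : N ≤ (P : Subgroup G)
  good : GoodSub (P : Subgroup G) N
  core : centralizer (Cfsg.pCore 2 G : Set G) ≤ Cfsg.pCore 2 G
  free : ¬ Cfsg.Involves (Equiv.Perm (Fin 4)) G
  above : ∀ H : Subgroup G, (P : Subgroup G) ≤ H → H ≠ ⊤ → H ≤ normalizer (N : Set G)
  closed : ∀ x ∈ N, ∀ g, g * x * g⁻¹ ∈ (P : Subgroup G) → g * x * g⁻¹ ∈ N ⊔ Cfsg.pCore 2 G
  notNormal : normalizer (N : Set G) ≠ ⊤
  p_not : p ∉ normalizer (N : Set G)
  min : ∀ x, x ∉ normalizer (N : Set G) →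
    Nat.card (pairGroup N p) ≤ Nat.card (N ⊔ cg N x : Subgroup G)
  R_le : pairCore N p ≤ (P : Subgroup G)
  a_mem : a ∈ N
  a_notR : a ∉ pairCore N p
  p_mem : p ∈ pairGroup N p
  inverted : a * p * a⁻¹ = p⁻¹
  prime : (orderOf p).Prime
  odd : Odd (orderOf p)
  not_three : orderOf p ≠ 3

section Lemmas

variable [Finite G] {P : Sylow 2 G} {N : Subgroup G}

theorem pCore_le_sylow' (P : Sylow 2 G) : Cfsg.pCore 2 G ≤ (P : Subgroup G) :=
  haveI : Fact (Nat.Prime 2) := ⟨Nat.prime_two⟩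
  CfsgLib.PCore.pCore_le_sylow P

/-- Strong closure: a conjugate of `N` in `M₀ = N_G(N)` is `N`. -/
theorem mem_normalizer_of_cg_le (hle : N ≤ (P : Subgroup G)) (hnorm : (P : Subgroup G) ≤ normalizer (N : Set G))
    (hover : ∀ H : Subgroup G, (P : Subgroup G) ≤ H → H ≠ ⊤ → H ≤ normalizer (N : Set G))
    (hclosed : ∀ x ∈ N, ∀ g, g * x * g⁻¹ ∈ (P : Subgroup G) → g * x * g⁻¹ ∈ N ⊔ Cfsg.pCore 2 G)
    (hNQ : ¬ N ≤ Cfsg.pCore 2 G) {g : G} (hg : cg N g ≤ normalizer (N : Set G)) :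
    g ∈ normalizer (N : Set G) := by
  haveI : Fact (Nat.Prime 2) := ⟨Nat.prime_two⟩
  obtain ⟨m, hm, hmle⟩ := CfsgLib.Techniques.exists_conj_le_sylow_of hg
    (CfsgLib.Techniques.isPGroup_map_conj (P.2.to_le hle) g) hnorm P.2
    (CfsgLib.Techniques.not_dvd_relIndex_sylow P hnorm)
  rw [← CfsgLib.Techniques.map_conj_mul] at hmle
  set Q := Cfsg.pCore 2 G
  haveI : Q.Normal := Cfsg.pCore_normal 2 G
  have h1 : cg (N ⊔ Q) (m * g) = N ⊔ Q := by
    refine eq_of_le_of_card_ge ?_ (card_cg _ _).ge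
    rw [cg, Subgroup.map_sup]
    refine sup_le ?_ ((CfsgLib.Techniques.map_conj_eq_self_iff.2
      (normalizer_eq_top Q ▸ mem_top (m * g))).le.trans le_sup_right)
    rintro _ ⟨x, hx, rfl⟩
    exact hclosed x hx _ (hmle ⟨x, hx, rfl⟩)
  have h2 : m * g ∈ normalizer ((N ⊔ Q : Subgroup G) : Set G) :=
    CfsgLib.Techniques.map_conj_eq_self_iff.1 h1
  have h3 : (P : Subgroup G) ≤ normalizer ((N ⊔ Q : Subgroup G) : Set G) := fun x hx => by
    refine CfsgLib.Techniques.map_conj_eq_self_iff.1 ?_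
    rw [Subgroup.map_sup, CfsgLib.Techniques.map_conj_eq_self_iff.2 (hnorm hx),
      CfsgLib.Techniques.map_conj_eq_self_iff.2 (normalizer_eq_top Q ▸ mem_top x)]
  have h4 : normalizer ((N ⊔ Q : Subgroup G) : Set G) ≠ ⊤ := fun e => hNQ (le_sup_left.trans
    (CfsgLib.PCore.le_pCore (normalizer_eq_top_iff.1 e) (P.2.to_le (sup_le hle (pCore_le_sylow' P)))))
  have h5 := hover _ h3 h4 h2
  simpa using mul_mem (inv_mem hm) h5

theorem exists_setting (hC : centralizer (Cfsg.pCore 2 G : Set G) ≤ Cfsg.pCore 2 G)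
    (hS4 : ¬ Cfsg.Involves (Equiv.Perm (Fin 4)) G) (hNP : N ≤ (P : Subgroup G))
    (hN : GoodSub (P : Subgroup G) N) (hNQ : ¬ N ≤ Cfsg.pCore 2 G)
    (hover : ∀ H : Subgroup G, (P : Subgroup G) ≤ H → H ≠ ⊤ → H ≤ normalizer (N : Set G))
    (hclosed : ∀ x ∈ N, ∀ g, g * x * g⁻¹ ∈ (P : Subgroup G) → g * x * g⁻¹ ∈ N ⊔ Cfsg.pCore 2 G) :
    ∃ a p, GSetting P N a p := by
  haveI : Fact (Nat.Prime 2) := ⟨Nat.prime_two⟩
  set M₀ := normalizer (N : Set G)
  have hnot : M₀ ≠ ⊤ := fun e => hNQ (CfsgLib.PCore.le_pCore (normalizer_eq_top_iff.1 e) (P.2.to_le hNP))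
  have hmemM : ∀ {g : G}, cg N g ≤ (P : Subgroup G) → g ∈ M₀ := fun hg =>
    mem_normalizer_of_cg_le hNP hN.norm hover hclosed hNQ (hg.trans hN.norm)
  obtain ⟨g₀, hg₀, hmin⟩ := Set.exists_min_image {g : G | g ∉ M₀}
    (fun g => Nat.card (N ⊔ cg N g : Subgroup G)) (Set.toFinite _) (by
      by_contra h
      exact hnot (eq_top_iff.2 fun g _ => by_contra fun hg => h ⟨g, hg⟩))
  set L₀ := N ⊔ cg N g₀
  set R₀ := Cfsg.pCoreOf 2 L₀
  have hNR₀ : IsPGroup 2 ↥(N ⊔ R₀) :=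
    CfsgLib.Techniques.isPGroup_sup (P.2.to_le hNP) (CfsgLib.LLemma.pCoreOf_isPGroup L₀)
      (le_sup_left.trans (CfsgLib.LLemma.le_normalizer_pCoreOf L₀))
  obtain ⟨T, hT⟩ := hNR₀.exists_le_sylow
  obtain ⟨w, hw⟩ := MulAction.exists_smul_eq G T P
  have hwle : cg (N ⊔ R₀) w ≤ (P : Subgroup G) := by
    refine (Subgroup.map_mono hT).trans ?_
    rw [← hw]; exact le_of_eq rfl
  have hwM : w ∈ M₀ := hmemM ((Subgroup.map_mono le_sup_left).trans hwle)
  have hwN : cg N w = N := CfsgLib.Techniques.map_conj_eq_self_iff.2 hwM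
  set g := w * g₀
  have hg : g ∉ M₀ := fun h => hg₀ (by simpa [g] using mul_mem (inv_mem hwM) h)
  have hLg : cg L₀ w = N ⊔ cg N g := by
    show (N ⊔ cg N g₀).map _ = _
    rw [Subgroup.map_sup, ← CfsgLib.Techniques.map_conj_mul]
    exact congrArg (· ⊔ _) hwN
  set L := N ⊔ cg N g
  have hming : ∀ x, x ∉ M₀ → Nat.card L ≤ Nat.card (N ⊔ cg N x : Subgroup G) := fun x hx => by
    rw [← hLg, card_cg]; exact hmin x hx
  set R := Cfsg.pCoreOf 2 L
  have hR : R ≤ (P : Subgroup G) := by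
    show Cfsg.pCoreOf 2 L ≤ _
    rw [← hLg, CfsgLib.LLemma.pCoreOf_cg]
    exact (Subgroup.map_mono le_sup_right).trans hwle
  -- `N` is not in `R`
  have hNR : ¬ N ≤ R := by
    intro hle
    have hL : L ≤ R ⊔ cg N g := sup_le (hle.trans le_sup_left) le_sup_right
    have hp : IsPGroup 2 ↥(R ⊔ cg N g) := by
      rw [sup_comm]
      exact CfsgLib.Techniques.isPGroup_sup (CfsgLib.Techniques.isPGroup_map_conj (P.2.to_le hNP) g)
        (CfsgLib.LLemma.pCoreOf_isPGroup L)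
        ((show cg N g ≤ L from le_sup_right).trans (CfsgLib.LLemma.le_normalizer_pCoreOf L))
    obtain ⟨T', hT'⟩ := (hp.to_le hL).exists_le_sylow
    obtain ⟨v, hv⟩ := MulAction.exists_smul_eq G T' P
    have hvle : cg L v ≤ (P : Subgroup G) := by
      refine (Subgroup.map_mono hT').trans ?_
      rw [← hv]; exact le_of_eq rfl
    have hv1 : v ∈ M₀ := hmemM ((Subgroup.map_mono le_sup_left).trans hvle)
    have hv2 : v * g ∈ M₀ := hmemM (by
      rw [← cg_cg]; exact (Subgroup.map_mono le_sup_right).trans hvle)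
    exact hg (by simpa using mul_mem (inv_mem hv1) hv2)
  obtain ⟨a, haN, haR⟩ := SetLike.not_le_iff_exists.1 hNR
  have haL : a ∈ L := le_sup_left (b := cg N g) haN
  have ha2 : a * a = 1 := by rw [← pow_two]; exact hN.elem.2 a haN
  obtain ⟨x, k, hodd, hne, hinv⟩ := CfsgLib.Techniques.JeTwo.exists_inverted (G := L) (a := ⟨a, haL⟩)
    (Subtype.ext ha2) fun h => haR ⟨_, h, rfl⟩
  set y : L := (⟨a, haL⟩ * (x * ⟨a, haL⟩ * x⁻¹)) ^ 2 ^ k
  obtain ⟨q, hq, hqd⟩ := Nat.exists_prime_and_dvd (show orderOf y ≠ 1 from fun h => hne (orderOf_eq_one_iff.1 h))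
  set p₀ := y ^ (orderOf y / q)
  have hp₀ : orderOf p₀ = q := orderOf_pow_orderOf_div (orderOf_pos y).ne' hqd
  set p : G := (p₀ : G)
  have hp : orderOf p = q := by rw [← hp₀]; exact Subgroup.orderOf_coe p₀
  have hqodd : Odd q := hodd.of_dvd_nat hqd
  have hinvp : a * p * a⁻¹ = p⁻¹ := by
    have h1 : (⟨a, haL⟩ : L) * p₀ * (⟨a, haL⟩ : L)⁻¹ = p₀⁻¹ := by
      rw [← conj_pow, hinv, inv_pow]
    exact congrArg Subtype.val h1
  have hpM : p ∉ M₀ := by
    intro hpM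
    have h1 : p * a * p⁻¹ ∈ N := (mem_normalizer_iff.1 hpM a).1 haN
    have h2 : p * a * p⁻¹ * a = p * p := by
      have h3 : a * p⁻¹ * a⁻¹ = p := by
        have h := congrArg (·⁻¹) hinvp
        simp only [mul_inv_rev, inv_inv] at h
        rw [mul_assoc]; exact h
      have hai : a⁻¹ = a := inv_eq_of_mul_eq_one_right ha2
      calc p * a * p⁻¹ * a = p * (a * p⁻¹ * a⁻¹) := by rw [hai]; group
        _ = p * p := by rw [h3]
    have h4 : (p * p) * (p * p) = 1 := by rw [← h2, ← pow_two]; exact hN.elem.2 _ (mul_mem h1 haN)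
    have h5 : p ^ 4 = 1 := by rw [← h4]; simp only [pow_succ, pow_zero, one_mul, mul_assoc]
    have h6 : q ∣ 4 := hp ▸ orderOf_dvd_of_pow_eq_one h5
    obtain ⟨m, rfl⟩ := hqodd
    have h7 : 2 * m + 1 ≤ 4 := Nat.le_of_dvd (by omega) h6
    have h8 : m ≤ 1 := by omega
    interval_cases m
    · exact hq.ne_one rfl
    · omega
  have hle : N ⊔ cg N p ≤ L := sup_le le_sup_left (by
    rintro _ ⟨n, hn, rfl⟩
    exact mul_mem (mul_mem p₀.2 (le_sup_left (b := cg N g) hn)) (inv_mem p₀.2))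
  have hLp : pairGroup N p = L := eq_of_le_of_card_ge hle (hming p hpM)
  refine ⟨a, p, hNP, hN, hC, hS4, hover, hclosed, hnot, hpM, ?_, ?_, haN, ?_, ?_, hinvp, hp ▸ hq, hp ▸ hqodd, ?_⟩
  · intro x hx; rw [hLp]; exact hming x hx
  · show Cfsg.pCoreOf 2 (pairGroup N p) ≤ _
    rw [hLp]; exact hR
  · show a ∉ Cfsg.pCoreOf 2 (pairGroup N p)
    rw [hLp]; exact haR
  · rw [hLp]; exact p₀.2
  · -- the order is not three
    intro h3
    haveI : Fact (Nat.Prime (orderOf p)) := ⟨hp ▸ hq⟩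
    set Q := Cfsg.pCore 2 G
    haveI : Q.Normal := Cfsg.pCore_normal 2 G
    set F : Subgroup G := (frattini ↥Q).map Q.subtype
    haveI : F.Normal := normalizer_eq_top_iff.1 (top_le_iff.1 ((normalizer_eq_top Q).ge.trans
      (CfsgLib.Techniques.normalizer_le_normalizer_map_subtype Q (frattini ↥Q))))
    let π := QuotientGroup.mk' F
    set V : Subgroup (G ⧸ F) := Q.map π
    haveI : V.Normal := Subgroup.Normal.map inferInstance π (QuotientGroup.mk'_surjective F)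
    have hVp : IsPGroup 2 V := (CfsgLib.PCore.pCore_isPGroup (p := 2) (G := G)).map π
    have hpn : π p ∉ centralizer (V : Set (G ⧸ F)) := by
      intro hc
      have hcen : zpowers p ≤ centralizer (Q : Set G) := by
        refine CfsgLib.LocalEven.Involved.le_centralizer_of_le_centralizer_frattini (r := 2) (q := orderOf p)
          ?_ CfsgLib.PCore.pCore_isPGroup ?_ ?_ ?_
        · intro e; rw [hp] at e; exact (by decide : ¬ Odd 2) (e ▸ hqodd)
        · exact IsPGroup.of_card (n := 1) (by rw [Nat.card_zpowers, pow_one])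
        · intro u hu t ht
          rw [← QuotientGroup.eq_one_iff (N := F), ← QuotientGroup.mk'_apply, map_commutatorElement,
            commutatorElement_eq_one_iff_mul_comm]
          have h1 : π u ∈ centralizer (V : Set (G ⧸ F)) := by
            obtain ⟨i, rfl⟩ := mem_zpowers_iff.1 hu
            rw [map_zpow]; exact zpow_mem hc i
          exact (mem_centralizer_iff.1 h1 _ ⟨t, ht, rfl⟩).symm
        · exact fun u _ => normalizer_eq_top Q ▸ mem_top u
      have h1 : p ∈ Q := hC (hcen (mem_zpowers p))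
      obtain ⟨j, hj⟩ := CfsgLib.PCore.pCore_isPGroup (p := 2) (G := G) ⟨p, h1⟩
      have h2 : orderOf p ∣ 2 ^ j := orderOf_dvd_of_pow_eq_one (congrArg Subtype.val hj)
      rw [h3] at h2
      exact absurd (Nat.Prime.dvd_of_dvd_pow Nat.prime_three h2) (by decide)
    set Nn := normalizer (V : Set (G ⧸ F))
    have hmemN : ∀ z, z ∈ Nn := fun z => by
      show z ∈ normalizer (V : Set (G ⧸ F))
      rw [normalizer_eq_top V]; exact mem_top z
    set C := (centralizer (V : Set (G ⧸ F))).subgroupOf Nn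
    haveI : C.Normal := Subgroup.normal_subgroupOf_iff_le_normalizer
      ((centralizer_le_normalizer _)) |>.2 (CfsgLib.Techniques.normalizer_le_normalizer_centralizer V)
    have hfree : S3Free (↥Nn ⧸ C) := fun h => hS4 (CfsgLib.LocalEven.Involved.involves_of_surjective π
      (QuotientGroup.mk'_surjective F) (Cfsg.Agent.S2759.backward V hVp h))
    let y₀ : ↥Nn ⧸ C := QuotientGroup.mk ⟨π a, hmemN _⟩
    let x₀ : ↥Nn ⧸ C := QuotientGroup.mk ⟨π p, hmemN _⟩
    have hy2 : y₀ * y₀ = 1 := congrArg QuotientGroup.mk (Subtype.ext (show π a * π a = 1 by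
      rw [← map_mul, ha2, map_one]) : (⟨π a, hmemN _⟩ : Nn) * ⟨π a, hmemN _⟩ = 1)
    have hyx : y₀ * x₀ * y₀⁻¹ = x₀⁻¹ := congrArg QuotientGroup.mk (Subtype.ext (show π a * π p * (π a)⁻¹ = (π p)⁻¹ by
      rw [← map_inv, ← map_mul, ← map_mul, ← map_inv, hinvp]) :
        (⟨π a, hmemN _⟩ : Nn) * ⟨π p, hmemN _⟩ * (⟨π a, hmemN _⟩ : Nn)⁻¹ = (⟨π p, hmemN _⟩ : Nn)⁻¹)
    have hx3 : x₀ ^ 3 = 1 := congrArg QuotientGroup.mk (Subtype.ext (show (π p) ^ 3 = 1 by
      rw [← map_pow, ← h3, pow_orderOf_eq_one, map_one]) : (⟨π p, hmemN _⟩ : Nn) ^ 3 = 1)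
    have hxy2 : (y₀ * x₀) * (y₀ * x₀) = 1 := by
      have hyi : y₀⁻¹ = y₀ := inv_eq_of_mul_eq_one_right hy2
      rw [hyi] at hyx
      rw [← mul_assoc, hyx, inv_mul_cancel]
    have h := hfree.eq_of_cube hy2 hxy2 (by rw [← mul_assoc, hy2, one_mul, hx3])
    exact hpn ((QuotientGroup.eq_one_iff (⟨π p, hmemN _⟩ : Nn)).1 (left_eq_mul.1 h))

end Lemmas

end CfsgLib.SFour
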