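import Cfsg.Agent.Lib.SFour.GModule
import Cfsg.Agent.Lib.Stellmacher.Graphs

/-!
The group part: the module `DD'/Y`, the bound `|N : D|² < |D : Y|` and the fixed space of `D'`.
-/

set_option autoImplicit false
set_option linter.unusedSectionVars false
set_option linter.style.haveILetI false

namespace CfsgLib.SFour

open Subgroup
open CfsgLib.LLemma (cg mem_cg cg_cg cg_one cg_le_iff cg_eq_of_mem card_cg)
open scoped commutatorElement

universe u

variable {G : Type u} [Group G]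

/-- The subgroup factored out, normal for every choice of `N` and `p`. -/
def gKer (N : Subgroup G) (p : G) : Subgroup (gR0 N p) :=
  commutator (gR0 N p) ⊔ ((gY N p).subgroupOf (gR0 N p)).normalCore

instance gKer_normal (N : Subgroup G) (p : G) : (gKer N p).Normal := by unfold gKer; infer_instance

/-- `DD'/Y`. -/
def GW (N : Subgroup G) (p : G) : Type u := Additive (gR0 N p ⧸ gKer N p)

noncomputable instance (N : Subgroup G) (p : G) : AddCommGroup (GW N p) :=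
  { (inferInstance : AddGroup (Additive (gR0 N p ⧸ gKer N p))) with
    add_comm := fun x y => by
      refine Additive.toMul.injective ?_
      show Additive.toMul x * Additive.toMul y = Additive.toMul y * Additive.toMul x
      induction (Additive.toMul x) using QuotientGroup.induction_on with
      | H u =>
        induction (Additive.toMul y) using QuotientGroup.induction_on with
        | H v =>
          refine QuotientGroup.eq.2 (mem_sup_left ?_)
          have e : (u * v)⁻¹ * (v * u) = ⁅v⁻¹, u⁻¹⁆ := by rw [commutatorElement_def]; group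
          rw [e]; exact commutator_mem_commutator (mem_top _) (mem_top _) }

instance [Finite G] (N : Subgroup G) (p : G) : Finite (GW N p) :=
  Finite.of_surjective (fun x : gR0 N p => (Additive.ofMul (QuotientGroup.mk x) : Additive (gR0 N p ⧸ gKer N p)))
    fun y => ⟨(Additive.toMul y).out, congrArg Additive.ofMul (QuotientGroup.out_eq' _)⟩

/-- The class of an element of `DD'`. -/
def mkW {N : Subgroup G} {p : G} (x : gR0 N p) : GW N p :=
  (Additive.ofMul (QuotientGroup.mk x) : Additive (gR0 N p ⧸ gKer N p))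

open scoped Classical in
/-- The class of an element. -/
noncomputable def cl (N : Subgroup G) (p : G) (x : G) : GW N p :=
  if hx : x ∈ gR0 N p then mkW ⟨x, hx⟩ else 0

/-- A representative. -/
noncomputable def rep {N : Subgroup G} {p : G} (w : GW N p) : G :=
  ((Additive.toMul (α := gR0 N p ⧸ gKer N p) w).out : gR0 N p)

theorem rep_mem {N : Subgroup G} {p : G} (w : GW N p) : rep w ∈ gR0 N p := SetLike.coe_mem _

theorem cl_rep {N : Subgroup G} {p : G} (w : GW N p) : cl N p (rep w) = w := by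
  rw [cl, dif_pos (rep_mem w)]
  exact congrArg Additive.ofMul (QuotientGroup.out_eq' (Additive.toMul (α := gR0 N p ⧸ gKer N p) w))

theorem cl_mul {N : Subgroup G} {p x y : G} (hx : x ∈ gR0 N p) (hy : y ∈ gR0 N p) :
    cl N p (x * y) = cl N p x + cl N p y := by
  rw [cl, cl, cl, dif_pos hx, dif_pos hy, dif_pos (mul_mem hx hy)]
  rfl

theorem cl_one (N : Subgroup G) (p : G) : cl N p 1 = 0 := by
  rw [cl, dif_pos (one_mem _)]
  rfl

theorem cl_inv {N : Subgroup G} {p x : G} (hx : x ∈ gR0 N p) : cl N p x⁻¹ = -cl N p x := by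
  refine eq_neg_of_add_eq_zero_left ?_
  rw [← cl_mul (inv_mem hx) hx, inv_mul_cancel, cl_one]

theorem cl_surj {N : Subgroup G} {p : G} (w : GW N p) : ∃ x ∈ gR0 N p, cl N p x = w :=
  ⟨rep w, rep_mem w, cl_rep w⟩

variable [Finite G] {P : Sylow 2 G} {N : Subgroup G} {a p : G}

namespace GSetting

variable (h : GSetting P N a p)
include h

theorem D_R0 {d : G} (hd : d ∈ gD N p) : d ∈ gR0 N p := mem_sup_left hd

theorem D'_R0 {f : G} (hf : f ∈ gD' N p) : f ∈ gR0 N p := mem_sup_right hf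

theorem Y_R0 {y : G} (hy : y ∈ gY N p) : y ∈ gR0 N p := h.D_R0 (h.Y_le_D hy)

theorem comm_R0 {x y : G} (hx : x ∈ gR0 N p) (hy : y ∈ gR0 N p) : ⁅x, y⁆ ∈ gY N p := by
  obtain ⟨d, hd, f, hf, rfl⟩ := h.exists_mul hx
  obtain ⟨e, he, g, hg, rfl⟩ := h.exists_mul hy
  have hfd : ∀ u ∈ gD' N p, ∀ v ∈ gD N p, ⁅u, v⁆ ∈ gY N p := fun u hu v hv => h.inv_mem_Y hu hv
  have h1 : ⁅f, e * g⁆ ∈ gY N p := by
    rw [show ⁅f, e * g⁆ = ⁅f, e⁆ * (e * ⁅f, g⁆ * e⁻¹) by simp only [commutatorElement_def]; group,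
      commutatorElement_eq_one_iff_mul_comm.2 (h.D'_comm hf hg), mul_one, mul_inv_cancel, mul_one]
    exact hfd f hf e he
  have h2 : ⁅d, e * g⁆ ∈ gY N p := by
    have h3 : ⁅d, g⁆ ∈ gY N p := by
      rw [← commutatorElement_inv]; exact inv_mem (hfd g hg d hd)
    rw [show ⁅d, e * g⁆ = ⁅d, e⁆ * (e * ⁅d, g⁆ * e⁻¹) by simp only [commutatorElement_def]; group,
      commutatorElement_eq_one_iff_mul_comm.2 (h.comm hd.1 he.1), one_mul,
      h.conj_Y h3 (h.R0_le_L (h.D_R0 he))]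
    exact h3
  rw [show ⁅d * f, e * g⁆ = (d * ⁅f, e * g⁆ * d⁻¹) * ⁅d, e * g⁆ by simp only [commutatorElement_def]; group,
    h.conj_Y h1 (h.R0_le_L (h.D_R0 hd))]
  exact mul_mem h1 h2

theorem gKer_eq : gKer N p = (gY N p).subgroupOf (gR0 N p) := by
  have hn : ((gY N p).subgroupOf (gR0 N p)).Normal := ⟨fun y hy r => by
    show (r : G) * y * (r : G)⁻¹ ∈ gY N p
    rw [h.conj_Y (mem_subgroupOf.1 hy) (h.R0_le_L r.2)]
    exact mem_subgroupOf.1 hy⟩
  rw [gKer, Subgroup.normalCore_eq_self]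
  refine sup_eq_right.2 ?_
  rw [_root_.commutator_def, Subgroup.commutator_le]
  intro x _ y _
  exact mem_subgroupOf.2 (h.comm_R0 x.2 y.2)

theorem cl_eq_iff {x y : G} (hx : x ∈ gR0 N p) (hy : y ∈ gR0 N p) :
    cl N p x = cl N p y ↔ x⁻¹ * y ∈ gY N p := by
  rw [cl, cl, dif_pos hx, dif_pos hy]
  refine Iff.trans (Additive.ofMul.injective.eq_iff (α := gR0 N p ⧸ gKer N p)) ?_
  rw [QuotientGroup.eq, h.gKer_eq, mem_subgroupOf]
  rfl

theorem cl_eq_zero_iff {x : G} (hx : x ∈ gR0 N p) : cl N p x = 0 ↔ x ∈ gY N p := by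
  rw [← cl_one N p, h.cl_eq_iff hx (one_mem _), mul_one, inv_mem_iff]

theorem cl_Y {y : G} (hy : y ∈ gY N p) : cl N p y = 0 := (h.cl_eq_zero_iff (h.Y_R0 hy)).2 hy

theorem two (w : GW N p) : w + w = 0 := by
  obtain ⟨x, hx, rfl⟩ := cl_surj w
  obtain ⟨d, hd, f, hf, rfl⟩ := h.exists_mul hx
  have hd2 : cl N p d + cl N p d = 0 := by rw [← cl_mul (h.D_R0 hd) (h.D_R0 hd), h.sq hd.1, cl_one]
  have hf2 : cl N p f + cl N p f = 0 := by rw [← cl_mul (h.D'_R0 hf) (h.D'_R0 hf), h.D'_sq hf, cl_one]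
  rw [cl_mul (h.D_R0 hd) (h.D'_R0 hf), add_add_add_comm, hd2, hf2, add_zero]

theorem neg_eq (w : GW N p) : -w = w := neg_eq_of_add_eq_zero_left (h.two w)

theorem sub_eq (w w' : GW N p) : w - w' = w + w' := by rw [sub_eq_add_neg, h.neg_eq]

end GSetting

/-- The image of `D`. -/
noncomputable def gPW (N : Subgroup G) (p : G) : AddSubgroup (GW N p) :=
  AddSubgroup.closure (cl N p '' (gD N p : Set G))

/-- The image of `D'`. -/
noncomputable def gQW (N : Subgroup G) (p : G) : AddSubgroup (GW N p) :=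
  AddSubgroup.closure (cl N p '' (gD' N p : Set G))

theorem exists_of_mem_closure {N : Subgroup G} {p : G} {K : Subgroup G} (hK : K ≤ gR0 N p) {w : GW N p}
    (hw : w ∈ AddSubgroup.closure (cl N p '' (K : Set G))) : ∃ x ∈ K, cl N p x = w := by
  induction hw using AddSubgroup.closure_induction with
  | mem w hw => exact hw
  | zero => exact ⟨1, one_mem _, cl_one N p⟩
  | add v w _ _ hv hw =>
    obtain ⟨x, hx, rfl⟩ := hv
    obtain ⟨y, hy, rfl⟩ := hw
    exact ⟨x * y, mul_mem hx hy, cl_mul (hK hx) (hK hy)⟩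
  | neg v _ hv =>
    obtain ⟨x, hx, rfl⟩ := hv
    exact ⟨x⁻¹, inv_mem hx, cl_inv (hK hx)⟩

namespace GSetting

variable (h : GSetting P N a p)
include h

theorem exists_PW {w : GW N p} (hw : w ∈ gPW N p) : ∃ d ∈ gD N p, cl N p d = w :=
  exists_of_mem_closure le_sup_left hw

theorem exists_QW {w : GW N p} (hw : w ∈ gQW N p) : ∃ f ∈ gD' N p, cl N p f = w :=
  exists_of_mem_closure le_sup_right hw

theorem cl_mem_PW {d : G} (hd : d ∈ gD N p) : cl N p d ∈ gPW N p :=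
  AddSubgroup.subset_closure ⟨d, hd, rfl⟩

theorem cl_mem_QW {f : G} (hf : f ∈ gD' N p) : cl N p f ∈ gQW N p :=
  AddSubgroup.subset_closure ⟨f, hf, rfl⟩

theorem mem_D_of_PW {x : G} (hx : x ∈ gR0 N p) (hw : cl N p x ∈ gPW N p) : x ∈ gD N p := by
  obtain ⟨d, hd, e⟩ := h.exists_PW hw
  have h1 := h.Y_le_D ((h.cl_eq_iff (h.D_R0 hd) hx).1 e)
  simpa using mul_mem hd h1

theorem mem_D'_of_QW {x : G} (hx : x ∈ gR0 N p) (hw : cl N p x ∈ gQW N p) : x ∈ gD' N p := by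
  obtain ⟨f, hf, e⟩ := h.exists_QW hw
  have h1 := h.Y_le_D' ((h.cl_eq_iff (h.D'_R0 hf) hx).1 e)
  simpa using mul_mem hf h1

theorem PW_inf_QW {w : GW N p} (h1 : w ∈ gPW N p) (h2 : w ∈ gQW N p) : w = 0 := by
  obtain ⟨d, hd, rfl⟩ := h.exists_PW h1
  exact h.cl_Y (h.D_inf_D' ▸ ⟨hd, h.mem_D'_of_QW (h.D_R0 hd) h2⟩)

/-- Conjugation by an element of `L` on the module. -/
noncomputable def act (l : G) (hl : l ∈ pairGroup N p) : AddMonoid.End (GW N p) :=
  AddMonoidHom.mk' (fun w => cl N p (l * rep w * l⁻¹)) (fun v w => by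
    rw [← cl_mul (h.conj_R0 hl (rep_mem v)) (h.conj_R0 hl (rep_mem w)),
      h.cl_eq_iff (h.conj_R0 hl (rep_mem _)) (mul_mem (h.conj_R0 hl (rep_mem v)) (h.conj_R0 hl (rep_mem w)))]
    have h1 : (rep (v + w))⁻¹ * (rep v * rep w) ∈ gY N p := by
      rw [← h.cl_eq_iff (rep_mem _) (mul_mem (rep_mem v) (rep_mem w)), cl_mul (rep_mem v) (rep_mem w),
        cl_rep, cl_rep, cl_rep]
    rw [show (l * rep (v + w) * l⁻¹)⁻¹ * (l * rep v * l⁻¹ * (l * rep w * l⁻¹)) =
      l * ((rep (v + w))⁻¹ * (rep v * rep w)) * l⁻¹ by group, h.conj_Y h1 hl]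
    exact h1)

theorem act_cl {l : G} (hl : l ∈ pairGroup N p) {x : G} (hx : x ∈ gR0 N p) :
    h.act l hl (cl N p x) = cl N p (l * x * l⁻¹) := by
  show cl N p (l * rep (cl N p x) * l⁻¹) = _
  rw [h.cl_eq_iff (h.conj_R0 hl (rep_mem _)) (h.conj_R0 hl hx)]
  have h1 : (rep (cl N p x))⁻¹ * x ∈ gY N p := (h.cl_eq_iff (rep_mem _) hx).1 (cl_rep _)
  rw [show (l * rep (cl N p x) * l⁻¹)⁻¹ * (l * x * l⁻¹) = l * ((rep (cl N p x))⁻¹ * x) * l⁻¹ by group,
    h.conj_Y h1 hl]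
  exact h1

theorem act_act {l m : G} (hl : l ∈ pairGroup N p) (hm : m ∈ pairGroup N p) (w : GW N p) :
    h.act l hl (h.act m hm w) = h.act (l * m) (mul_mem hl hm) w := by
  obtain ⟨x, hx, rfl⟩ := cl_surj w
  rw [h.act_cl hm hx, h.act_cl hl (h.conj_R0 hm hx), h.act_cl (mul_mem hl hm) hx]
  congr 1
  group

theorem act_congr {l m : G} (hl : l ∈ pairGroup N p) (hm : m ∈ pairGroup N p) (e : l = m) (w : GW N p) :
    h.act l hl w = h.act m hm w := by subst e; rfl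

theorem act_one_apply (w : GW N p) : h.act 1 (one_mem _) w = w := by
  obtain ⟨x, hx, rfl⟩ := cl_surj w
  rw [h.act_cl (one_mem _) hx, one_mul, inv_one, mul_one]

/-- The representation of `L`. -/
noncomputable def gRep : (pairGroup N p : Subgroup G) →* AddMonoid.End (GW N p) where
  toFun l := h.act (l : G) l.2
  map_one' := AddMonoidHom.ext fun w => h.act_one_apply w
  map_mul' l m := AddMonoidHom.ext fun w => (h.act_act l.2 m.2 w).symm

/-- The element exchanging `N` and `N^p`. -/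
theorem swap_mem : p * a ∈ pairGroup N p := mul_mem h.p_mem h.a_L

theorem cg_swap : cg N (p * a) = cg N p ∧ cg (cg N p) (p * a) = N := by
  constructor
  · rw [← cg_cg, cg_eq_of_mem h.a_mem]
  · have e : p * a * p = a := by
      have h1 : a * p = p⁻¹ * a := by rw [← h.inverted]; group
      rw [mul_assoc, h1, mul_inv_cancel_left]
    rw [cg_cg, e, cg_eq_of_mem h.a_mem]

theorem swap_D {d : G} (hd : d ∈ gD N p) : p * a * d * (p * a)⁻¹ ∈ gD' N p := by
  rw [h.D'_eq]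
  exact ⟨h.cg_swap.1 ▸ ⟨d, hd.1, rfl⟩, (h.cg_R h.swap_mem).le ⟨d, hd.2, rfl⟩⟩

theorem swap_D' {f : G} (hf : f ∈ gD' N p) : p * a * f * (p * a)⁻¹ ∈ gD N p := by
  rw [h.D'_eq] at hf
  exact ⟨h.cg_swap.2.le ⟨f, hf.1, rfl⟩, (h.cg_R h.swap_mem).le ⟨f, hf.2, rfl⟩⟩

theorem faith' {b : G} (hb : b ∈ cg N p) (hbD : b ∉ gD' N p) {d : G} (hd : d ∈ gD N p)
    (hdb : ⁅d, b⁆ ∈ gY N p) : d ∈ gY N p := by
  set s := p * a
  have hs : s ∈ pairGroup N p := h.swap_mem
  have hb' : s * b * s⁻¹ ∈ N := h.cg_swap.2.le ⟨b, hb, rfl⟩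
  have hs2 : s * s = 1 := by
    have h1 : a * p = p⁻¹ * a := by rw [← h.inverted]; group
    calc s * s = p * (a * p) * a := by simp only [s, mul_assoc]
      _ = a * a := by rw [h1, mul_inv_cancel_left]
      _ = 1 := h.sq h.a_mem
  have hsi : s⁻¹ = s := inv_eq_of_mul_eq_one_right hs2
  have hb'D : s * b * s⁻¹ ∉ gD N p := fun hD => hbD (by
    have h1 : s * (s * b * s⁻¹) * s⁻¹ ∈ gD' N p := h.swap_D hD
    rwa [hsi, show s * (s * b * s) * s = (s * s) * b * (s * s) by group, hs2, one_mul, mul_one] at h1)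
  have h2 := h.faith hb' hb'D (h.swap_D hd) (by
    rw [show ⁅s * d * s⁻¹, s * b * s⁻¹⁆ = s * ⁅d, b⁆ * s⁻¹ by simp only [commutatorElement_def]; group,
      h.conj_Y hdb hs]
    exact hdb)
  have h3 := h.conj_Y h2 (inv_mem hs)
  rw [inv_inv, show s⁻¹ * (s * d * s⁻¹) * s = d by group] at h3
  exact h3 ▸ h2

theorem act_N {v : G} (hv : v ∈ N) {f : G} (hf : f ∈ gD' N p) :
    h.act v (mem_sup_left hv) (cl N p f) = cl N p ⁅f, v⁆ + cl N p f := by
  have hc := h.D_R0 (h.comm_D (h.D'_le_R hf) hv)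
  rw [h.act_cl (mem_sup_left hv) (h.D'_R0 hf),
    show v * f * v⁻¹ = ⁅f, v⁆⁻¹ * f by simp only [commutatorElement_def]; group,
    cl_mul (inv_mem hc) (h.D'_R0 hf), cl_inv hc, h.neg_eq]

theorem act_N_D {v : G} (hv : v ∈ N) {w : GW N p} (hw : w ∈ gPW N p) :
    h.act v (mem_sup_left hv) w = w := by
  obtain ⟨d, hd, rfl⟩ := h.exists_PW hw
  rw [h.act_cl (mem_sup_left hv) (h.D_R0 hd), h.comm hv hd.1, mul_inv_cancel_right]

theorem act_N' {b : G} (hb : b ∈ cg N p) {d : G} (hd : d ∈ gD N p) :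
    h.act b (mem_sup_right hb) (cl N p d) = cl N p ⁅d, b⁆ + cl N p d := by
  have hc := h.D'_R0 (h.comm_D' hd.2 hb)
  rw [h.act_cl (mem_sup_right hb) (h.D_R0 hd),
    show b * d * b⁻¹ = ⁅d, b⁆⁻¹ * d by simp only [commutatorElement_def]; group,
    cl_mul (inv_mem hc) (h.D_R0 hd), cl_inv hc, h.neg_eq]

theorem act_N'_D' {b : G} (hb : b ∈ cg N p) {w : GW N p} (hw : w ∈ gQW N p) :
    h.act b (mem_sup_right hb) w = w := by
  obtain ⟨f, hf, rfl⟩ := h.exists_QW hw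
  rw [h.act_cl (mem_sup_right hb) (h.D'_R0 hf)]
  obtain ⟨n, hn, rfl⟩ := hb
  obtain ⟨e, he, rfl⟩ := hf
  congr 1
  show (MulAut.conj p) n * (MulAut.conj p) e * ((MulAut.conj p) n)⁻¹ = (MulAut.conj p) e
  rw [← map_inv, ← map_mul, ← map_mul, h.comm hn he.1, mul_inv_cancel_right]

/-- The shears of `N` on the module. -/
def shearA : AddSubgroup (gQW N p →+ gPW N p) where
  carrier := {A | ∃ (v : G) (hv : v ∈ N), ∀ w : gQW N p, (A w : GW N p) + w = h.act v (mem_sup_left hv) w}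
  zero_mem' := ⟨1, one_mem _, fun w => by rw [h.act_one_apply]; exact zero_add _⟩
  neg_mem' := fun {A} hA => by
    have e : -A = A := AddMonoidHom.ext fun w => Subtype.ext (h.neg_eq (A w : GW N p))
    rwa [e]
  add_mem' := fun {A B} hA hB => by
    obtain ⟨v, hv, hA⟩ := hA
    obtain ⟨v', hv', hB⟩ := hB
    refine ⟨v * v', mul_mem hv hv', fun w => ?_⟩
    rw [← h.act_act (mem_sup_left hv) (mem_sup_left hv'), ← hB w, map_add, ← hA w, h.act_N_D hv (B w).2]
    show (A w : GW N p) + (B w : GW N p) + w = _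
    abel

/-- The shears of `N^p` on the module. -/
def shearB : AddSubgroup (gPW N p →+ gQW N p) where
  carrier := {B | ∃ (b : G) (hb : b ∈ cg N p), ∀ w : gPW N p, (B w : GW N p) + w = h.act b (mem_sup_right hb) w}
  zero_mem' := ⟨1, one_mem _, fun w => by rw [h.act_one_apply]; exact zero_add _⟩
  neg_mem' := fun {A} hA => by
    have e : -A = A := AddMonoidHom.ext fun w => Subtype.ext (h.neg_eq (A w : GW N p))
    rwa [e]
  add_mem' := fun {A B} hA hB => by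
    obtain ⟨v, hv, hA⟩ := hA
    obtain ⟨v', hv', hB⟩ := hB
    refine ⟨v * v', mul_mem hv hv', fun w => ?_⟩
    rw [← h.act_act (mem_sup_right hv) (mem_sup_right hv'), ← hB w, map_add, ← hA w, h.act_N'_D' hv (B w).2]
    show (A w : GW N p) + (B w : GW N p) + w = _
    abel

theorem exists_shearA {v : G} (hv : v ∈ N) :
    ∃ A ∈ h.shearA, ∀ w : gQW N p, (A w : GW N p) + w = h.act v (mem_sup_left hv) w := by
  have hmem : ∀ w : gQW N p, h.act v (mem_sup_left hv) w + w ∈ gPW N p := fun w => by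
    obtain ⟨f, hf, e⟩ := h.exists_QW w.2
    rw [← e, h.act_N hv hf, add_assoc, h.two, add_zero]
    exact h.cl_mem_PW (h.comm_D (h.D'_le_R hf) hv)
  let A : gQW N p →+ gPW N p := AddMonoidHom.mk' (fun w => ⟨_, hmem w⟩) fun w w' => Subtype.ext (by
    show h.act v (mem_sup_left hv) ((w : GW N p) + w') + ((w : GW N p) + w') = _ + _
    rw [map_add]; exact add_add_add_comm _ _ _ _)
  have hA : ∀ w : gQW N p, (A w : GW N p) + w = h.act v (mem_sup_left hv) w := fun w => by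
    show h.act v (mem_sup_left hv) (w : GW N p) + w + w = _
    rw [add_assoc, h.two, add_zero]
  exact ⟨A, ⟨v, hv, hA⟩, hA⟩

theorem exists_shearB {b : G} (hb : b ∈ cg N p) :
    ∃ B ∈ h.shearB, ∀ w : gPW N p, (B w : GW N p) + w = h.act b (mem_sup_right hb) w := by
  have hmem : ∀ w : gPW N p, h.act b (mem_sup_right hb) w + w ∈ gQW N p := fun w => by
    obtain ⟨d, hd, e⟩ := h.exists_PW w.2
    rw [← e, h.act_N' hb hd, add_assoc, h.two, add_zero]
    exact h.cl_mem_QW (h.comm_D' hd.2 hb)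
  let B : gPW N p →+ gQW N p := AddMonoidHom.mk' (fun w => ⟨_, hmem w⟩) fun w w' => Subtype.ext (by
    show h.act b (mem_sup_right hb) ((w : GW N p) + w') + ((w : GW N p) + w') = _ + _
    rw [map_add]; exact add_add_add_comm _ _ _ _)
  have hB : ∀ w : gPW N p, (B w : GW N p) + w = h.act b (mem_sup_right hb) w := fun w => by
    show h.act b (mem_sup_right hb) (w : GW N p) + w + w = _
    rw [add_assoc, h.two, add_zero]
  exact ⟨B, ⟨b, hb, hB⟩, hB⟩

theorem cl_comm_A {v : G} (hv : v ∈ N) {A : gQW N p →+ gPW N p}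
    (hA : ∀ w : gQW N p, (A w : GW N p) + w = h.act v (mem_sup_left hv) w) {f : G} (hf : f ∈ gD' N p) :
    (A ⟨_, h.cl_mem_QW hf⟩ : GW N p) = cl N p ⁅f, v⁆ := by
  have h1 := hA ⟨_, h.cl_mem_QW hf⟩
  rw [h.act_N hv hf] at h1
  exact add_right_cancel h1

theorem cl_comm_B {b : G} (hb : b ∈ cg N p) {B : gPW N p →+ gQW N p}
    (hB : ∀ w : gPW N p, (B w : GW N p) + w = h.act b (mem_sup_right hb) w) {d : G} (hd : d ∈ gD N p) :
    (B ⟨_, h.cl_mem_PW hd⟩ : GW N p) = cl N p ⁅d, b⁆ := by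
  have h1 := hB ⟨_, h.cl_mem_PW hd⟩
  rw [h.act_N' hb hd] at h1
  exact add_right_cancel h1

/-- The two halves have the same order. -/
theorem card_QW : Nat.card (gQW N p) = Nat.card (gPW N p) := by
  set s := p * a
  have hs := h.swap_mem
  have h1 : ∀ w : gPW N p, h.act s hs w ∈ gQW N p := fun w => by
    obtain ⟨d, hd, e⟩ := h.exists_PW w.2
    rw [← e, h.act_cl hs (h.D_R0 hd)]
    exact h.cl_mem_QW (h.swap_D hd)
  have h2 : ∀ w : gQW N p, h.act s hs w ∈ gPW N p := fun w => by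
    obtain ⟨f, hf, e⟩ := h.exists_QW w.2
    rw [← e, h.act_cl hs (h.D'_R0 hf)]
    exact h.cl_mem_PW (h.swap_D' hf)
  have hinj : ∀ w w' : GW N p, h.act s hs w = h.act s hs w' → w = w' := fun w w' e => by
    have e' := congrArg (h.act s⁻¹ (inv_mem hs)) e
    rwa [h.act_act, h.act_act, h.act_congr _ (one_mem _) (inv_mul_cancel s), h.act_congr _ (one_mem _)
      (inv_mul_cancel s), h.act_one_apply, h.act_one_apply] at e'
  refine le_antisymm
    (Nat.card_le_card_of_injective (fun w => (⟨_, h2 w⟩ : gPW N p)) fun w w' e =>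
      Subtype.ext (hinj _ _ (congrArg Subtype.val e)))
    (Nat.card_le_card_of_injective (fun w => (⟨_, h1 w⟩ : gQW N p)) fun w w' e =>
      Subtype.ext (hinj _ _ (congrArg Subtype.val e)))

theorem bijective_A {v : G} (hv : v ∈ N) (hvD : v ∉ gD N p) {A : gQW N p →+ gPW N p}
    (hA : ∀ w : gQW N p, (A w : GW N p) + w = h.act v (mem_sup_left hv) w) : Function.Bijective A := by
  refine (Nat.bijective_iff_injective_and_card A).2 ⟨(injective_iff_map_eq_zero A).2 fun w hw => ?_, h.card_QW⟩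
  obtain ⟨f, hf, e⟩ := h.exists_QW w.2
  obtain rfl : w = ⟨_, h.cl_mem_QW hf⟩ := Subtype.ext e.symm
  have h1 := h.cl_comm_A hv hA hf
  rw [hw] at h1
  refine Subtype.ext (h.cl_Y (h.faith hv hvD hf ?_))
  exact (h.cl_eq_zero_iff (h.D_R0 (h.comm_D (h.D'_le_R hf) hv))).1 h1.symm

theorem bijective_B {b : G} (hb : b ∈ cg N p) (hbD : b ∉ gD' N p) {B : gPW N p →+ gQW N p}
    (hB : ∀ w : gPW N p, (B w : GW N p) + w = h.act b (mem_sup_right hb) w) : Function.Bijective B := by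
  refine (Nat.bijective_iff_injective_and_card B).2 ⟨(injective_iff_map_eq_zero B).2 fun w hw => ?_, h.card_QW.symm⟩
  obtain ⟨d, hd, e⟩ := h.exists_PW w.2
  obtain rfl : w = ⟨_, h.cl_mem_PW hd⟩ := Subtype.ext e.symm
  have h1 := h.cl_comm_B hb hB hd
  rw [hw] at h1
  refine Subtype.ext (h.cl_Y (h.faith' hb hbD hd ?_))
  exact (h.cl_eq_zero_iff (h.D'_R0 (h.comm_D' hd.2 hb))).1 h1.symm

/-- Surjectivity of `f ↦ [f, v]`. -/
theorem surj {v : G} (hv : v ∈ N) (hvD : v ∉ gD N p) {u : G} (hu : u ∈ gD N p) :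
    ∃ f ∈ gD' N p, ⁅f, v⁆ * u⁻¹ ∈ gY N p := by
  obtain ⟨A, -, hA⟩ := h.exists_shearA hv
  obtain ⟨w, hw⟩ := (h.bijective_A hv hvD hA).2 ⟨_, h.cl_mem_PW hu⟩
  obtain ⟨f, hf, e⟩ := h.exists_QW w.2
  obtain rfl : w = ⟨_, h.cl_mem_QW hf⟩ := Subtype.ext e.symm
  refine ⟨f, hf, ?_⟩
  have hc := h.D_R0 (h.comm_D (h.D'_le_R hf) hv)
  have h1 : cl N p ⁅f, v⁆ = cl N p u := (h.cl_comm_A hv hA hf).symm.trans (congrArg Subtype.val hw)
  rw [← h.cl_eq_zero_iff (mul_mem hc (inv_mem (h.D_R0 hu))), cl_mul hc (inv_mem (h.D_R0 hu)),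
    cl_inv (h.D_R0 hu), h1, add_neg_cancel]

/-- The symmetry of the commutator form. -/
theorem form_symm {v : G} (hv : v ∈ N) {f g : G} (hf : f ∈ gD' N p) (hg : g ∈ gD' N p) :
    ⁅⁅f, v⁆, g⁆ = ⁅⁅g, v⁆, f⁆ := by
  set u := ⁅f, v⁆
  set w := ⁅g, v⁆
  have hu : u ∈ gD N p := h.comm_D (h.D'_le_R hf) hv
  have hw : w ∈ gD N p := h.comm_D (h.D'_le_R hg) hv
  have hY1 : ⁅u, g⁆ ∈ gY N p := h.comm_R0 (h.D_R0 hu) (h.D'_R0 hg)
  have hY2 : ⁅w, f⁆ ∈ gY N p := h.comm_R0 (h.D_R0 hw) (h.D'_R0 hf)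
  have ef : v * f * v⁻¹ = u * f := by
    have : v * f * v⁻¹ = u⁻¹ * f := by simp only [u, commutatorElement_def]; group
    rwa [h.inv_eq hu.1] at this
  have eg : v * g * v⁻¹ = w * g := by
    have : v * g * v⁻¹ = w⁻¹ * g := by simp only [w, commutatorElement_def]; group
    rwa [h.inv_eq hw.1] at this
  have h1 : u * f * (w * g) = w * g * (u * f) := by
    rw [← ef, ← eg]
    calc v * f * v⁻¹ * (v * g * v⁻¹) = v * (f * g) * v⁻¹ := by group
      _ = v * (g * f) * v⁻¹ := by rw [h.D'_comm hf hg]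
      _ = _ := by group
  have e1 : f * w = ⁅w, f⁆ * (w * f) := by
    have hfw : ⁅f, w⁆ = ⁅w, f⁆ := by
      rw [← commutatorElement_inv]; exact (h.inv_eq hY2.1)
    rw [← hfw, commutatorElement_def]; group
  have e2 : g * u = ⁅u, g⁆ * (u * g) := by
    have hgu : ⁅g, u⁆ = ⁅u, g⁆ := by
      rw [← commutatorElement_inv]; exact (h.inv_eq hY1.1)
    rw [← hgu, commutatorElement_def]; group
  have hyu : u * ⁅w, f⁆ = ⁅w, f⁆ * u := h.comm hu.1 hY2.1
  have hyw : w * ⁅u, g⁆ = ⁅u, g⁆ * w := h.comm hw.1 hY1.1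
  have h2 : ⁅w, f⁆ * (u * w * (f * g)) = ⁅u, g⁆ * (u * w * (f * g)) := by
    calc ⁅w, f⁆ * (u * w * (f * g)) = u * (⁅w, f⁆ * (w * f)) * g := by
          rw [← mul_assoc u ⁅w, f⁆, hyu]; group
      _ = u * f * (w * g) := by rw [← e1]; group
      _ = w * g * (u * f) := h1
      _ = w * (⁅u, g⁆ * (u * g)) * f := by rw [← e2]; group
      _ = ⁅u, g⁆ * (w * u * (g * f)) := by rw [← mul_assoc w ⁅u, g⁆, hyw]; group
      _ = _ := by rw [h.comm hw.1 hu.1, h.D'_comm hg hf]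
  exact (mul_right_cancel h2).symm

/-- `C_D(D') = Y`. -/
theorem mem_Y_of_comm {z : G} (hz : z ∈ gD N p) (hzc : ∀ f ∈ gD' N p, f * z = z * f) : z ∈ gY N p := by
  haveI : Fact (Nat.Prime 2) := ⟨Nat.prime_two⟩
  by_contra hzY
  have haD : a ∉ gD N p := fun hd => h.a_notR hd.2
  set T := gD' N p ⊓ centralizer (gD N p : Set G)
  -- lifting `C_D(D')` to `T`
  have hlift : ∀ u ∈ gD N p, (∀ f ∈ gD' N p, f * u = u * f) → ∃ f ∈ T, ⁅f, a⁆ * u⁻¹ ∈ gY N p := by
    intro u hu huc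
    obtain ⟨f, hf, hfu⟩ := h.surj h.a_mem haD hu
    refine ⟨f, ⟨hf, mem_centralizer_iff.2 fun d hd => ?_⟩, hfu⟩
    obtain ⟨g, hg, hgd⟩ := h.surj h.a_mem haD hd
    have hcomm : ∀ y ∈ gY N p, ∀ g ∈ gD' N p, y * g = g * y := fun y hy g hg =>
      h.Y_central hy (h.R0_le_L (h.D'_R0 hg))
    have h1 : ⁅⁅f, a⁆, g⁆ = 1 := by
      rw [commutatorElement_eq_one_iff_mul_comm, show ⁅f, a⁆ = ⁅f, a⁆ * u⁻¹ * u by group,
        mul_assoc _ u g, ← huc g hg, ← mul_assoc, hcomm _ hfu g hg, mul_assoc]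
    rw [h.form_symm h.a_mem hf hg, commutatorElement_eq_one_iff_mul_comm] at h1
    have hd' : d = (⁅g, a⁆ * d⁻¹)⁻¹ * ⁅g, a⁆ := by group
    rw [hd', mul_assoc, h1, ← mul_assoc, hcomm _ (inv_mem hgd) f hf, mul_assoc]
  obtain ⟨t, ht, htz⟩ := hlift z hz hzc
  have htY : t ∉ gY N p := fun hY => hzY (by
    have h1 : ⁅t, a⁆ = 1 := commutatorElement_eq_one_iff_mul_comm.2 (h.Y_central hY h.a_L)
    rw [h1, one_mul] at htz
    exact inv_mem_iff.1 htz)
  -- the offender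
  have hTS : T ≤ (P : Subgroup G) := inf_le_left.trans h.D'_le
  have hCN : centralizer (N : Set G) ⊓ T = gY N p := by
    refine le_antisymm ?_ fun y hy => ⟨mem_centralizer_iff.2 fun n hn => h.comm hn hy.1, h.Y_le_D' hy,
      mem_centralizer_iff.2 fun d hd => h.comm hd.1 hy.1⟩
    rintro s ⟨hs, hsT⟩
    refine h.faith h.a_mem haD hsT.1 ?_
    rw [commutatorElement_eq_one_iff_mul_comm.2 (mem_centralizer_iff.1 hs a h.a_mem).symm]
    exact one_mem _
  have hCT : centralizer (T : Set G) ⊓ N = gD N p := by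
    refine le_antisymm ?_ fun d hd => ⟨mem_centralizer_iff.2 fun s hs =>
      (mem_centralizer_iff.1 hs.2 d hd).symm, hd.1⟩
    rintro v ⟨hv, hvN⟩
    by_contra hvD
    refine htY (h.faith hvN hvD ht.1 ?_)
    rw [commutatorElement_eq_one_iff_mul_comm.2 (mem_centralizer_iff.1 hv t ht)]
    exact one_mem _
  have hlt := h.good.good T hTS (fun s hs t' ht' v hv =>
    ((mem_centralizer_iff.1 hs.2) _ (h.comm_D (h.D'_le_R ht'.1) hv)).symm) (fun hle => htY (by
      rw [← hCN]; exact ⟨hle ht, ht⟩))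
  rw [← inf_relIndex_right, hCN, ← inf_relIndex_right (centralizer (T : Set G)), hCT] at hlt
  refine hlt.not_ge ?_
  -- the map `v ↦ [t, v]`
  have hex : ∀ v : N, ∃ f ∈ T, ⁅f, a⁆ * ⁅t, (v : G)⁆⁻¹ ∈ gY N p := fun v => by
    refine hlift _ (h.comm_D (h.D'_le_R ht.1) v.2) fun f hf => ?_
    have h1 : ⁅⁅t, (v : G)⁆, f⁆ = 1 := by
      rw [h.form_symm v.2 ht.1 hf, commutatorElement_eq_one_iff_mul_comm]
      exact mem_centralizer_iff.1 ht.2 _ (h.comm_D (h.D'_le_R hf) v.2)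
    exact (commutatorElement_eq_one_iff_mul_comm.1 h1).symm
  choose F hF hFv using hex
  refine Nat.card_le_card_of_injective (fun q : N ⧸ (gD N p).subgroupOf N =>
    (QuotientGroup.mk (⟨F q.out, hF q.out⟩ : T) : T ⧸ (gY N p).subgroupOf T)) fun q q' e => ?_
  rw [← q.out_eq', ← q'.out_eq']
  refine QuotientGroup.eq.2 (mem_subgroupOf.2 ?_)
  set v : G := (q.out : G)
  set v' : G := (q'.out : G)
  show v⁻¹ * v' ∈ gD N p
  by_contra hne
  refine htY (h.faith (mul_mem (inv_mem q.out.2) q'.out.2) hne ht.1 ?_)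
  have hFF : (F q.out)⁻¹ * F q'.out ∈ gY N p := mem_subgroupOf.1 (QuotientGroup.eq.1 e)
  -- everything in the module
  have hcD : ∀ {f : G}, f ∈ T → ∀ {n : G}, n ∈ N → ⁅f, n⁆ ∈ gR0 N p := fun hf _ hn =>
    h.D_R0 (h.comm_D (h.D'_le_R hf.1) hn)
  have e1 : cl N p ⁅F q.out, a⁆ = cl N p ⁅t, v⁆ := by
    have h3 := (h.cl_eq_zero_iff (mul_mem (hcD (hF _) h.a_mem) (inv_mem (hcD ht q.out.2)))).2 (hFv q.out)
    rwa [cl_mul (hcD (hF _) h.a_mem) (inv_mem (hcD ht q.out.2)), cl_inv (hcD ht q.out.2), ← sub_eq_add_neg,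
      sub_eq_zero] at h3
  have e1' : cl N p ⁅F q'.out, a⁆ = cl N p ⁅t, v'⁆ := by
    have h3 := (h.cl_eq_zero_iff (mul_mem (hcD (hF _) h.a_mem) (inv_mem (hcD ht q'.out.2)))).2 (hFv q'.out)
    rwa [cl_mul (hcD (hF _) h.a_mem) (inv_mem (hcD ht q'.out.2)), cl_inv (hcD ht q'.out.2), ← sub_eq_add_neg,
      sub_eq_zero] at h3
  have e2 : cl N p ⁅F q.out, a⁆ = cl N p ⁅F q'.out, a⁆ := by
    obtain ⟨A, -, hA⟩ := h.exists_shearA h.a_mem
    rw [← h.cl_comm_A h.a_mem hA (hF _).1, ← h.cl_comm_A h.a_mem hA (hF _).1]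
    exact congrArg (fun w => ((A w : gPW N p) : GW N p))
      (Subtype.ext ((h.cl_eq_iff (h.D'_R0 (hF _).1) (h.D'_R0 (hF _).1)).2 hFF))
  rw [e1, e1'] at e2
  have hvv : ⁅t, v⁻¹ * v'⁆ = ⁅t, v⁆⁻¹ * ⁅t, v'⁆ := by
    have hd1 : ⁅t, v⁆ ∈ gD N p := h.comm_D (h.D'_le_R ht.1) q.out.2
    have e3 : ⁅t, v⁻¹ * v'⁆ = v⁻¹ * (⁅t, v⁆⁻¹ * ⁅t, v'⁆) * v := by simp only [commutatorElement_def]; group
    rw [e3]
    exact (congrArg (· * v) (h.comm (inv_mem q.out.2) (mul_mem (inv_mem hd1.1)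
      (h.comm_D (h.D'_le_R ht.1) q'.out.2).1))).trans (inv_mul_cancel_right _ _)
  rw [hvv]
  exact (h.cl_eq_iff (hcD ht q.out.2) (hcD ht q'.out.2)).1 e2

/-- `C_N(D') = Y`. -/
theorem fixed {v : G} (hv : v ∈ N) : (∀ f ∈ gD' N p, f * v = v * f) ↔ v ∈ gY N p := by
  refine ⟨fun hc => ?_, fun hy f hf => (h.Y_central hy (h.R0_le_L (h.D'_R0 hf))).symm⟩
  by_cases hvD : v ∈ gD N p
  · exact h.mem_Y_of_comm hvD hc
  exfalso
  obtain ⟨d, hd, hdY⟩ := h.exists_D_not_Y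
  obtain ⟨f, hf, hfd⟩ := h.surj hv hvD hd
  rw [commutatorElement_eq_one_iff_mul_comm.2 (hc f hf), one_mul] at hfd
  exact hdY (inv_mem_iff.1 hfd)

/-- The image of `L` on the module has no section `S₃`. -/
theorem free_image : S3Free ((pairGroup N p : Subgroup G) ⧸ (h.gRep).ker) := by
  intro hI
  set L := pairGroup N p
  set R' := (gR0 N p).subgroupOf L
  set Y' := (gY N p).subgroupOf L
  haveI : R'.Normal := ⟨fun r hr l => h.conj_R0 l.2 (mem_subgroupOf.1 hr)⟩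
  haveI : Y'.Normal := ⟨fun y hy l => by
    show (l : G) * y * (l : G)⁻¹ ∈ gY N p
    rw [h.conj_Y (mem_subgroupOf.1 hy) l.2]; exact mem_subgroupOf.1 hy⟩
  set T := R'.map (QuotientGroup.mk' Y')
  haveI : T.Normal := Subgroup.Normal.map inferInstance _ (QuotientGroup.mk'_surjective Y')
  have hTp : IsPGroup 2 T := ((P.2.to_le (h.R0_le.trans h.R_le)).of_equiv
    (subgroupOfEquivOfLe h.R0_le_L).symm).map _
  set Nn := normalizer (T : Set (L ⧸ Y'))
  have hmemN : ∀ z, z ∈ Nn := fun z => by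
    show z ∈ normalizer (T : Set (L ⧸ Y'))
    rw [normalizer_eq_top T]; exact mem_top z
  set C := (centralizer (T : Set (L ⧸ Y'))).subgroupOf Nn
  haveI : C.Normal := Subgroup.normal_subgroupOf_iff_le_normalizer (centralizer_le_normalizer _) |>.2
    (CfsgLib.Techniques.normalizer_le_normalizer_centralizer T)
  obtain ⟨K, φ, hφ⟩ := CfsgLib.LocalEven.Involved.exists_hom_of_involves hI
  set q := QuotientGroup.mk' (h.gRep).ker
  let f : ↥(K.comap q) →* Equiv.Perm (Fin 3) := φ.comp (q.subgroupComap K)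
  have hf : Function.Surjective f :=
    hφ.comp (q.subgroupComap_surjective_of_surjective K (QuotientGroup.mk'_surjective _))
  let g₁ : L →* Nn := (QuotientGroup.mk' Y').codRestrict Nn fun l => hmemN _
  let g : ↥(K.comap q) →* Nn ⧸ C := ((QuotientGroup.mk' C).comp g₁).comp (K.comap q).subtype
  refine h.free (CfsgLib.LocalEven.Involved.involves_of_subgroup (H := L)
    (CfsgLib.LocalEven.Involved.involves_of_surjective (QuotientGroup.mk' Y') (QuotientGroup.mk'_surjective Y')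
      (Cfsg.Agent.S2759.backward T hTp (CfsgLib.LocalEven.Involved.involves_of_factor g f hf fun x hx => ?_))))
  have hc : g₁ x ∈ C := (QuotientGroup.eq_one_iff (g₁ x)).1 (MonoidHom.mem_ker.1 hx)
  have hk : (x : L) ∈ (h.gRep).ker := by
    refine MonoidHom.mem_ker.2 (AddMonoidHom.ext fun w => ?_)
    obtain ⟨r, hr, rfl⟩ := cl_surj w
    show h.act ((x : L) : G) (x : L).2 (cl N p r) = cl N p r
    rw [h.act_cl _ hr, h.cl_eq_iff (h.conj_R0 (x : L).2 hr) hr]
    have h1 := mem_centralizer_iff.1 (mem_subgroupOf.1 hc) _ ⟨⟨r, h.R0_le_L hr⟩, hr, rfl⟩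
    have h1' : ((⟨r, h.R0_le_L hr⟩ * (x : L) : L) : L ⧸ Y') = (((x : L) * ⟨r, h.R0_le_L hr⟩ : L) : L ⧸ Y') := h1
    have h3 : (r * ((x : L) : G))⁻¹ * (((x : L) : G) * r) ∈ gY N p :=
      mem_subgroupOf.1 (QuotientGroup.eq.1 h1')
    have h4 : (((x : L) : G) * r * ((x : L) : G)⁻¹)⁻¹ * r =
        ((x : L) : G) * ((r * ((x : L) : G))⁻¹ * (((x : L) : G) * r))⁻¹ * ((x : L) : G)⁻¹ := by group
    rw [h4, h.conj_Y (inv_mem h3) (x : L).2]
    exact inv_mem h3
  refine MonoidHom.mem_ker.2 ?_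
  show φ (q.subgroupComap K x) = 1
  rw [show q.subgroupComap K x = 1 from Subtype.ext ((QuotientGroup.eq_one_iff _).2 hk), map_one]

end GSetting

end CfsgLib.SFour
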