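import Cfsg.Agent.Lib.SFour.GapSetup

set_option autoImplicit false
set_option linter.unusedSectionVars false
set_option linter.style.haveILetI false
set_option maxHeartbeats 400000

/-! The key identity of the gap lemma. -/

namespace CfsgLib.SFour

open Subgroup IsMulCommutative CfsgLib.Techniques CfsgLib.Techniques.SThree
open scoped commutatorElement

universe u

variable {S : Type u} [Group S]

variable [Finite S] {N : Subgroup S} [IsMulCommutative N]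

/-- The two maps given by `s` and `tau s` differ by the twist `tau`. -/
theorem SData.key (d : SData N) {Ni : Subgroup S} (hNi : d.Com₀ Ni) {r' : S} (hr' : r' ∈ Ni)
    {s x x' : S} (hs : s ∈ d.T) (hx : x * ⁅s, d.a⁆⁻¹ ∈ d.Y) (hx' : x' * ⁅d.tau s, d.a⁆⁻¹ ∈ d.Y) :
    ⁅d.tau s, ⁅r', x⁆⁆ = ⁅s, ⁅r', x'⁆⁆ := by
  obtain ⟨e, he, f, hf, z, hz, hzF, rfl⟩ := d.decomp Ni hNi r' hr'
  have hcz := d.z_norm Ni hNi z hz hzF
  have heU : e ∈ d.U := (sup_le inf_le_left fun y hy => (d.Y_le hy).1 : d.U ⊓ Ni ⊔ d.Y ≤ d.U) he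
  have hfT : f ∈ d.T := (sup_le inf_le_left fun y hy => (d.Y_le hy).2 : d.T ⊓ Ni ⊔ d.Y ≤ d.T) hf
  have hYN : ∀ {y}, y ∈ d.Y → y ∈ N := fun hy => d.U_le (d.Y_le hy).1
  -- the commutator with a representative
  have hcomp : ∀ t ∈ d.T, ∀ x : S, x * ⁅t, d.a⁆⁻¹ ∈ d.Y →
      ⁅e * f * z, x⁆ * (⁅z * t * z⁻¹, d.a⁆ * ⁅t, d.a⁆⁻¹)⁻¹ ∈ d.Y := by
    intro t ht x hyY
    set y := x * ⁅t, d.a⁆⁻¹ with hy
    have hxe : x = y * ⁅t, d.a⁆ := (inv_mul_cancel_right _ _).symm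
    set t' := z * t * z⁻¹
    have ht' : t' ∈ d.T := hcz t ht
    have hzY := d.z_norm_Y Ni hNi z hz hzF y hyY
    have hyaY := d.a_fixed Ni hNi z hz hzF
    have hza : z * ⁅t, d.a⁆ * z⁻¹ = ⁅t', d.a⁆ := by
      have h1 : ⁅t', z * d.a * z⁻¹⁆ = z * ⁅t, d.a⁆ * z⁻¹ := by
        show ⁅z * t * z⁻¹, z * d.a * z⁻¹⁆ = z * ⁅t, d.a⁆ * z⁻¹
        rw [commutatorElement_def, commutatorElement_def]; group
      rw [← h1]
      refine d.br_congr ht' d.a_mem ?_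
      rwa [commutatorElement_def] at hyaY
    set w := z * x * z⁻¹ with hw
    have hwe : w = z * y * z⁻¹ * ⁅t', d.a⁆ := by
      rw [← hza, hw, hxe]; group
    have hwU : w ∈ d.U := hwe ▸ mul_mem (d.Y_le hzY).1 (d.inv t' ht' d.a d.a_mem)
    have hfw : f * w * f⁻¹ * w⁻¹ ∈ d.Y := by
      have := d.inv' f hfT w hwU
      rwa [commutatorElement_def] at this
    have hfwU : f * w * f⁻¹ ∈ N := by
      have := mul_mem (hYN hfw) (d.U_le hwU)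
      rwa [inv_mul_cancel_right] at this
    have h1 : ⁅e * f * z, x⁆ = f * w * f⁻¹ * x⁻¹ := by
      rw [commutatorElement_def, show e * f * z * x * (e * f * z)⁻¹ = e * (f * w * f⁻¹) * e⁻¹ by
        rw [hw]; group, d.comm_N (d.U_le heU) hfwU, mul_inv_cancel_right]
    have h2 : ⁅e * f * z, x⁆ * (⁅t', d.a⁆ * ⁅t, d.a⁆⁻¹)⁻¹ =
        f * w * f⁻¹ * w⁻¹ * (z * y * z⁻¹) * y⁻¹ := by
      have hA := d.mem_N_of_T ht' d.a_mem
      have hB := d.mem_N_of_T ht d.a_mem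
      have hy' := hYN hyY
      rw [h1, hxe]
      calc f * w * f⁻¹ * (y * ⁅t, d.a⁆)⁻¹ * (⁅t', d.a⁆ * ⁅t, d.a⁆⁻¹)⁻¹
          = f * w * f⁻¹ * (⁅t, d.a⁆⁻¹ * y⁻¹ * (⁅t, d.a⁆ * ⁅t', d.a⁆⁻¹)) := by group
        _ = f * w * f⁻¹ * (y⁻¹ * ⁅t', d.a⁆⁻¹) := by
          rw [d.comm_N (inv_mem hB) (inv_mem hy'), mul_assoc y⁻¹, inv_mul_cancel_left]
        _ = f * w * f⁻¹ * (⁅t', d.a⁆⁻¹ * y⁻¹) := by rw [d.comm_N (inv_mem hy') (inv_mem hA)]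
        _ = f * w * f⁻¹ * w⁻¹ * (z * y * z⁻¹) * y⁻¹ := by rw [hwe]; group
    rw [h2]
    exact mul_mem (mul_mem hfw hzY) (inv_mem hyY)
  have hts := d.tau_mem s hs
  have hN1 : ∀ t ∈ d.T, ⁅z * t * z⁻¹, d.a⁆ * ⁅t, d.a⁆⁻¹ ∈ N := fun t ht =>
    mul_mem (d.mem_N_of_T (hcz t ht) d.a_mem) (inv_mem (d.mem_N_of_T ht d.a_mem))
  rw [d.br_congr hts (hN1 s hs) (hcomp s hs x hx), d.br_congr hs (hN1 _ hts) (hcomp _ hts x' hx'),
    d.br_mul hts (d.mem_N_of_T (hcz s hs) d.a_mem) (inv_mem (d.mem_N_of_T hs d.a_mem)),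
    d.br_mul hs (d.mem_N_of_T (hcz _ hts) d.a_mem) (inv_mem (d.mem_N_of_T hts d.a_mem)),
    d.br_inv hts (d.mem_N_of_T hs d.a_mem), d.br_inv hs (d.mem_N_of_T hts d.a_mem),
    d.tau_adj s hs _ (hcz s hs), d.tau_adj s hs s hs]
  congr 1
  have hfix := d.tau_fixed Ni hNi z hz hzF s hs
  have hts' : z * d.tau s * z⁻¹ ∈ d.T := hcz _ hts
  have hT1 : d.tau (z * s * z⁻¹) ∈ d.T := d.tau_mem _ (hcz s hs)
  have e1 : ⁅d.tau (z * s * z⁻¹), d.a⁆ = ⁅z * d.tau s * z⁻¹, d.a⁆ := by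
    set q := (d.tau (z * s * z⁻¹))⁻¹ * (z * d.tau s * z⁻¹) with hq
    have hqa : q * d.a = d.a * q := d.comm_N (hYN hfix) d.a_mem
    have : z * d.tau s * z⁻¹ = d.tau (z * s * z⁻¹) * q := (mul_inv_cancel_left _ _).symm
    rw [this, commutatorElement_def, commutatorElement_def,
      show d.tau (z * s * z⁻¹) * q * d.a * (d.tau (z * s * z⁻¹) * q)⁻¹ =
        d.tau (z * s * z⁻¹) * (q * d.a * q⁻¹) * (d.tau (z * s * z⁻¹))⁻¹ by group, hqa, mul_inv_cancel_right]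
  rw [e1]

end CfsgLib.SFour
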