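import Cfsg.Agent.Lib.SFour.GapIrr
import Cfsg.Agent.Lib.SFour.GapKey
import Cfsg.Agent.Lib.Stellmacher.Plane

set_option autoImplicit false
set_option linter.unusedSectionVars false
set_option linter.style.haveILetI false
set_option maxHeartbeats 800000

/-! The gap lemma: the commutators with `T` lie in the core. -/

namespace CfsgLib.SFour

open Subgroup IsMulCommutative CfsgLib.Techniques CfsgLib.Techniques.SThree
open scoped commutatorElement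

universe u

variable {S : Type u} [Group S]

variable [Finite S] {N : Subgroup S}

/-- Two such maps differing by the twist give a scalar configuration. -/
theorem GapPieces.false_of_twist [IsMulCommutative N] {d : SData N} {M : Subgroup S} [M.Normal] [IsMulCommutative M]
    {Com : Subgroup S → Prop} {Ns : Subgroup S} {C : Subgroup (MulAut M)} {σs : GapSetup d M Com Ns C}
    (P : GapPieces σs) (hV2 : ∀ x : Additive M, x + x = 0) (hS3 : S3Free ↥(C ⊔ d.T.map (bar M)))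
    {W R₀ : Subgroup (MulAut M)} (hWRR : W ≤ P.RR)
    (hWn : C ⊔ d.T.map (bar M) ≤ normalizer (W : Set (MulAut M)))
    {s : S} (hs : s ∈ d.T) (hts : d.tau s ∈ d.T)
    (hA1 : ∀ r ∈ W, repM M r (P.uu s) - P.uu s ∈ σs.WB)
    (hA2 : ∀ v ∈ σs.WB, ∃ r ∈ W, repM M r (P.uu s) - P.uu s - v ∈ σs.J₀)
    (hA3 : ∀ r ∈ W, (repM M r (P.uu s) - P.uu s ∈ σs.J₀ ↔ r ∈ R₀))
    (hB1 : ∀ r ∈ W, repM M r (P.uu (d.tau s)) - P.uu (d.tau s) ∈ σs.WB)
    (hB3 : ∀ r ∈ W, (repM M r (P.uu (d.tau s)) - P.uu (d.tau s) ∈ σs.J₀ ↔ r ∈ R₀))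
    (hkey : ∀ r ∈ P.RR, repM M (bar M (d.tau s)) (repM M r (P.uu s) - P.uu s) - (repM M r (P.uu s) - P.uu s) =
      repM M (bar M s) (repM M r (P.uu (d.tau s)) - P.uu (d.tau s)) - (repM M r (P.uu (d.tau s)) - P.uu (d.tau s)))
    (hN1 : ¬ ∀ v ∈ σs.WB, repM M (bar M s) v - v ∈ σs.J₀)
    (hN2 : ¬ ∀ v ∈ σs.WB, repM M (bar M (d.tau s)) v - v ∈ σs.J₀)
    (hN3 : ¬ ∀ v ∈ σs.WB, repM M (bar M (d.tau s * s)) v - v ∈ σs.J₀) : False := by
  set ρ := repM M with hρ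
  set b := bar M with hb
  set CT := C ⊔ d.T.map b with hCT
  set J₀ := σs.J₀ with hJ₀def
  set WB := σs.WB with hWBdef
  set uu := P.uu with huudef
  have hTCT : ∀ {f : S}, f ∈ d.T → b f ∈ CT := fun hf => GapSetup.bar_mem hf
  set σ := subRep (ρ.comp CT.subtype) WB (fun x v hv => σs.stWB x.2 v hv) with hσ
  set Q := J₀.addSubgroupOf WB with hQ
  have hQi : ∀ x : CT, ∀ v ∈ Q, σ x v ∈ Q := fun x v hv => σs.stJ₀ x.2 (v : Additive M) hv
  set ρB := quotRep σ Q hQi with hρB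
  have hf : ∀ t, t ∈ d.T → (∀ r ∈ W, ρ r (uu t) - uu t ∈ WB) → ∃ φ : W →* Multiplicative (WB ⧸ Q),
      ∀ (r : W) (h : ρ (r : MulAut M) (uu t) - uu t ∈ WB),
        (φ r).toAdd = QuotientAddGroup.mk (⟨_, h⟩ : WB) := by
    intro t _ h1
    refine ⟨MonoidHom.mk' (fun r => Multiplicative.ofAdd (QuotientAddGroup.mk
      (⟨ρ (r : MulAut M) (uu t) - uu t, h1 r r.2⟩ : WB))) fun r r' => Multiplicative.toAdd.injective ?_,
      fun r h => rfl⟩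
    show (QuotientAddGroup.mk _ : WB ⧸ Q) = QuotientAddGroup.mk _ + QuotientAddGroup.mk _
    rw [← QuotientAddGroup.mk_add, QuotientAddGroup.eq_iff_sub_mem]
    exact P.add r (hWRR r.2) r' (hWRR r'.2) (uu t)
  obtain ⟨φA, hφA⟩ := hf s hs hA1
  obtain ⟨φB, hφB⟩ := hf _ hts hB1
  have hφAsur : Function.Surjective φA := fun q => by
    obtain ⟨v, hv⟩ := QuotientAddGroup.mk_surjective q.toAdd
    obtain ⟨r, hr, h1⟩ := hA2 v v.2
    refine ⟨⟨r, hr⟩, Multiplicative.toAdd.injective ?_⟩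
    refine (hφA ⟨r, hr⟩ (hA1 r hr)).trans (Eq.trans ?_ hv)
    refine (QuotientAddGroup.eq_iff_sub_mem (N := Q)).2 (AddSubgroup.mem_addSubgroupOf.2 ?_)
    rw [AddSubgroup.coe_sub]
    exact h1
  have hkerφ : φA.ker ≤ φB.ker := fun r hr => by
    rw [MonoidHom.mem_ker] at hr ⊢
    refine Multiplicative.toAdd.injective ?_
    have h1 : (QuotientAddGroup.mk (⟨_, hA1 r r.2⟩ : WB) : WB ⧸ Q) = 0 :=
      (hφA r (hA1 r r.2)).symm.trans (congrArg Multiplicative.toAdd hr)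
    rw [QuotientAddGroup.eq_zero_iff] at h1
    rw [hφB r (hB1 r r.2)]
    exact (QuotientAddGroup.eq_zero_iff (N := Q) _).2 ((hB3 r r.2).2 ((hA3 r r.2).1 h1))
  let ψm : Multiplicative (WB ⧸ Q) →* Multiplicative (WB ⧸ Q) := φA.liftOfSurjective hφAsur ⟨φB, hkerφ⟩
  let ψ : AddMonoid.End (WB ⧸ Q) := (AddMonoidHom.toMultiplicative (α := WB ⧸ Q) (β := WB ⧸ Q)).symm ψm
  have hψ : ∀ r : W, ψ (φA r).toAdd = (φB r).toAdd := fun r =>
    congrArg Multiplicative.toAdd (MonoidHom.liftOfRightInverse_comp_apply φA _ _ ⟨φB, hkerφ⟩ r)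
  have hpt : ∀ q : WB ⧸ Q, ∃ (r : W), (φA r).toAdd = q := fun q =>
    let ⟨r, hr⟩ := hφAsur (Multiplicative.ofAdd q); ⟨r, congrArg Multiplicative.toAdd hr⟩
  -- equivariance
  have hψc : ∀ x : CT, Commute ψ (ρB x) := by
    intro x
    refine AddMonoidHom.ext fun q => ?_
    obtain ⟨r, rfl⟩ := hpt q
    have hr' := (mem_normalizer_iff.1 (hWn x.2) (r : MulAut M)).1 r.2
    have eA : ρB x (φA r).toAdd = (φA ⟨_, hr'⟩).toAdd := by
      rw [hφA _ (hA1 r r.2), hφA _ (hA1 _ hr')]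
      refine ((QuotientAddGroup.eq_iff_sub_mem (N := Q)).2 ?_).symm
      exact P.equiv x x.2 r (hWRR r.2) s hs
    have eB : ρB x (φB r).toAdd = (φB ⟨_, hr'⟩).toAdd := by
      rw [hφB _ (hB1 r r.2), hφB _ (hB1 _ hr')]
      refine ((QuotientAddGroup.eq_iff_sub_mem (N := Q)).2 ?_).symm
      exact P.equiv x x.2 r (hWRR r.2) _ hts
    show ψ (ρB x (φA r).toAdd) = ρB x (ψ (φA r).toAdd)
    rw [eA, hψ, hψ, eB]
  set sc : CT := ⟨b s, hTCT hs⟩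
  set tc : CT := ⟨b (d.tau s), hTCT hts⟩
  have hV2B : ∀ q : WB ⧸ Q, q + q = 0 := fun q =>
    QuotientAddGroup.induction_on q fun v => congrArg QuotientAddGroup.mk (Subtype.ext (hV2 v))
  set Nn : AddMonoid.End (WB ⧸ Q) := ρB sc - 1 with hNn
  have hs1 : ρB sc = 1 + Nn := by rw [hNn]; abel
  have hNsq : Nn * Nn = 0 := CfsgLib.Stellmacher.Plane.sq_zero_of_invol hV2B (by
    rw [← hs1, ← map_mul]
    refine (congrArg ρB (Subtype.ext ?_)).trans (map_one ρB)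
    show b s * b s = 1
    rw [← map_mul, d.T_sq s hs, map_one])
  have htwist : ρB tc = 1 + ψ * Nn := by
    refine AddMonoidHom.ext fun q => ?_
    obtain ⟨r, rfl⟩ := hpt q
    have h1 : ρB tc (φA r).toAdd - (φA r).toAdd = ρB sc (φB r).toAdd - (φB r).toAdd := by
      rw [hφA _ (hA1 r r.2), hφB _ (hB1 r r.2)]
      exact congrArg (fun v : WB => (QuotientAddGroup.mk v : WB ⧸ Q)) (Subtype.ext (hkey r (hWRR r.2)) :
        (σ tc ⟨_, hA1 r r.2⟩ - ⟨_, hA1 r r.2⟩ : WB) = σ sc ⟨_, hB1 r r.2⟩ - ⟨_, hB1 r r.2⟩)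
    have h2' : ψ (ρB sc (φA r).toAdd) = ρB sc (φB r).toAdd :=
      (DFunLike.congr_fun (hψc sc).eq _).trans (congrArg (ρB sc) (hψ r))
    show ρB tc (φA r).toAdd = (φA r).toAdd + ψ (ρB sc (φA r).toAdd - (φA r).toAdd)
    rw [map_sub, h2', hψ, ← h1, add_sub_cancel]
  have hNn0 : Nn ≠ 0 := fun e => hN1 fun v hv => by
    have h1 := DFunLike.congr_fun e (QuotientAddGroup.mk (⟨v, hv⟩ : WB))
    exact (QuotientAddGroup.eq_iff_sub_mem (N := Q)).1 (sub_eq_zero.1 h1)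
  have hψ0 : ψ ≠ 0 := fun e => hN2 fun v hv => by
    have h0 : ρB tc = 1 := htwist.trans (by rw [e]; refine AddMonoidHom.ext fun q => ?_; exact add_zero q)
    exact (QuotientAddGroup.eq_iff_sub_mem (N := Q)).1
      (DFunLike.congr_fun h0 (QuotientAddGroup.mk (⟨v, hv⟩ : WB)))
  have hψ1 : ψ ≠ 1 := fun e => by
    rw [e, one_mul, ← hs1] at htwist
    refine hN3 fun v hv => ?_
    have hprod : ρB (tc * sc) = 1 := by
      rw [map_mul, htwist, ← map_mul]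
      refine (congrArg ρB (Subtype.ext ?_)).trans (map_one ρB)
      show b s * b s = 1
      rw [← map_mul, d.T_sq s hs, map_one]
    have h1 := (QuotientAddGroup.eq_iff_sub_mem (N := Q)).1
      (DFunLike.congr_fun hprod (QuotientAddGroup.mk (⟨v, hv⟩ : WB)))
    rw [map_mul b]
    exact h1
  -- irreducibility
  refine CfsgLib.Stellmacher.Plane.false_of_scalar (ρ := ρB) hS3 hV2B ?_ hs1 hNsq hNn0 htwist hψc hψ0 hψ1
  intro A hA
  set A' : AddSubgroup (Additive M) := (A.comap (QuotientAddGroup.mk' Q)).map WB.subtype with hA'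
  have h1 : J₀ ≤ A' := fun v hv => ⟨⟨v, σs.J₀_le hv⟩, by
    show QuotientAddGroup.mk _ ∈ A
    rw [(QuotientAddGroup.eq_zero_iff (N := Q) _).2 hv]; exact zero_mem _, rfl⟩
  rcases σs.min A' h1 (by rintro _ ⟨v, -, rfl⟩; exact σs.WB_le v.2) (by
    rintro x hx _ ⟨v, hv, rfl⟩
    exact ⟨σ ⟨x, hx⟩ v, hA ⟨x, hx⟩ _ hv, rfl⟩) with h | h
  · refine Or.inl (eq_bot_iff.2 fun q hq => ?_)
    induction q using QuotientAddGroup.induction_on with
    | H v => exact AddSubgroup.mem_bot.2 ((QuotientAddGroup.eq_zero_iff (N := Q) v).2 (h.le ⟨v, hq, rfl⟩))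
  · refine Or.inr (eq_top_iff.2 fun q _ => ?_)
    induction q using QuotientAddGroup.induction_on with
    | H v =>
      obtain ⟨w, hw, e⟩ := h v.2
      exact (Subtype.ext e : w = v) ▸ hw

/-- The gap lemma. -/
theorem gap (d : SData N) [IsMulCommutative N] {M : Subgroup S} [M.Normal] [IsMulCommutative M]
    (h2 : ∀ x ∈ M, x ^ 2 = 1) (hMN : M ≤ N) {v₀ : S} (hv₀ : v₀ ∈ M) (hv₀U : v₀ ∉ d.U)
    (Com : Subgroup S → Prop) (hCom₀ : ∀ K, Com K → d.Com₀ K) (hComN : ∀ K, Com K → K.Normal)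
    (hbot : Com ⊥) {Ns : Subgroup S} (hNs : Com Ns)
    (hnext : ∀ I, Com I → I < Ns → ∃ Ni, Com Ni ∧ I < Ni ∧ Ni ≤ Ns ∧ ⁅Ni, Ns⁆ ≤ I)
    (C : Subgroup (MulAut M)) (hS3 : S3Free ↥(C ⊔ d.T.map (bar M)))
    (hTC : d.T.map (bar M) ≤ normalizer (C : Set (MulAut M)))
    (hJ1 : C ≤ movIn (repM M) ⊤ (subM M Ns))
    (hO : ∀ c ∈ C, ∀ o ∈ Cfsg.pCoreOf 2 C, ⁅c, o⁆ ∈ Ns.map (bar M))
    (hpres : ∀ K, Com K → C ≤ setStab (repM M) (subM M K))
    (hnorm : ∀ K, Com K → C ≤ normalizer ((K.map (bar M) : Subgroup (MulAut M)) : Set (MulAut M))) :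
    ∀ c ∈ C, ∀ f ∈ d.T, ⁅c, bar M f⁆ ∈ Cfsg.pCoreOf 2 C := by
  classical
  haveI : Fact (Nat.Prime 2) := ⟨Nat.prime_two⟩
  have hV2 : ∀ x : Additive M, x + x = 0 := two_eq_zero h2
  by_contra hbad
  push Not at hbad
  obtain ⟨c₀, hc₀, f₀, hf₀, hbad₀⟩ := hbad
  obtain ⟨σs⟩ := exists_gapSetup d h2 Com hComN hbot hNs hnext C hTC hJ1 hO hpres hc₀ hf₀ hbad₀
  obtain ⟨P⟩ := exists_gapPieces σs hMN hv₀ hv₀U hComN hNs hJ1 hnorm
  haveI := hComN _ σs.com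
  set ρ := repM M with hρ
  set b := bar M with hb
  set CT := C ⊔ d.T.map b with hCT
  set J₀ := σs.J₀ with hJ₀def
  set WB := σs.WB with hWBdef
  set RR := P.RR with hRR
  set uu := P.uu with huudef
  set R₀ := P.Ker Set.univ with hR₀
  have hTCT : ∀ {f : S}, f ∈ d.T → b f ∈ CT := fun hf => GapSetup.bar_mem hf
  have hphi : ∀ g ∈ d.T ⊓ σs.Ni, ∀ s ∈ d.T,
      ((ρ (b g) (uu s) - uu s).toMul : S) = ⁅s, ⁅g, d.a⁆⁆ := fun g hg s hs => by
    rw [val_bar_sub, d.br_congr hg.1 (d.mem_N_of_T hs d.a_mem) (P.uY s hs), d.br_symm hg.1 hs d.a_mem]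
  obtain ⟨t₂, ht₂, ht₂'⟩ := σs.exists_not_mem_T₁
  have hR₀RR : R₀ ≤ RR := fun r hr => hr.1
  have hR₀ne : R₀ ≠ RR := by
    intro e
    refine ht₂' ((σs.mem_T₁_iff hCom₀ hComN hMN hv₀ hv₀U ht₂).2 fun g hg => ?_)
    have := (σs.mem_J₀S _).1 ((e.ge (P.gen g hg)).2 t₂ trivial ht₂)
    rwa [hphi g hg t₂ ht₂] at this
  obtain ⟨W, hW⟩ := Set.Finite.exists_minimal
    (s := {W : Subgroup (MulAut M) | R₀ < W ∧ W ≤ RR ∧ CT ≤ normalizer (W : Set (MulAut M))})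
    (Set.toFinite _) ⟨RR, lt_of_le_of_ne hR₀RR hR₀ne, le_rfl, P.RRn⟩
  obtain ⟨hR₀W, hWRR, hWn⟩ := hW.prop
  have hWmin : ∀ K : Subgroup (MulAut M), R₀ ≤ K → K ≤ W → CT ≤ normalizer (K : Set (MulAut M)) →
      K = R₀ ∨ K = W := fun K h1 h3 h4 => by
    rcases h1.lt_or_eq with h | h
    · exact Or.inr (le_antisymm h3 (hW.le_of_le ⟨h, h3.trans hWRR, h4⟩ h3))
    · exact Or.inl h.symm
  obtain ⟨s, hs, hsW⟩ : ∃ s ∈ d.T, ¬ W ≤ P.Ker {s} := by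
    by_contra! hall
    exact hR₀W.not_ge fun r hr => ⟨hWRR hr, fun s _ hs => (hall s hs hr).2 s rfl hs⟩
  have hsT₁ : s ∉ σs.T₁ := fun hs₁ => hsW (hWRR.trans (P.le_of _ (P.Ker_normalizer _) fun g hg =>
    ⟨P.gen g hg, fun s' h1 h3 => by
      obtain rfl : s' = s := h1
      rw [σs.mem_J₀S, hphi g hg s' h3]
      exact (σs.mem_T₁_iff hCom₀ hComN hMN hv₀ hv₀U h3).1 hs₁ g hg⟩))
  have hts := d.tau_mem s hs
  have hkey : ∀ r ∈ RR, ρ (b (d.tau s)) (ρ r (uu s) - uu s) - (ρ r (uu s) - uu s) =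
      ρ (b s) (ρ r (uu (d.tau s)) - uu (d.tau s)) - (ρ r (uu (d.tau s)) - uu (d.tau s)) := by
    intro r hr
    obtain ⟨r', hr', rfl⟩ := P.le_map hr
    refine Additive.toMul.injective (Subtype.ext ?_)
    rw [val_bar_sub, val_bar_sub, val_bar_sub, val_bar_sub]
    exact d.key (hCom₀ _ σs.com) hr' hs (P.uY s hs) (P.uY _ hts)
  have himg := fun t => P.image hV2 hR₀W hWRR hWn hWmin (t := t)
  obtain ⟨hA1, hA2, hA3⟩ := himg s hs hsW
  -- the nilpotent parts act nontrivially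
  have hNne : ∀ t ∈ d.T, t ∉ σs.T₁ → ¬ ∀ v ∈ WB, ρ (b t) v - v ∈ J₀ := fun t ht h1 hall =>
    h1 (σs.T₁_of_whole ht hall)
  have htsT₁ : d.tau s ∉ σs.T₁ := fun h => hsT₁ (σs.mem_T₁_of_tau hCom₀ hComN hMN hv₀ hv₀U hbot hs h)
  have htsW : ¬ W ≤ P.Ker {d.tau s} := fun hle => hNne _ hts htsT₁ fun v hv => by
    obtain ⟨r, hr, h1⟩ := hA2 v hv
    have h3 : ρ r (uu (d.tau s)) - uu (d.tau s) ∈ J₀ := (hle hr).2 _ rfl hts
    have h4 := J₀.sub_mem (σs.stJ₀ (hTCT hs) _ h3) h3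
    rw [← hkey r (hWRR hr)] at h4
    have h1' : ρ r (uu s) - uu s - v ∈ J₀ := h1
    have h5 := J₀.sub_mem (σs.stJ₀ (hTCT hts) _ h1') h1'
    have h6 := J₀.sub_mem h4 h5
    rw [show ρ (b (d.tau s)) v - v = (ρ (b (d.tau s)) (ρ r (uu s) - uu s) - (ρ r (uu s) - uu s)) -
      (ρ (b (d.tau s)) (ρ r (uu s) - uu s - v) - (ρ r (uu s) - uu s - v)) by
        rw [map_sub (ρ (b (d.tau s))) (ρ r (uu s) - uu s) v]; abel]
    exact h6
  obtain ⟨hB1, hB2, hB3⟩ := himg _ hts htsW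
  exact P.false_of_twist hV2 hS3 hWRR hWn hs hts hA1 hA2 hA3 hB1 hB3 hkey (hNne s hs hsT₁) (hNne _ hts htsT₁)
    fun h => hsT₁ (σs.mem_T₁_of_tau_mul hCom₀ hComN hMN hv₀ hv₀U hbot hs (σs.T₁_of_whole (mul_mem hts hs) h))

end CfsgLib.SFour
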