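import Cfsg.Agent.Lib.SFour.GapRR

set_option autoImplicit false
set_option linter.unusedSectionVars false
set_option linter.style.haveILetI false
set_option maxHeartbeats 400000

/-! An irreducible section mapped onto the minimal factor. -/

namespace CfsgLib.SFour

open Subgroup IsMulCommutative CfsgLib.Techniques CfsgLib.Techniques.SThree
open scoped commutatorElement

universe u

variable {S : Type u} [Group S]

variable [Finite S] {N : Subgroup S} {d : SData N} [IsMulCommutative N] {M : Subgroup S} [M.Normal]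
  [IsMulCommutative M] {Com : Subgroup S → Prop} {Ns : Subgroup S} {C : Subgroup (MulAut M)}
  {σs : GapSetup d M Com Ns C}

namespace GapPieces

variable (P : GapPieces σs)

/-- The elements of `RR` killed by the maps of the members of `Sg`. -/
def Ker (Sg : Set S) : Subgroup (MulAut M) where
  carrier := {r | r ∈ P.RR ∧ ∀ s ∈ Sg, s ∈ d.T → repM M r (P.uu s) - P.uu s ∈ σs.J₀}
  one_mem' := ⟨one_mem _, fun s _ _ => by rw [act_one, sub_self]; exact zero_mem _⟩
  mul_mem' := fun {r r'} hr hr' => ⟨mul_mem hr.1 hr'.1, fun s h1 h3 => by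
    have := add_mem (P.add r hr.1 r' hr'.1 (P.uu s)) (add_mem (hr.2 s h1 h3) (hr'.2 s h1 h3))
    rwa [sub_add_cancel] at this⟩
  inv_mem' := fun {r} hr => ⟨inv_mem hr.1, fun s h1 h3 => by
    rw [show repM M r⁻¹ (P.uu s) - P.uu s = -(repM M r⁻¹ (repM M r (P.uu s) - P.uu s)) by
      rw [map_sub, act_inv_cancel]; abel]
    exact neg_mem ((inv_mem (P.stab hr.1) : r⁻¹ ∈ setStab (repM M) σs.J₀) _ (hr.2 s h1 h3))⟩

theorem Ker_normalizer (Sg : Set S) :
    C ⊔ d.T.map (bar M) ≤ normalizer (P.Ker Sg : Set (MulAut M)) := fun c hc =>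
  Subgroup.mem_normalizer_fintype fun r hr => ⟨(mem_normalizer_iff.1 (P.RRn hc) r).1 hr.1, fun s h1 h3 => by
    have := add_mem (P.equiv c hc r hr.1 s h3) (σs.stJ₀ hc _ (hr.2 s h1 h3))
    rwa [sub_add_cancel] at this⟩

/-- A map not killing an irreducible section maps it isomorphically onto the minimal factor. -/
theorem image (hV2 : ∀ x : Additive M, x + x = 0) {W : Subgroup (MulAut M)}
    (hR₀W : P.Ker Set.univ < W) (hWRR : W ≤ P.RR) (hWn : C ⊔ d.T.map (bar M) ≤ normalizer (W : Set (MulAut M)))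
    (hWmin : ∀ K : Subgroup (MulAut M), P.Ker Set.univ ≤ K → K ≤ W →
      C ⊔ d.T.map (bar M) ≤ normalizer (K : Set (MulAut M)) → K = P.Ker Set.univ ∨ K = W)
    {t : S} (ht : t ∈ d.T) (htW : ¬ W ≤ P.Ker {t}) :
    (∀ r ∈ W, repM M r (P.uu t) - P.uu t ∈ σs.WB) ∧
      (∀ v ∈ σs.WB, ∃ r ∈ W, repM M r (P.uu t) - P.uu t - v ∈ σs.J₀) ∧
        ∀ r ∈ W, (repM M r (P.uu t) - P.uu t ∈ σs.J₀ ↔ r ∈ P.Ker Set.univ) := by
  set ρ := repM M with hρ
  set J := subM M σs.Ni with hJ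
  set CT := C ⊔ d.T.map (bar M) with hCT
  set J₀ := σs.J₀ with hJ₀def
  set WB := σs.WB with hWBdef
  let img : AddSubgroup (Additive M) :=
    { carrier := {v | ∃ r ∈ W, ρ r (P.uu t) - P.uu t - v ∈ J₀}
      zero_mem' := ⟨1, one_mem W, by rw [act_one, sub_self, sub_zero]; exact zero_mem _⟩
      add_mem' := by
        rintro v w ⟨r, hr, h1⟩ ⟨r', hr', h3⟩
        refine ⟨r * r', mul_mem hr hr', ?_⟩
        rw [show ρ (r * r') (P.uu t) - P.uu t - (v + w) = ((ρ (r * r') (P.uu t) - P.uu t) -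
          ((ρ r (P.uu t) - P.uu t) + (ρ r' (P.uu t) - P.uu t))) + ((ρ r (P.uu t) - P.uu t - v) + (ρ r' (P.uu t) - P.uu t - w)) by
          abel]
        exact add_mem (P.add r (hWRR hr) r' (hWRR hr') _) (add_mem h1 h3)
      neg_mem' := by
        rintro v ⟨r, hr, h1⟩
        refine ⟨r, hr, ?_⟩
        rwa [neg_eq_of_add_eq_zero_left (hV2 v)] }
  have himgst : CT ≤ setStab ρ img := by
    rintro c hc v ⟨r, hr, h1⟩
    refine ⟨c * r * c⁻¹, (mem_normalizer_iff.1 (hWn hc) r).1 hr, ?_⟩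
    have h3 := add_mem (P.equiv c hc r (hWRR hr) t ht) (σs.stJ₀ hc _ h1)
    rw [show ρ c (ρ r (P.uu t) - P.uu t - v) = ρ c (ρ r (P.uu t) - P.uu t) - ρ c v from map_sub (ρ c) _ _,
      sub_add_sub_cancel] at h3
    exact h3
  have hJ₀img : J₀ ≤ img := fun v hv => ⟨1, one_mem W, by
    rw [act_one, sub_self, zero_sub]; exact neg_mem hv⟩
  have himgJ : img ≤ J := by
    rintro v ⟨r, hr, h1⟩
    have h3 := J.sub_mem (P.movJ r (hWRR hr) (P.uu t)) ((σs.J₀_le.trans σs.WB_le) h1)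
    rwa [sub_sub_cancel] at h3
  have hWBimg : WB ≤ img := by
    refine (σs.min img hJ₀img himgJ himgst).resolve_left fun e => htW fun r hr => ⟨hWRR hr, ?_⟩
    intro t' h1 _
    obtain rfl : t' = t := h1
    exact e.le ⟨r, hr, by rw [sub_self]; exact zero_mem _⟩
  have hR₀t : ∀ r ∈ (P.Ker Set.univ), ρ r (P.uu t) - P.uu t ∈ J₀ := fun r hr => hr.2 t trivial ht
  let W' : Subgroup (MulAut M) :=
    { carrier := {r | r ∈ W ∧ ρ r (P.uu t) - P.uu t ∈ WB}
      one_mem' := ⟨one_mem W, by rw [act_one, sub_self]; exact zero_mem _⟩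
      mul_mem' := fun {r r'} hr hr' => ⟨mul_mem hr.1 hr'.1, by
        have := add_mem (σs.J₀_le (P.add r (hWRR hr.1) r' (hWRR hr'.1) (P.uu t)) : _ ∈ WB)
          (add_mem hr.2 hr'.2)
        rwa [sub_add_cancel] at this⟩
      inv_mem' := fun {r} hr => ⟨inv_mem hr.1, by
        have h1 := P.add r⁻¹ (inv_mem (hWRR hr.1)) r (hWRR hr.1) (P.uu t)
        rw [inv_mul_cancel, act_one, sub_self, zero_sub] at h1
        have h3 := WB.sub_mem (neg_mem (σs.J₀_le h1 : _ ∈ WB)) hr.2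
        rwa [neg_neg, add_sub_cancel_right] at h3⟩ }
  have hW'n : CT ≤ normalizer (W' : Set (MulAut M)) := fun c hc =>
    Subgroup.mem_normalizer_fintype fun r hr => ⟨(mem_normalizer_iff.1 (hWn hc) r).1 hr.1, by
      have := add_mem (σs.J₀_le (P.equiv c hc r (hWRR hr.1) t ht) : _ ∈ WB) (σs.stWB hc _ hr.2)
      rwa [sub_add_cancel] at this⟩
  have hW'W : W' = W := by
    refine (hWmin W' (fun r hr => ⟨hR₀W.le hr, σs.J₀_le (hR₀t r hr)⟩) (fun r hr => hr.1)
      hW'n).resolve_left fun e => ?_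
    obtain ⟨v, hv, hv'⟩ := SetLike.not_le_iff_exists.1 σs.WB_ne
    obtain ⟨r, hr, h1⟩ := hWBimg hv
    have hrW : r ∈ W' := ⟨hr, by
      have := add_mem (σs.J₀_le h1 : _ ∈ WB) hv
      rwa [sub_add_cancel] at this⟩
    have := J₀.sub_mem (hR₀t r (e.le hrW)) h1
    rw [sub_sub_cancel] at this
    exact hv' this
  have hker : P.Ker {t} ⊓ W = (P.Ker Set.univ) := by
    refine (hWmin _ (le_inf (show P.Ker Set.univ ≤ P.Ker {t} from fun r hr => ⟨hr.1, fun s' _ hs' => hr.2 s' trivial hs'⟩) hR₀W.le) inf_le_right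
      fun c hc => mem_normalizer_inf (P.Ker_normalizer _ hc) (hWn hc)).resolve_right fun e => htW (e.ge.trans inf_le_left)
  refine ⟨fun r hr => (hW'W.ge hr).2, fun v hv => hWBimg hv, fun r hr => ⟨fun h => ?_, hR₀t r⟩⟩
  refine hker.le ⟨⟨hWRR hr, fun s' h1 _ => ?_⟩, hr⟩
  obtain rfl : s' = t := h1
  exact h

end GapPieces

end CfsgLib.SFour
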