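import Cfsg.Agent.Lib.SFour.GapTau

set_option autoImplicit false
set_option linter.unusedSectionVars false
set_option linter.style.haveILetI false
set_option maxHeartbeats 400000

/-! The normal closure of the image of `T ⊓ Ni` and its maps to the minimal factor. -/

namespace CfsgLib.SFour

open Subgroup IsMulCommutative CfsgLib.Techniques CfsgLib.Techniques.SThree
open scoped commutatorElement

universe u

variable {S : Type u} [Group S]

variable [Finite S] {N : Subgroup S} {d : SData N} [IsMulCommutative N] {M : Subgroup S} [M.Normal]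
  [IsMulCommutative M] {Com : Subgroup S → Prop} {Ns : Subgroup S} {C : Subgroup (MulAut M)}

/-- The normal closure `RR` of the image of `T ⊓ Ni`, with representatives `uu t` of `⁅t, a⁆`. -/
structure GapPieces (σs : GapSetup d M Com Ns C) where
  RR : Subgroup (MulAut M)
  uu : S → Additive M
  uY : ∀ t ∈ d.T, ((uu t).toMul : S) * ⁅t, d.a⁆⁻¹ ∈ d.Y
  gen : ∀ g ∈ d.T ⊓ σs.Ni, bar M g ∈ RR
  RRn : C ⊔ d.T.map (bar M) ≤ normalizer (RR : Set (MulAut M))
  le_map : RR ≤ σs.Ni.map (bar M)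
  le_of : ∀ K : Subgroup (MulAut M), C ⊔ d.T.map (bar M) ≤ normalizer (K : Set (MulAut M)) →
    (∀ g ∈ d.T ⊓ σs.Ni, bar M g ∈ K) → RR ≤ K
  movJ : ∀ r ∈ RR, ∀ v, repM M r v - v ∈ subM M σs.Ni
  stab : RR ≤ setStab (repM M) σs.J₀
  equiv : ∀ c ∈ C ⊔ d.T.map (bar M), ∀ r ∈ RR, ∀ s ∈ d.T,
    (repM M (c * r * c⁻¹) (uu s) - uu s) - repM M c (repM M r (uu s) - uu s) ∈ σs.J₀
  add : ∀ r ∈ RR, ∀ r' : MulAut M, r' ∈ RR → ∀ w : Additive M,
    (repM M (r * r') w - w) - ((repM M r w - w) + (repM M r' w - w)) ∈ σs.J₀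

/-- The pieces exist. -/
theorem exists_gapPieces (σs : GapSetup d M Com Ns C)
    (hMN : M ≤ N) {v₀ : S} (hv₀ : v₀ ∈ M) (hv₀U : v₀ ∉ d.U) (hComN : ∀ K, Com K → K.Normal)
    (hNs : Com Ns) (hJ1 : C ≤ movIn (repM M) ⊤ (subM M Ns))
    (hnorm : ∀ K, Com K → C ≤ normalizer ((K.map (bar M) : Subgroup (MulAut M)) : Set (MulAut M))) :
    Nonempty (GapPieces σs) := by
  haveI := hComN _ σs.com
  haveI := hComN _ hNs
  set b := bar M with hb
  set ρ := repM M with hρ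
  set CT := C ⊔ d.T.map b with hCT
  set J := subM M σs.Ni with hJ
  set J₀ := σs.J₀ with hJ₀def
  have hJ₀st : CT ≤ setStab ρ J₀ := σs.stJ₀
  have hTCT : ∀ {f : S}, f ∈ d.T → b f ∈ CT := fun hf => GapSetup.bar_mem hf
  -- representatives of `⁅s, a⁆` in `M ⊓ U`
  have hrep : ∀ s ∈ d.T, ∃ u : Additive M, (u.toMul : S) ∈ d.U ∧ (u.toMul : S) * ⁅s, d.a⁆⁻¹ ∈ d.Y := by
    intro s hs
    obtain ⟨f, hf, hfy⟩ := d.surj v₀ (hMN hv₀) hv₀U _ (d.inv s hs d.a d.a_mem)
    exact ⟨Additive.ofMul ⟨⁅f, v₀⁆, by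
        rw [commutatorElement_def]
        exact mul_mem ((inferInstance : M.Normal).conj_mem v₀ hv₀ f) (inv_mem hv₀)⟩,
      d.inv f hf v₀ (hMN hv₀), hfy⟩
  choose! uu huU huY using hrep
  -- the subgroups `Au` and `Bv`
  set Bv := subM M Ns ⊔ subM M d.Y with hBv
  set Au := subM M d.U ⊔ subM M Ns with hAu
  have hCmov : ∀ x ∈ C, ∀ v, ρ x v - v ∈ subM M Ns := fun x hx v => (hJ1 hx).2.2 v (AddSubgroup.mem_top v)
  have hTfixY : ∀ f ∈ d.T, ∀ v ∈ subM M d.Y, ρ (b f) v = v := fun f hf v hv =>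
    Additive.toMul.injective (Subtype.ext (by
      rw [val_bar, (d.fixed _ (hMN v.toMul.2)).2 hv f hf, mul_inv_cancel_right]))
  have hmovAB : CT ≤ movIn ρ Au Bv := by
    refine sup_le (fun x hx => ⟨fun v hv => ?_, fun v hv => ?_, fun v _ =>
      AddSubgroup.mem_sup_left (hCmov x hx v)⟩) ?_
    · have := add_mem (AddSubgroup.mem_sup_right (hCmov x hx v) : ρ x v - v ∈ Au) hv
      rwa [sub_add_cancel] at this
    · have := add_mem (AddSubgroup.mem_sup_left (hCmov x hx v) : ρ x v - v ∈ Bv) hv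
      rwa [sub_add_cancel] at this
    rintro _ ⟨f, hf, rfl⟩
    have hNs' : ∀ v ∈ subM M Ns, ρ (b f) v - v ∈ subM M Ns := fun v hv =>
      (subM M Ns).sub_mem (bar_mem_setStab f v hv) hv
    have hmA : Au ≤ moveInto ρ (b f) Bv := by
      refine sup_le (fun v hv => ?_) fun v hv => AddSubgroup.mem_sup_left (hNs' v hv)
      refine AddSubgroup.mem_sup_right ?_
      rw [mem_subM, val_bar_sub]
      exact d.inv' f hf _ hv
    have hmB : Bv ≤ moveInto ρ (b f) Bv := by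
      refine sup_le (fun v hv => AddSubgroup.mem_sup_left (hNs' v hv)) fun v hv => ?_
      show ρ (b f) v - v ∈ Bv
      rw [hTfixY f hf v hv, sub_self]; exact zero_mem _
    have hBA : Bv ≤ Au := sup_le le_sup_right ((subM_mono fun y hy => (d.Y_le hy).1).trans le_sup_left)
    refine ⟨fun v hv => ?_, fun v hv => ?_, fun v hv => hmA hv⟩
    · have := add_mem (hBA (hmA hv)) hv
      rwa [sub_add_cancel] at this
    · have := add_mem (show ρ (b f) v - v ∈ Bv from hmB hv) hv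
      rwa [sub_add_cancel] at this
  -- the normal closure of the image of `(d.T ⊓ σs.Ni)`
  set RR := Subgroup.closure {x | ∃ c ∈ CT, ∃ f ∈ (d.T ⊓ σs.Ni), c * b f * c⁻¹ = x} with hRR
  have hRRn : CT ≤ normalizer (RR : Set (MulAut M)) := fun x hx =>
    CfsgLib.Involutions.mem_normalizer_closure (by
      rintro _ ⟨c, hc, f, hf, rfl⟩
      exact subset_closure ⟨x * c, mul_mem hx hc, f, hf, by group⟩)
  have hRRNi : RR ≤ σs.Ni.map b := by
    refine (closure_le _).2 ?_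
    rintro _ ⟨c, hc, f, hf, rfl⟩
    refine (mem_normalizer_iff.1 (?_ : c ∈ normalizer ((σs.Ni.map b : Subgroup (MulAut M)) : Set (MulAut M))) _).1
      ⟨f, hf.2, rfl⟩
    refine sup_le (hnorm _ σs.com) ?_ hc
    rintro _ ⟨g, -, rfl⟩
    exact le_normalizer_map b ⟨g, by rw [normalizer_eq_top]; exact mem_top g, rfl⟩
  have hRRJ : ∀ r ∈ RR, r ∈ movIn ρ J J₀ := fun r hr => σs.nsJ (map_mono σs.le_Ns (hRRNi hr))
  have hmovJ : ∀ r ∈ RR, ∀ v, ρ r v - v ∈ J := by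
    intro r hr v
    obtain ⟨n, hn, rfl⟩ := hRRNi hr
    rw [mem_subM, val_bar_sub, commutatorElement_def, show n * (v.toMul : S) * n⁻¹ * (v.toMul : S)⁻¹ =
      n * ((v.toMul : S) * n⁻¹ * (v.toMul : S)⁻¹) by group]
    exact mul_mem hn ((inferInstance : σs.Ni.Normal).conj_mem _ (inv_mem hn) _)
  have hVset : ∀ r ∈ RR, ∀ v ∈ Bv, ρ r v - v ∈ J₀ := by
    intro r hr
    induction hr using Subgroup.closure_induction with
    | mem x hx =>
      obtain ⟨c, hc, f, hf, rfl⟩ := hx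
      intro v hv
      have e : ρ (c * b f * c⁻¹) v - v = ρ c (ρ (b f) (ρ c⁻¹ v) - ρ c⁻¹ v) := by
        rw [map_sub, act_cancel_inv, act_mul, act_mul]
      rw [e]
      refine hJ₀st hc _ ?_
      show ρ c⁻¹ v ∈ moveInto ρ (b f) J₀
      refine (sup_le (fun w hw => ?_) fun w hw => ?_ : Bv ≤ moveInto ρ (b f) J₀)
        ((hmovAB (inv_mem hc)).2.1 v hv)
      · exact σs.ni_ns f hf.2 w hw
      · show ρ (b f) w - w ∈ J₀
        rw [hTfixY f hf.1 w hw, sub_self]; exact zero_mem _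
    | one => intro v _; rw [act_one, sub_self]; exact zero_mem _
    | mul x y hx _ h1 h2' =>
      intro v hv
      rw [show ρ (x * y) v - v = ρ x (ρ y v - v) + (ρ x v - v) by rw [map_sub, act_mul]; abel]
      exact add_mem ((hRRJ x hx).2.1 _ (h2' v hv)) (h1 v hv)
    | inv x hx h1 =>
      intro v hv
      rw [show ρ x⁻¹ v - v = -(ρ x⁻¹ (ρ x v - v)) by rw [map_sub, act_inv_cancel]; abel]
      exact neg_mem ((inv_mem (hRRJ x hx).2.1 : x⁻¹ ∈ setStab ρ J₀) _ (h1 v hv))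
  have huAu : ∀ s ∈ d.T, uu s ∈ Au := fun s hs => AddSubgroup.mem_sup_left (huU s hs)
  have hequiv : ∀ c ∈ CT, ∀ r ∈ RR, ∀ s ∈ d.T,
      (ρ (c * r * c⁻¹) (uu s) - uu s) - ρ c (ρ r (uu s) - uu s) ∈ J₀ := by
    intro c hc r hr s hs
    have hv := hVset r hr _ ((hmovAB (inv_mem hc)).2.2 _ (huAu s hs))
    have e : (ρ (c * r * c⁻¹) (uu s) - uu s) - ρ c (ρ r (uu s) - uu s) =
        ρ c (ρ r (ρ c⁻¹ (uu s) - uu s) - (ρ c⁻¹ (uu s) - uu s)) := by
      simp only [map_sub, act_mul, act_cancel_inv]; abel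
    rw [e]
    exact hJ₀st hc _ hv
  have hadd : ∀ r ∈ RR, ∀ r' : MulAut M, r' ∈ RR → ∀ w : Additive M,
      (ρ (r * r') w - w) - ((ρ r w - w) + (ρ r' w - w)) ∈ J₀ := by
    intro r hr r' hr' w
    rw [show (ρ (r * r') w - w) - ((ρ r w - w) + (ρ r' w - w)) = ρ r (ρ r' w - w) - (ρ r' w - w) by
      rw [map_sub, act_mul]; abel]
    exact (hRRJ r hr).2.2 _ (hmovJ r' hr' w)
  exact ⟨⟨RR, uu, huY, fun g hg => subset_closure ⟨1, one_mem _, g, hg, by rw [one_mul, inv_one, mul_one]⟩, hRRn, hRRNi,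
    fun K hK hg => (closure_le _).2 (by
      rintro _ ⟨c, hc, g, hg', rfl⟩
      exact (mem_normalizer_iff.1 (hK hc) _).1 (hg g hg')),
    hmovJ, fun r hr => (hRRJ r hr).2.1, hequiv, hadd⟩⟩

end CfsgLib.SFour
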