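import Cfsg.Agent.Lib.SFour.GapTools

set_option autoImplicit false
set_option linter.unusedSectionVars false
set_option linter.style.haveILetI false
set_option maxHeartbeats 1600000

/-! The minimal factor in the gap lemma. -/

namespace CfsgLib.SFour

open Subgroup IsMulCommutative CfsgLib.Techniques CfsgLib.Techniques.SThree
open scoped commutatorElement

universe u

variable {S : Type u} [Group S]

/-- `⁅g, ·⁆` as seen by conjugation. -/
theorem bracket_mul (g x y : S) : g * (x * y) * g⁻¹ * (x * y)⁻¹ = ⁅g, x⁆ * (x * ⁅g, y⁆ * x⁻¹) := by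
  rw [commutatorElement_def, commutatorElement_def]; group

namespace SData

variable {N : Subgroup S} (d : SData N)

theorem mem_N_of_T {f v : S} (hf : f ∈ d.T) (hv : v ∈ N) : ⁅f, v⁆ ∈ N := d.U_le (d.inv f hf v hv)

include d in
theorem comm_N [IsMulCommutative N] {v w : S} (hv : v ∈ N) (hw : w ∈ N) : v * w = w * v :=
  congrArg Subtype.val (mul_comm' (⟨v, hv⟩ : N) ⟨w, hw⟩)

/-- The commutator with an element of `T` is multiplicative on `N`. -/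
theorem br_mul [IsMulCommutative N] {f v w : S} (hf : f ∈ d.T) (hv : v ∈ N) (hw : w ∈ N) :
    ⁅f, v * w⁆ = ⁅f, v⁆ * ⁅f, w⁆ := by
  rw [show ⁅f, v * w⁆ = f * (v * w) * f⁻¹ * (v * w)⁻¹ from commutatorElement_def f _, bracket_mul,
    d.comm_N hv (d.mem_N_of_T hf hw), mul_inv_cancel_right]

theorem br_inv [IsMulCommutative N] {f v : S} (hf : f ∈ d.T) (hv : v ∈ N) : ⁅f, v⁻¹⁆ = ⁅f, v⁆⁻¹ :=
  eq_inv_of_mul_eq_one_right (by rw [← d.br_mul hf hv (inv_mem hv), mul_inv_cancel, commutatorElement_one_right])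

theorem br_fix {f y : S} (hf : f ∈ d.T) (hy : y ∈ d.Y) : ⁅f, y⁆ = 1 :=
  commutatorElement_eq_one_iff_mul_comm.2 ((d.fixed y (d.U_le (d.Y_le hy).1)).2 hy f hf)

/-- Commutators only depend on the coset of `Y`. -/
theorem br_congr [IsMulCommutative N] {f v w : S} (hf : f ∈ d.T) (hw : w ∈ N)
    (h : v * w⁻¹ ∈ d.Y) : ⁅f, v⁆ = ⁅f, w⁆ := by
  have := d.br_mul hf (d.U_le (d.Y_le h).1) hw
  rwa [inv_mul_cancel_right, d.br_fix hf h, one_mul] at this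

/-- The two commutators commute. -/
theorem br_symm [IsMulCommutative N] {f g v : S} (hf : f ∈ d.T) (hg : g ∈ d.T) (hv : v ∈ N) :
    ⁅f, ⁅g, v⁆⁆ = ⁅g, ⁅f, v⁆⁆ := by
  have hA : f * g * v * (f * g)⁻¹ = g * f * v * (g * f)⁻¹ := by rw [d.T_abelian f hf g hg]
  have e1 : ∀ x y : S, ⁅x, ⁅y, v⁆⁆ =
      (x * y * v * (x * y)⁻¹) * (⁅x, v⁆ * v)⁻¹ * (⁅y, v⁆)⁻¹ := fun x y => by
    simp only [commutatorElement_def]; group
  rw [e1 f g, e1 g f, hA]
  have hAN : g * f * v * (g * f)⁻¹ ∈ N := by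
    have h1 := d.mem_N_of_T (mul_mem hg hf) hv
    rw [commutatorElement_def] at h1
    have := mul_mem h1 hv
    rwa [inv_mul_cancel_right] at this
  have hcg := d.mem_N_of_T hg hv
  have hcf := d.mem_N_of_T hf hv
  simp only [mul_inv_rev, mul_assoc]
  rw [d.comm_N (inv_mem hcf) (inv_mem hcg)]

theorem tau_coset [IsMulCommutative N] {A : Subgroup S} (hA : A ≤ d.T) {f : S} (hf : f ∈ A ⊔ d.Y) :
    ∃ g ∈ A, ∀ x ∈ N, g * x * g⁻¹ = f * x * f⁻¹ ∧ ⁅f, x⁆ = ⁅g, x⁆ := by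
  have hn : A ≤ normalizer (d.Y : Set S) := fun a ha => mem_normalizer_iff.2 fun y => by
    constructor
    · intro hy
      rw [d.T_abelian a (hA ha) y (d.Y_le hy).2, mul_inv_cancel_right]
      exact hy
    · intro hy
      have h1 := d.T_abelian a (hA ha) _ (d.Y_le hy).2
      have : a * y * a⁻¹ = y := by
        calc a * y * a⁻¹ = a⁻¹ * (a * (a * y * a⁻¹)) := by group
          _ = a⁻¹ * (a * y * a⁻¹ * a) := by rw [h1]
          _ = y := by group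
      rwa [this] at hy
  obtain ⟨g, hg, y, hy, rfl⟩ := CfsgLib.Techniques.exists_mul_of_mem_sup hn hf
  refine ⟨g, hg, fun x hx => ?_⟩
  have h1 : y * x * y⁻¹ = x := by rw [d.comm_N (d.U_le (d.Y_le hy).1) hx, mul_inv_cancel_right]
  have h2 : g * x * g⁻¹ = g * y * x * (g * y)⁻¹ := by
    rw [mul_inv_rev, show g * y * x * (y⁻¹ * g⁻¹) = g * (y * x * y⁻¹) * g⁻¹ by group, h1]
  exact ⟨h2, by rw [commutatorElement_def, commutatorElement_def, h2]⟩

theorem tau_coset_br [IsMulCommutative N] {A : Subgroup S} (hA : A ≤ d.T) {f : S} (hf : f ∈ A ⊔ d.Y) :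
    ∃ g ∈ A, ∀ x ∈ N, ⁅f, x⁆ = ⁅g, x⁆ :=
  let ⟨g, hg, h⟩ := d.tau_coset hA hf
  ⟨g, hg, fun x hx => (h x hx).2⟩

variable [Finite S]

/-- A subgroup between `Y` and `T` mapped into itself by `tau` (or by `tau` plus the identity) is
closed under inverse images. -/
theorem mem_of_phi {φ : d.T → S} (hφ : ∀ f, φ f ∈ d.T)
    (hmul : ∀ f g : d.T, (φ (f * g))⁻¹ * (φ f * φ g) ∈ d.Y) (hinj : ∀ f : d.T, φ f ∈ d.Y → (f : S) ∈ d.Y)
    (hY : ∀ f : d.T, (f : S) ∈ d.Y → φ f ∈ d.Y)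
    {T₁ : Subgroup S} (hT₁ : T₁ ≤ d.T) (hYT₁ : d.Y ≤ T₁) (hmap : ∀ f : d.T, (f : S) ∈ T₁ → φ f ∈ T₁)
    {s : d.T} (hs : φ s ∈ T₁) : (s : S) ∈ T₁ := by
  letI : CommGroup d.T := { (inferInstance : Group d.T) with
    mul_comm := fun f g => Subtype.ext (d.T_abelian f f.2 g g.2) }
  set Y' := d.Y.subgroupOf d.T
  let q := QuotientGroup.mk' Y'
  let Φ : d.T →* d.T ⧸ Y' := MonoidHom.mk' (fun f => q ⟨φ f, hφ f⟩) fun f g => by
    rw [← map_mul]
    exact QuotientGroup.eq.2 (hmul f g)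
  set A := T₁.subgroupOf d.T
  have hker : Φ.ker = Y' := by
    ext f
    rw [MonoidHom.mem_ker]
    exact ⟨fun h => hinj f ((QuotientGroup.eq_one_iff (⟨φ f, hφ f⟩ : d.T)).1 h),
      fun h => (QuotientGroup.eq_one_iff (⟨φ f, hφ f⟩ : d.T)).2 (hY f h)⟩
  have hYA : Y' ≤ A := fun f hf => hYT₁ hf
  have hle : A.map Φ ≤ A.map q := by
    rintro _ ⟨f, hf, rfl⟩
    exact ⟨⟨φ f, hφ f⟩, hmap f hf, rfl⟩
  have hcard : Nat.card (A.map q) ≤ Nat.card (A.map Φ) := by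
    have h1 := card_inf_mul_range A Φ
    have h2 := card_inf_mul_range A q
    rw [hker] at h1
    rw [QuotientGroup.ker_mk', inf_eq_right.2 hYA] at h2
    rw [inf_eq_right.2 hYA] at h1
    exact (Nat.eq_of_mul_eq_mul_left Nat.card_pos (h2.symm.trans h1)).le
  have h3 : q ⟨φ s, hφ s⟩ ∈ A.map Φ := (eq_of_le_of_card_ge hle hcard).ge ⟨_, hs, rfl⟩
  obtain ⟨f, hf, e⟩ := h3
  have h4 : f⁻¹ * s ∈ Φ.ker := by
    rw [MonoidHom.mem_ker, map_mul, map_inv]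
    exact inv_mul_eq_one.2 e
  rw [hker] at h4
  have h5 := mul_mem hf (hYT₁ h4 : (f⁻¹ * s : d.T) ∈ A)
  rwa [mul_inv_cancel_left] at h5

end SData


variable [Finite S] {N : Subgroup S}

/-- The factor `WB / J₀` below `Ni` in the gap lemma. -/
structure GapSetup (d : SData N) (M : Subgroup S) [M.Normal] [IsMulCommutative M]
    (Com : Subgroup S → Prop) (Ns : Subgroup S) (C : Subgroup (MulAut M)) where
  Ni : Subgroup S
  J₀ : AddSubgroup (Additive M)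
  WB : AddSubgroup (Additive M)
  com : Com Ni
  le_Ns : Ni ≤ Ns
  J₀_le : J₀ ≤ WB
  WB_le : WB ≤ subM M Ni
  stJ₀ : C ⊔ d.T.map (bar M) ≤ setStab (repM M) J₀
  stWB : C ⊔ d.T.map (bar M) ≤ setStab (repM M) WB
  WB_ne : ¬ WB ≤ J₀
  min : ∀ A : AddSubgroup (Additive M), J₀ ≤ A → A ≤ subM M Ni → C ⊔ d.T.map (bar M) ≤ setStab (repM M) A →
    A = J₀ ∨ WB ≤ A
  nsJ : ∀ {p : MulAut M}, p ∈ Ns.map (bar M) → p ∈ movIn (repM M) (subM M Ni) J₀
  ni_ns : ∀ f ∈ Ni, ∀ w ∈ subM M Ns, repM M (bar M f) w - w ∈ J₀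
  whole : ∀ f ∈ d.T, bar M f ∈ movIn (repM M) WB J₀ → bar M f ∈ movIn (repM M) (subM M Ni) J₀
  moved : ∃ t ∈ d.T, bar M t ∉ movIn (repM M) (subM M Ni) J₀

set_option maxHeartbeats 800000 in
/-- A commutator outside the core gives such a factor. -/
theorem exists_gapSetup (d : SData N) [IsMulCommutative N] {M : Subgroup S} [M.Normal] [IsMulCommutative M]
    (h2 : ∀ x ∈ M, x ^ 2 = 1)
    (Com : Subgroup S → Prop) (hComN : ∀ K, Com K → K.Normal)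
    (hbot : Com ⊥) {Ns : Subgroup S} (hNs : Com Ns)
    (hnext : ∀ I, Com I → I < Ns → ∃ Ni, Com Ni ∧ I < Ni ∧ Ni ≤ Ns ∧ ⁅Ni, Ns⁆ ≤ I)
    (C : Subgroup (MulAut M))
    (hTC : d.T.map (bar M) ≤ normalizer (C : Set (MulAut M)))
    (hJ1 : C ≤ movIn (repM M) ⊤ (subM M Ns))
    (hO : ∀ c ∈ C, ∀ o ∈ Cfsg.pCoreOf 2 C, ⁅c, o⁆ ∈ Ns.map (bar M))
    (hpres : ∀ K, Com K → C ≤ setStab (repM M) (subM M K))
    {c₀ : MulAut M} (hc₀ : c₀ ∈ C) {f₀ : S} (hf₀ : f₀ ∈ d.T)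
    (hbad₀ : ⁅c₀, bar M f₀⁆ ∉ Cfsg.pCoreOf 2 C) : Nonempty (GapSetup d M Com Ns C) := by
  classical
  haveI : Fact (Nat.Prime 2) := ⟨Nat.prime_two⟩
  have hV2 : ∀ x : Additive M, x + x = 0 := two_eq_zero h2
  set ρ := repM M
  set b := bar M
  set Tb := d.T.map b with hTb
  set O := Cfsg.pCoreOf 2 C with hOdef
  have hnormO : normalizer (C : Set (MulAut M)) ≤ normalizer (O : Set (MulAut M)) :=
    CfsgLib.Large.normalizer_le_normalizer_pCoreOf C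
  set CT := C ⊔ Tb with hCT
  have hCn : CT ≤ normalizer (C : Set (MulAut M)) := sup_le le_normalizer hTC
  -- the minimal subgroup not centralized modulo the core
  obtain ⟨C₁, hC₁⟩ := Set.Finite.exists_minimal
    (s := {B : Subgroup (MulAut M) | O ≤ B ∧ B ≤ C ∧ CT ≤ normalizer (B : Set (MulAut M)) ∧
      ∃ c ∈ B, ∃ f ∈ d.T, ⁅c, b f⁆ ∉ O}) (Set.toFinite _)
    ⟨C, LLemma.pCoreOf_le C, le_rfl, hCn, c₀, hc₀, f₀, hf₀, hbad₀⟩
  obtain ⟨hOC₁, hC₁C, hC₁n, c₁, hc₁, f₁, hf₁, hbad₁⟩ := hC₁.prop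
  set R := Cfsg.pResidualOf 2 C₁ with hR
  have hRn : CT ≤ normalizer (R : Set (MulAut M)) := hC₁n.trans (normalizer_le_normalizer_residual C₁)
  have hRC₁ : R ≤ C₁ := CfsgLib.Baumann.pResidualOf_le C₁
  have hTO : ∀ c ∈ O, ∀ f ∈ d.T, ⁅c, b f⁆ ∈ O := fun c hc f hf => by
    have h1 := (mem_normalizer_iff.1 (hnormO (hTC ⟨f, hf, rfl⟩)) _).1 (inv_mem hc)
    rw [commutatorElement_def, show c * b f * c⁻¹ * (b f)⁻¹ = c * (b f * c⁻¹ * (b f)⁻¹) by group]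
    exact mul_mem hc h1
  have htwo : ¬ ∀ x ∈ C₁, ∃ k : ℕ, x ^ 2 ^ k = 1 := fun hp => by
    refine hbad₁ (hTO _ (LLemma.le_pCoreOf hC₁C (le_sup_left.trans hC₁n)
      (fun x => ?_) hc₁) f₁ hf₁)
    obtain ⟨k, hk⟩ := hp x x.2
    exact ⟨k, Subtype.ext hk⟩
  -- invariant subgroups
  have hstT : ∀ {K : Subgroup S}, K.Normal → Tb ≤ setStab ρ (subM M K) := fun {K} hK => by
    rintro _ ⟨f, -, rfl⟩
    exact bar_mem_setStab f
  have hstM : ∀ {K : Subgroup S}, Com K → CT ≤ setStab ρ (subM M K) := fun hK =>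
    sup_le (hpres _ hK) (hstT (hComN _ hK))
  have hstTop : CT ≤ setStab ρ ⊤ := fun x _ v _ => AddSubgroup.mem_top _
  -- the largest common subgroup on which the residual is trivial
  obtain ⟨I, hI⟩ := Set.Finite.exists_maximal
    (s := {I : Subgroup S | Com I ∧ I ≤ Ns ∧ R ≤ movIn ρ (subM M I) ⊥}) (Set.toFinite _)
    ⟨⊥, hbot, bot_le, fun x hx => ⟨(hC₁C.trans le_sup_left).trans (hstM hbot) (hRC₁ hx),
      fun v hv => by rw [AddSubgroup.mem_bot] at hv ⊢; rw [hv, map_zero],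
      fun v hv => by
        have h0 : v = 0 := Additive.toMul.injective (Subtype.ext (Subgroup.mem_bot.1 (mem_subM.1 hv)))
        rw [h0, map_zero, sub_zero]; exact zero_mem _⟩⟩
  obtain ⟨hICom, hINs, hIR⟩ := hI.prop
  have hC₁CT : C₁ ≤ CT := hC₁C.trans le_sup_left
  have hINs' : I < Ns := lt_of_le_of_ne hINs fun e => htwo fun x hx => by
    have hbotst : C₁ ≤ setStab ρ ⊥ := fun y _ v hv => by
      rw [AddSubgroup.mem_bot] at hv ⊢; rw [hv, map_zero]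
    have h1 := residual_trivial hV2 (hC₁CT.trans hstTop) hbotst ((hRC₁.trans hC₁C).trans hJ1) (e ▸ hIR)
    obtain ⟨k, hk⟩ := exists_pow_residual hx
    refine ⟨k, repM_faithful _ (AddMonoidHom.ext fun v => ?_)⟩
    exact sub_eq_zero.1 (AddSubgroup.mem_bot.1 ((h1 hk).2.2 v (AddSubgroup.mem_top v)))
  obtain ⟨Ni, hNiCom, hINi, hNiNs, hNiI⟩ := hnext I hICom hINs'
  haveI := hComN _ hNiCom
  haveI := hComN _ hICom
  haveI := hComN _ hNs
  set J := subM M Ni with hJ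
  have hIJ : subM M I ≤ J := subM_mono hINi.le
  -- the largest invariant subgroup into which `J` is not moved
  obtain ⟨J₀, hJ₀⟩ := Set.Finite.exists_maximal
    (s := {A : AddSubgroup (Additive M) | subM M I ≤ A ∧ A ≤ J ∧ CT ≤ setStab ρ A ∧ ¬ R ≤ movIn ρ J A})
    (Set.toFinite _) ⟨subM M I, le_rfl, hIJ, hstM hICom, fun hle => by
      refine absurd (hI.le_of_ge ⟨hNiCom, hNiNs, residual_trivial hV2 ((hC₁CT.trans (hstM hNiCom)))
        (fun y _ v hv => by rw [AddSubgroup.mem_bot] at hv ⊢; rw [hv, map_zero]) hle hIR⟩ hINi.le) hINi.not_ge⟩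
  obtain ⟨hIJ₀, hJ₀J, hJ₀st, hJ₀R⟩ := hJ₀.prop
  -- the image of `Ni` moves `J` into `J₀`
  have hNiJ : ∀ g ∈ Ns, b g ∈ movIn ρ J (subM M I) := fun g hg => by
    refine ⟨bar_mem_setStab g, bar_mem_setStab g, fun v hv => ?_⟩
    show ((ρ (b g) v - v).toMul : S) ∈ I
    rw [val_bar_sub, ← commutatorElement_inv]
    exact inv_mem (hNiI (commutator_mem_commutator hv hg))
  have hNsJ₀ : ∀ g ∈ Ns, ∀ v ∈ J, ρ (b g) v - v ∈ J₀ := fun g hg v hv => hIJ₀ ((hNiJ g hg).2.2 v hv)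
  have hNsst : ∀ g ∈ Ns, b g ∈ setStab ρ J₀ := fun g hg v hv => by
    have := add_mem (hNsJ₀ g hg v (hJ₀J hv)) hv
    rwa [sub_add_cancel] at this
  -- the smallest invariant subgroup over `J₀`
  set WB := J₀ ⊔ AddSubgroup.closure {w | ∃ c ∈ R, ∃ v ∈ J, ρ c v - v = w} with hWB
  have hJst : CT ≤ setStab ρ J := hstM hNiCom
  have hWBJ : WB ≤ J := sup_le hJ₀J ((AddSubgroup.closure_le _).2 (by
    rintro _ ⟨c, hc, v, hv, rfl⟩
    exact J.sub_mem (hJst (hC₁CT (hRC₁ hc)) v hv) hv))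
  have hWBst : CT ≤ setStab ρ WB := by
    intro x hx
    show WB ≤ WB.comap (ρ x : Additive M →+ Additive M)
    refine sup_le (fun v hv => AddSubgroup.mem_sup_left (hJ₀st hx v hv)) ((AddSubgroup.closure_le _).2 ?_)
    rintro _ ⟨c, hc, v, hv, rfl⟩
    refine AddSubgroup.mem_sup_right (AddSubgroup.subset_closure
      ⟨x * c * x⁻¹, (mem_normalizer_iff.1 (hRn hx) c).1 hc, ρ x v, hJst hx v hv, ?_⟩)
    show ρ (x * c * x⁻¹) (ρ x v) - ρ x v = ρ x (ρ c v - v)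
    rw [map_sub, ← act_mul, ← act_mul, inv_mul_cancel_right]
  have hRW : R ≤ movIn ρ J WB := fun c hc => ⟨hJst (hC₁CT (hRC₁ hc)), hWBst (hC₁CT (hRC₁ hc)), fun v hv =>
    AddSubgroup.mem_sup_right (AddSubgroup.subset_closure ⟨c, hc, v, hv, rfl⟩)⟩
  have hmin : ∀ A : AddSubgroup (Additive M), J₀ ≤ A → A ≤ J → CT ≤ setStab ρ A → A = J₀ ∨ WB ≤ A := by
    intro A h1 h3 h4
    by_cases hA : R ≤ movIn ρ J A
    · refine Or.inr (sup_le h1 ((AddSubgroup.closure_le _).2 ?_))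
      rintro _ ⟨c, hc, v, hv, rfl⟩
      exact (hA hc).2.2 v hv
    · exact Or.inl (le_antisymm (hJ₀.le_of_ge ⟨hIJ₀.trans h1, h3, h4, hA⟩ h1) h1)
  have hRnot : ¬ R ≤ movIn ρ WB J₀ := fun hle =>
    hJ₀R (residual_trivial hV2 (hC₁CT.trans hJst) (hC₁CT.trans hJ₀st) hRW hle)
  have hWBne : ¬ WB ≤ J₀ := fun hle => hRnot fun c hc => ⟨hWBst (hC₁CT (hRC₁ hc)), hJ₀st (hC₁CT (hRC₁ hc)),
    fun v hv => J₀.sub_mem (hJ₀st (hC₁CT (hRC₁ hc)) v (hle hv)) (hle hv)⟩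
  -- a fixed point argument
  have hfixR : ∀ v ∈ J, (∀ c ∈ R, ρ c v - v ∈ J₀) → v ∈ J₀ := by
    let F : AddSubgroup (Additive M) :=
      { carrier := {v | v ∈ J ∧ ∀ c ∈ R, ρ c v - v ∈ J₀}
        zero_mem' := ⟨zero_mem _, fun c _ => by rw [map_zero, sub_zero]; exact zero_mem _⟩
        add_mem' := fun {v w} hv hw => ⟨add_mem hv.1 hw.1, fun c hc => by
          rw [map_add, add_sub_add_comm]; exact add_mem (hv.2 c hc) (hw.2 c hc)⟩
        neg_mem' := fun {v} hv => ⟨neg_mem hv.1, fun c hc => by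
          rw [map_neg, ← neg_sub']; exact neg_mem (hv.2 c hc)⟩ }
    have hF : CT ≤ setStab ρ F := fun x hx v hv => ⟨hJst hx v hv.1, fun c hc => by
      have e : ρ c (ρ x v) - ρ x v = ρ x (ρ (x⁻¹ * c * x) v - v) := by
        rw [map_sub, ← act_mul, ← act_mul, show x * (x⁻¹ * c * x) = c * x by group]
      rw [e]
      exact hJ₀st hx _ (hv.2 _ (by simpa using (mem_normalizer_iff.1 (hRn (inv_mem hx)) c).1 hc))⟩
    rcases hmin F (fun v hv => ⟨hJ₀J hv, fun c hc => J₀.sub_mem (hJ₀st (hC₁CT (hRC₁ hc)) v hv) hv⟩)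
      (fun v hv => hv.1) hF with h | h
    · exact fun v hv hc => h.le ⟨hv, hc⟩
    · exact absurd (fun c hc => ⟨hWBst (hC₁CT (hRC₁ hc)), hJ₀st (hC₁CT (hRC₁ hc)),
        fun v hv => (h hv).2 c hc⟩) hRnot
  -- the core of `C` is trivial on `J` modulo `J₀`
  have hOCT : O ≤ CT := (LLemma.pCoreOf_le C).trans le_sup_left
  have hOW : O ≤ movIn ρ WB J₀ := by
    let F : AddSubgroup (Additive M) :=
      { carrier := {v | v ∈ WB ∧ ∀ o ∈ O, ρ o v - v ∈ J₀}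
        zero_mem' := ⟨zero_mem _, fun c _ => by rw [map_zero, sub_zero]; exact zero_mem _⟩
        add_mem' := fun {v w} hv hw => ⟨add_mem hv.1 hw.1, fun c hc => by
          rw [map_add, add_sub_add_comm]; exact add_mem (hv.2 c hc) (hw.2 c hc)⟩
        neg_mem' := fun {v} hv => ⟨neg_mem hv.1, fun c hc => by
          rw [map_neg, ← neg_sub']; exact neg_mem (hv.2 c hc)⟩ }
    have hF : CT ≤ setStab ρ F := fun x hx v hv => ⟨hWBst hx v hv.1, fun o ho => by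
      have e : ρ o (ρ x v) - ρ x v = ρ x (ρ (x⁻¹ * o * x) v - v) := by
        rw [map_sub, ← act_mul, ← act_mul, show x * (x⁻¹ * o * x) = o * x by group]
      rw [e]
      exact hJ₀st hx _ (hv.2 _ (by simpa using (mem_normalizer_iff.1 (hnormO (hCn (inv_mem hx))) o).1 ho))⟩
    rcases hmin F (fun v hv => ⟨AddSubgroup.mem_sup_left hv, fun o ho =>
      J₀.sub_mem (hJ₀st (hOCT ho) v hv) hv⟩) (fun v hv => hWBJ hv.1) hF with h | h
    · exfalso
      obtain ⟨w, hwW, hw⟩ := SetLike.not_le_iff_exists.1 hWBne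
      set σ := subRep (ρ.comp O.subtype) WB (fun o v hv => hWBst (hOCT o.2) v hv)
      have hJi : ∀ o : O, ∀ v ∈ J₀.addSubgroupOf WB, σ o v ∈ J₀.addSubgroupOf WB :=
        fun o v hv => hJ₀st (hOCT o.2) (v : Additive M) hv
      obtain ⟨q, hq0, hq⟩ := exists_fixed_ne_zero (ρ := quotRep σ _ hJi)
        (fun v => QuotientAddGroup.induction_on v fun u => congrArg QuotientAddGroup.mk (Subtype.ext (hV2 u)))
        (R := (⊤ : Subgroup O)) ((LLemma.pCoreOf_isPGroup C).to_subgroup ⊤)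
        (v₀ := QuotientAddGroup.mk (⟨w, hwW⟩ : WB)) (fun e => hw ((QuotientAddGroup.eq_zero_iff (N := J₀.addSubgroupOf WB) _).1 e))
      obtain ⟨u, rfl⟩ := QuotientAddGroup.mk_surjective q
      refine hq0 ((QuotientAddGroup.eq_zero_iff _).2 (h.le ⟨u.2, fun o ho => ?_⟩))
      exact (QuotientAddGroup.eq_iff_sub_mem (N := J₀.addSubgroupOf WB)).1 (hq ⟨o, ho⟩ (mem_top _))
    · exact fun o ho => ⟨hWBst (hOCT ho), hJ₀st (hOCT ho), fun v hv => (h hv).2 o ho⟩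
  have hPsJ : ∀ {p : MulAut M}, p ∈ Ns.map b → p ∈ movIn ρ J J₀ := by
    rintro _ ⟨g, hg, rfl⟩
    exact ⟨bar_mem_setStab g, hNsst g hg, hNsJ₀ g hg⟩
  have hcommute : ∀ x : MulAut M, x ∈ CT → x ∈ movIn ρ WB J₀ →
      (∀ c ∈ R, ⁅c, x⁆ ∈ movIn ρ J J₀) → x ∈ movIn ρ J J₀ := by
    intro x hxCT hx hc
    refine ⟨hJst hxCT, hJ₀st hxCT, fun v hv => hfixR _ (J.sub_mem (hJst hxCT v hv) hv) fun c hcR => ?_⟩
    have hcCT := hC₁CT (hRC₁ hcR)
    have hxv := hJst hxCT v hv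
    have h1 : ρ (c * x) v - ρ (x * c) v ∈ J₀ := by
      have h1' := (hc c hcR).2.2 _ (hJst (mul_mem hxCT hcCT) v hv)
      rw [← act_mul, show ⁅c, x⁆ * (x * c) = c * x by rw [commutatorElement_def]; group] at h1'
      exact h1'
    have h3 : ρ x (ρ c v - v) - (ρ c v - v) ∈ J₀ := hx.2.2 _ ((hRW hcR).2.2 v hv)
    have e : ρ c (ρ x v - v) - (ρ x v - v) =
        (ρ (c * x) v - ρ (x * c) v) + (ρ x (ρ c v - v) - (ρ c v - v)) := by
      simp only [map_sub, act_mul]; abel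
    rw [e]
    exact add_mem h1 h3
  have hOJ : O ≤ movIn ρ J J₀ := fun o ho => hcommute o (hOCT ho) (hOW ho) fun c hc =>
    hPsJ (hO c (hC₁C (hRC₁ hc)) o ho)
  -- an element trivial on the minimal factor is trivial on `J` modulo `J₀` and central
  have hstab : ∀ f ∈ d.T, b f ∈ movIn ρ WB J₀ → b f ∈ movIn ρ J J₀ ∧ ∀ c ∈ C₁, ⁅c, b f⁆ ∈ O := by
    intro f hf hfW
    have hfCT : b f ∈ CT := Subgroup.mem_sup_right ⟨f, hf, rfl⟩
    set K := C₁ ⊓ movIn ρ WB J₀ with hK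
    have hKn : CT ≤ normalizer (K : Set (MulAut M)) := fun x hx =>
      Subgroup.mem_normalizer_fintype fun k hk => ⟨(mem_normalizer_iff.1 (hC₁n hx) k).1 hk.1,
        conj_mem_movIn (hWBst hx) (hJ₀st hx) hk.2⟩
    have hKc : ∀ k ∈ K, ⁅k, b f⁆ ∈ O := by
      by_contra hnot
      push Not at hnot
      obtain ⟨k, hk, hkbad⟩ := hnot
      have hle := hC₁.le_of_le ⟨le_inf hOC₁ hOW, inf_le_left.trans hC₁C, hKn, k, hk, f, hf, hkbad⟩ inf_le_left
      exact hRnot (hRC₁.trans (hle.trans inf_le_right))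
    have hfsq : b f * b f = 1 := by rw [← map_mul, d.T_sq f hf, map_one]
    have hall : ∀ c ∈ C₁, ⁅c, b f⁆ ∈ O := fun c hc => by
      refine stab hfsq (hTC ⟨f, hf, rfl⟩) (inf_le_left.trans hC₁C) (le_sup_left.trans hKn)
        (le_sup_left.trans hKn) le_rfl (fun e he => ⟨0, by rw [pow_zero, pow_one]; exact he⟩) hKc (hC₁C hc) ⟨?_, ?_⟩
      · rw [commutatorElement_def, show c * b f * c⁻¹ * (b f)⁻¹ = c * (b f * c⁻¹ * (b f)⁻¹) by group]
        exact mul_mem hc ((mem_normalizer_iff.1 (hC₁n hfCT) _).1 (inv_mem hc))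
      · exact comm_mem_movIn (hWBst (hC₁CT hc)) (hJ₀st (hC₁CT hc)) hfW
    exact ⟨hcommute _ hfCT hfW fun c hc => hOJ (hall c (hRC₁ hc)), hall⟩
  refine ⟨⟨Ni, J₀, WB, hNiCom, hNiNs, le_sup_left, hWBJ, hJ₀st, hWBst, hWBne, hmin, hPsJ,
    fun f hf w hw => hIJ₀ ?_, fun f hf h => (hstab f hf h).1, ?_⟩⟩
  · rw [mem_subM, val_bar_sub]
    exact hNiI (commutator_mem_commutator hf hw)
  · by_contra! hall
    obtain ⟨-, -, hf⟩ := hall f₁ hf₁
    exact hbad₁ ((hstab f₁ hf₁ ⟨hWBst (Subgroup.mem_sup_right ⟨f₁, hf₁, rfl⟩),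
      hJ₀st (Subgroup.mem_sup_right ⟨f₁, hf₁, rfl⟩), fun v hv => hf v (hWBJ hv)⟩).2 c₁ hc₁)

end CfsgLib.SFour
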