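import Cfsg.Agent.Lib.SFour.GapSetup

set_option autoImplicit false
set_option linter.unusedSectionVars false
set_option linter.style.haveILetI false
set_option maxHeartbeats 400000

/-! The stable part of `T` in the gap lemma is invariant under `tau`. -/

namespace CfsgLib.SFour

open Subgroup IsMulCommutative CfsgLib.Techniques CfsgLib.Techniques.SThree
open scoped commutatorElement

universe u

variable {S : Type u} [Group S]

variable [Finite S] {N : Subgroup S} {d : SData N} [IsMulCommutative N] {M : Subgroup S} [M.Normal]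
  [IsMulCommutative M] {Com : Subgroup S → Prop} {Ns : Subgroup S} {C : Subgroup (MulAut M)}

namespace GapSetup

variable (σs : GapSetup d M Com Ns C)

theorem bar_mem {f : S} (hf : f ∈ d.T) : bar M f ∈ C ⊔ d.T.map (bar M) :=
  Subgroup.mem_sup_right ⟨f, hf, rfl⟩

/-- The elements of `T` trivial on the subgroup given by `Ni` modulo `J₀`. -/
def T₁ : Subgroup S := d.T ⊓ (movIn (repM M) (subM M σs.Ni) σs.J₀).comap (bar M)

/-- `J₀` read in `S`. -/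
def J₀S : Subgroup S := (AddSubgroup.toSubgroup' σs.J₀).map M.subtype

theorem mem_J₀S (x : Additive M) : x ∈ σs.J₀ ↔ (x.toMul : S) ∈ σs.J₀S :=
  ⟨fun h => ⟨x.toMul, h, rfl⟩, fun ⟨y, hy, e⟩ => by
    obtain rfl : y = x.toMul := Subtype.ext e
    exact hy⟩

theorem T₁_le : σs.T₁ ≤ d.T := inf_le_left

theorem T₁_of_whole {f : S} (hf : f ∈ d.T) (h : ∀ v ∈ σs.WB, repM M (bar M f) v - v ∈ σs.J₀) : f ∈ σs.T₁ :=
  ⟨hf, σs.whole f hf ⟨σs.stWB (bar_mem hf), σs.stJ₀ (bar_mem hf), h⟩⟩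

theorem exists_not_mem_T₁ : ∃ t ∈ d.T, t ∉ σs.T₁ := by
  obtain ⟨t, ht, h⟩ := σs.moved
  exact ⟨t, ht, fun h' => h h'.2⟩

theorem Y_le_T₁ (hMN : M ≤ N) : d.Y ≤ σs.T₁ := fun y hy => ⟨(d.Y_le hy).2, by
  have e : bar M y = 1 := repM_faithful _ (AddMonoidHom.ext fun v => Additive.toMul.injective (Subtype.ext (by
    show ((repM M (bar M y) v).toMul : S) = (v.toMul : S)
    rw [val_bar, d.comm_N (d.U_le (d.Y_le hy).1) (hMN v.toMul.2), mul_inv_cancel_right])))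
  show bar M y ∈ movIn (repM M) (subM M σs.Ni) σs.J₀
  rw [e]; exact one_mem _⟩

theorem inf_Ni_le_T₁ : d.T ⊓ σs.Ni ≤ σs.T₁ := fun f hf => ⟨hf.1, σs.nsJ ⟨f, σs.le_Ns hf.2, rfl⟩⟩

variable (hCom₀ : ∀ K, Com K → d.Com₀ K) (hComN : ∀ K, Com K → K.Normal)
  (hMN : M ≤ N) {v₀ : S} (hv₀ : v₀ ∈ M) (hv₀U : v₀ ∉ d.U)

include hCom₀ hComN hMN hv₀ hv₀U in
theorem exists_dvd {g : S} (hg : g ∈ d.T ⊓ σs.Ni) : ∃ j ∈ M, j ∈ σs.Ni ∧ j * ⁅g, d.a⁆⁻¹ ∈ d.Y := by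
  haveI := hComN _ σs.com
  obtain ⟨f, hf, hfy⟩ := d.dvd σs.Ni (hCom₀ _ σs.com) v₀ (hMN hv₀) hv₀U ⁅g, d.a⁆
    ⟨d.mem_N_of_T hg.1 d.a_mem, by
      rw [commutatorElement_def, show g * d.a * g⁻¹ * d.a⁻¹ = g * (d.a * g⁻¹ * d.a⁻¹) by group]
      exact mul_mem hg.2 ((inferInstance : σs.Ni.Normal).conj_mem _ (inv_mem hg.2) _)⟩
  refine ⟨⁅f, v₀⁆, ?_, ?_, hfy⟩
  · rw [commutatorElement_def]
    exact mul_mem ((inferInstance : M.Normal).conj_mem v₀ hv₀ f) (inv_mem hv₀)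
  · rw [commutatorElement_def, show f * v₀ * f⁻¹ * v₀⁻¹ = f * (v₀ * f⁻¹ * v₀⁻¹) by group]
    exact mul_mem hf.2 ((inferInstance : σs.Ni.Normal).conj_mem _ (inv_mem hf.2) _)

include hCom₀ hComN hMN hv₀ hv₀U in
theorem mem_T₁_iff {t : S} (ht : t ∈ d.T) :
    t ∈ σs.T₁ ↔ ∀ g ∈ d.T ⊓ σs.Ni, ⁅t, ⁅g, d.a⁆⁆ ∈ σs.J₀S := by
  haveI := hComN _ σs.com
  constructor
  · rintro ⟨-, hm⟩ g hg
    obtain ⟨j, hjM, hjNi, hjY⟩ := σs.exists_dvd hCom₀ hComN hMN hv₀ hv₀U hg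
    rw [← d.br_congr ht (d.mem_N_of_T hg.1 d.a_mem) hjY]
    have := (σs.mem_J₀S _).1 (hm.2.2 (Additive.ofMul ⟨j, hjM⟩) hjNi)
    rwa [val_bar_sub] at this
  · intro hall
    refine ⟨ht, bar_mem_setStab t, σs.stJ₀ (bar_mem ht), fun v hv => ?_⟩
    rw [σs.mem_J₀S, val_bar_sub]
    obtain ⟨f, hf, hfy⟩ := d.dvd σs.Ni (hCom₀ _ σs.com) d.a d.a_mem d.a_not (v.toMul : S) ⟨hMN v.toMul.2, hv⟩
    rw [← d.br_congr ht (hMN v.toMul.2) hfy]
    exact hall f hf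

include hCom₀ hComN hMN hv₀ hv₀U in
theorem tau_mem_T₁ {t : S} (ht : t ∈ σs.T₁) : d.tau t ∈ σs.T₁ := by
  rw [σs.mem_T₁_iff hCom₀ hComN hMN hv₀ hv₀U (d.tau_mem t ht.1)]
  intro g hg
  rw [d.tau_adj t ht.1 g hg.1]
  obtain ⟨g', hg', he⟩ := d.tau_coset_br (inf_le_left : d.T ⊓ σs.Ni ≤ d.T)
    (d.tau_normal σs.Ni (hCom₀ _ σs.com) g (Subgroup.mem_sup_left hg))
  rw [he d.a d.a_mem]
  exact (σs.mem_T₁_iff hCom₀ hComN hMN hv₀ hv₀U ht.1).1 ht g' hg'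

end GapSetup

theorem SData.tau_mem_Y (hCom₀ : ∀ K, Com K → d.Com₀ K) (hbot : Com ⊥) {y : S} (hy : y ∈ d.Y) :
    d.tau y ∈ d.Y := by
  have h := d.tau_normal ⊥ (hCom₀ ⊥ hbot) y (Subgroup.mem_sup_right hy)
  rwa [inf_bot_eq, bot_sup_eq] at h

namespace GapSetup

variable (σs : GapSetup d M Com Ns C) (hCom₀ : ∀ K, Com K → d.Com₀ K) (hComN : ∀ K, Com K → K.Normal)
  (hMN : M ≤ N) {v₀ : S} (hv₀ : v₀ ∈ M) (hv₀U : v₀ ∉ d.U) (hbot : Com ⊥)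

include hCom₀ hComN hMN hv₀ hv₀U hbot in
theorem mem_T₁_of_tau {s : S} (hs : s ∈ d.T) (h : d.tau s ∈ σs.T₁) : s ∈ σs.T₁ :=
  d.mem_of_phi (φ := fun f : d.T => d.tau f) (fun f => d.tau_mem f f.2) (fun f g => d.tau_mul f f.2 g g.2)
    (fun f => d.tau_inj f f.2) (fun f => SData.tau_mem_Y hCom₀ hbot) σs.T₁_le (σs.Y_le_T₁ hMN)
    (fun f hf => σs.tau_mem_T₁ hCom₀ hComN hMN hv₀ hv₀U hf) (s := ⟨s, hs⟩) h

include hCom₀ hComN hMN hv₀ hv₀U hbot in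
theorem mem_T₁_of_tau_mul {s : S} (hs : s ∈ d.T) (h : d.tau s * s ∈ σs.T₁) : s ∈ σs.T₁ :=
    d.mem_of_phi (φ := fun f : d.T => d.tau f * f) (fun f => mul_mem (d.tau_mem f f.2) f.2)
      (fun f g => by
        have h1 := d.tau_mul f f.2 g g.2
        have e : (d.tau ((f : S) * g) * ((f : S) * g))⁻¹ * ((d.tau f * f) * (d.tau g * g)) =
            (d.tau ((f : S) * g))⁻¹ * (d.tau f * d.tau g) := by
          have c1 : (f : S) * d.tau g = d.tau g * f := d.T_abelian _ f.2 _ (d.tau_mem g g.2)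
          have c2 : (d.tau ((f : S) * g))⁻¹ * (d.tau f * d.tau g) * ((f : S) * g) =
              (f : S) * g * ((d.tau ((f : S) * g))⁻¹ * (d.tau f * d.tau g)) :=
            d.T_abelian _ (mul_mem (inv_mem (d.tau_mem _ (mul_mem f.2 g.2)))
              (mul_mem (d.tau_mem f f.2) (d.tau_mem g g.2))) _ (mul_mem f.2 g.2)
          calc (d.tau ((f : S) * g) * ((f : S) * g))⁻¹ * ((d.tau f * f) * (d.tau g * g))
              = ((f : S) * g)⁻¹ * ((d.tau ((f : S) * g))⁻¹ * (d.tau f * ((f : S) * d.tau g) * g)) := by group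
            _ = ((f : S) * g)⁻¹ * ((d.tau ((f : S) * g))⁻¹ * (d.tau f * d.tau g) * ((f : S) * g)) := by
              rw [c1]; group
            _ = _ := by rw [c2]; group
        show (d.tau ((f : S) * g) * ((f : S) * g))⁻¹ * _ ∈ _
        rw [e]; exact h1)
      (fun f => d.tau_inj' f f.2) (fun f hf => mul_mem (SData.tau_mem_Y hCom₀ hbot hf) hf) σs.T₁_le (σs.Y_le_T₁ hMN)
      (fun f hf => mul_mem (σs.tau_mem_T₁ hCom₀ hComN hMN hv₀ hv₀U hf) hf) (s := ⟨s, hs⟩) h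

end GapSetup

end CfsgLib.SFour
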