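import Cfsg.Agent.Lib.SFour.Basic
import Cfsg.Agent.Lib.LocalEven.Baumann.Basic
import Mathlib.GroupTheory.Nilpotent

set_option autoImplicit false
set_option linter.unusedSectionVars false
set_option linter.style.haveILetI false

/-! An involution centralizing a normal subgroup modulo the 2-core, and the factor above it. -/

namespace CfsgLib.SFour

open Subgroup CfsgLib.Techniques CfsgLib.LLemma
open scoped commutatorElement

universe u v

variable {G : Type u} [Group G] [Finite G]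

/-- In a group with trivial 2-core, an element of a normal subgroup whose quotient by a central
subgroup is a 2-group has odd order. -/
theorem odd_of_central_ext (hO : Cfsg.pCore 2 G = ⊥) {E Z : Subgroup G} [E.Normal]
    (hZ : ∀ z ∈ E ⊓ Z, ∀ e ∈ E, z * e = e * z) (hE : ∀ e ∈ E, ∃ j : ℕ, e ^ 2 ^ j ∈ Z) {x : G}
    (hx : x ∈ E) {i : ℕ} (hxi : x ^ 2 ^ i = 1) : x = 1 := by
  haveI : Fact (Nat.Prime 2) := ⟨Nat.prime_two⟩
  set K : Subgroup E := (E ⊓ Z).subgroupOf E with hK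
  have hKc : K ≤ center E := fun z hz => mem_center_iff.2 fun e => Subtype.ext (hZ _ hz e e.2).symm
  haveI : K.Normal := ⟨fun z hz e => by
    have := mem_center_iff.1 (hKc hz) e
    rw [show e * z * e⁻¹ = z by rw [this, mul_inv_cancel_right]]
    exact hz⟩
  have hq : IsPGroup 2 (E ⧸ K) := fun q => QuotientGroup.induction_on q fun e => by
    obtain ⟨j, hj⟩ := hE e e.2
    exact ⟨j, (QuotientGroup.eq_one_iff (e ^ 2 ^ j)).2 ⟨pow_mem e.2 _, hj⟩⟩
  haveI : Group.IsNilpotent (E ⧸ K) := hq.isNilpotent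
  haveI : Group.IsNilpotent E := Subgroup.isNilpotent_of_ker_le_center (QuotientGroup.mk' K)
    (by rw [QuotientGroup.ker_mk']; exact hKc)
  have hxp : IsPGroup 2 (zpowers (⟨x, hx⟩ : E)) := by
    obtain ⟨l, -, hl⟩ := (Nat.dvd_prime_pow Nat.prime_two).1 (orderOf_dvd_of_pow_eq_one hxi)
    exact IsPGroup.of_card (n := l) (by rw [Nat.card_zpowers, orderOf_mk, hl])
  obtain ⟨P, hP⟩ := hxp.exists_le_sylow
  haveI : (P : Subgroup E).Characteristic := Sylow.characteristic_of_normal P inferInstance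
  have h1 : (P : Subgroup E).map E.subtype ≤ Cfsg.pCore 2 G :=
    CfsgLib.PCore.le_pCore inferInstance (P.2.map _)
  exact Subgroup.mem_bot.1 (hO ▸ h1 ⟨⟨x, hx⟩, hP (mem_zpowers _), rfl⟩)

/-- An involution of the normalizer of `C` centralizing `K` modulo the 2-core of `C` centralizes `E`
modulo it, if `E` normalizes `K`, the commutators lie in `E` and `E` is `K` extended by a 2-group. -/
theorem stab {C E K : Subgroup G} {t : G} (ht2 : t * t = 1) (htC : t ∈ normalizer (C : Set G))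
    (hEC : E ≤ C) (hCE : C ≤ normalizer (E : Set G)) (hCK : C ≤ normalizer (K : Set G))
    (hKE : K ≤ E) (hE : ∀ e ∈ E, ∃ j : ℕ, e ^ 2 ^ j ∈ K) (hK : ∀ k ∈ K, ⁅k, t⁆ ∈ Cfsg.pCoreOf 2 C)
    {c : G} (hc : c ∈ C) (hcE : ⁅c, t⁆ ∈ E) : ⁅c, t⁆ ∈ Cfsg.pCoreOf 2 C := by
  haveI : Fact (Nat.Prime 2) := ⟨Nat.prime_two⟩
  set O := Cfsg.pCoreOf 2 C with hO
  haveI hOn : (Cfsg.pCore 2 C).Normal := Cfsg.pCore_normal 2 C
  set π := QuotientGroup.mk' (Cfsg.pCore 2 C)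
  have hmemO : ∀ {x : G} (hx : x ∈ C), x ∈ O ↔ π ⟨x, hx⟩ = 1 := fun {x} hx => by
    rw [QuotientGroup.mk'_apply, QuotientGroup.eq_one_iff]
    exact ⟨fun ⟨y, hy, e⟩ => (Subtype.ext e : y = ⟨x, hx⟩) ▸ hy, fun h => ⟨_, h, rfl⟩⟩
  set Eq := (E.subgroupOf C).map π with hEq
  set Kq := (K.subgroupOf C).map π with hKq
  haveI hEn : (E.subgroupOf C).Normal := ⟨fun e he q => (mem_normalizer_iff.1 (hCE q.2) _).1 he⟩
  haveI hKn : (K.subgroupOf C).Normal := ⟨fun e he q => (mem_normalizer_iff.1 (hCK q.2) _).1 he⟩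
  haveI : Eq.Normal := hEn.map π (QuotientGroup.mk'_surjective _)
  haveI : Kq.Normal := hKn.map π (QuotientGroup.mk'_surjective _)
  set F := Eq ⊓ centralizer (Kq : Set (C ⧸ Cfsg.pCore 2 C))
  set z : C := ⟨⁅c, t⁆, hEC hcE⟩ with hz
  have hKq : ∀ k : C, (k : G) ∈ K → π z * π k = π k * π z := by
    intro k hk
    -- `z k z⁻¹ k⁻¹` lies in the core
    have h1 : ⁅(k : G), t⁆ ∈ O := hK _ hk
    have hkc : c⁻¹ * (k : G) * c ∈ K := by
      simpa using (mem_normalizer_iff.1 (hCK (inv_mem hc)) _).1 hk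
    have h2 : ⁅c⁻¹ * (k : G) * c, t⁆ ∈ O := hK _ hkc
    have hnO : ∀ w ∈ C, ∀ o ∈ O, w * o * w⁻¹ ∈ O := fun w hw o ho =>
      (mem_normalizer_iff.1 (le_normalizer_pCoreOf C hw) o).1 ho
    have hkC : (k : G) ∈ C := k.2
    have ht' : t⁻¹ = t := inv_eq_of_mul_eq_one_right ht2
    have e2 : ⁅c, t⁆ * (k : G) * ⁅c, t⁆⁻¹ =
        c * (t * (c⁻¹ * (t * (k : G) * t⁻¹) * c) * t⁻¹) * c⁻¹ := by
      simp only [commutatorElement_def, mul_inv_rev, inv_inv, ht', mul_assoc]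
    -- conjugation by `t` is trivial on `K` modulo the core
    have ht : ∀ w ∈ K, t * w * t⁻¹ * w⁻¹ ∈ O := fun w hw => by
      have h := inv_mem (hK w hw)
      rwa [commutatorElement_inv, commutatorElement_def] at h
    have h3 : ⁅c, t⁆ * (k : G) * ⁅c, t⁆⁻¹ * (k : G)⁻¹ ∈ O := by
      rw [e2]
      set o1 := t * (k : G) * t⁻¹ * (k : G)⁻¹ with ho1
      have ho1' : o1 ∈ O := ht _ hk
      have htO : ∀ o ∈ O, t * o * t⁻¹ ∈ O := fun o ho =>
        (mem_normalizer_iff.1 (CfsgLib.Large.normalizer_le_normalizer_pCoreOf C htC) o).1 ho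
      have e3 : c * (t * (c⁻¹ * (t * (k : G) * t⁻¹) * c) * t⁻¹) * c⁻¹ * (k : G)⁻¹ =
          c * (t * (c⁻¹ * o1 * c⁻¹⁻¹) * t⁻¹ *
            (t * (c⁻¹ * (k : G) * c) * t⁻¹ * (c⁻¹ * (k : G) * c)⁻¹)) * c⁻¹ := by
        rw [ho1]; group
      rw [e3]
      exact hnO _ hc _ (mul_mem (htO _ (hnO _ (inv_mem hc) _ ho1')) (ht _ hkc))
    have h4 := (hmemO (mul_mem (mul_mem (mul_mem z.2 k.2) (inv_mem z.2)) (inv_mem k.2))).1 h3
    have h5 : π (z * k * z⁻¹ * k⁻¹) = 1 := h4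
    rw [map_mul, map_mul, map_mul, map_inv, map_inv, mul_inv_eq_one, mul_inv_eq_iff_eq_mul] at h5
    exact h5
  have hzF : π z ∈ F := ⟨⟨z, hcE, rfl⟩, mem_centralizer_iff.2 (by
    rintro _ ⟨k, hk, rfl⟩; exact (hKq k hk).symm)⟩
  obtain ⟨j, hj⟩ := hE _ hcE
  -- `t` inverts `z`
  have htz : t * ⁅c, t⁆ * t⁻¹ = ⁅c, t⁆⁻¹ := by
    rw [inv_eq_of_mul_eq_one_right ht2, commutatorElement_inv, commutatorElement_def, commutatorElement_def,
      inv_eq_of_mul_eq_one_right ht2]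
    simp only [mul_assoc, ht2, mul_one]
  have hsq : π z ^ 2 ^ (j + 1) = 1 := by
    set w := ⁅c, t⁆ ^ 2 ^ j with hw
    have h1 : ⁅w, t⁆ ∈ O := hK w hj
    have h2 : ⁅w, t⁆ = w * w := by
      have h3 : t * w⁻¹ * t⁻¹ = w := by
        rw [hw, ← inv_pow, ← conj_pow, show t * ⁅c, t⁆⁻¹ * t⁻¹ = (t * ⁅c, t⁆ * t⁻¹)⁻¹ from conj_inv.symm, htz, inv_inv]
      rw [commutatorElement_def, mul_assoc w, mul_assoc w, h3]
    rw [h2] at h1
    have h4 : π (z ^ 2 ^ j * z ^ 2 ^ j) = 1 :=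
      (hmemO (mul_mem (pow_mem z.2 _) (pow_mem z.2 _))).1 h1
    rw [← pow_add, map_pow] at h4
    rw [pow_succ, mul_two]
    exact h4
  have h := odd_of_central_ext (CfsgLib.PCore.pCore_quotient_pCore) (E := F) (Z := Kq)
    (fun a ha e he => mem_centralizer_iff.1 he.2 a ha.2) (fun e he => ?_) hzF hsq
  · exact (hmemO z.2).2 h
  · obtain ⟨e', he', rfl⟩ := he.1
    obtain ⟨i, hi⟩ := hE _ he'
    exact ⟨i, e' ^ 2 ^ i, hi, map_pow π e' _⟩

end CfsgLib.SFour
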