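import Cfsg.Agent.Lib.SFour.SData
import Cfsg.Agent.Lib.SFour.Stab
import Cfsg.Agent.Lib.SFour.Config

set_option autoImplicit false
set_option linter.unusedSectionVars false
set_option linter.style.haveILetI false

/-! Tools for the automorphism group of an elementary abelian normal subgroup. -/

namespace CfsgLib.SFour

open Subgroup IsMulCommutative CfsgLib.Techniques CfsgLib.Techniques.SThree
open scoped commutatorElement

universe u

variable {S : Type u} [Group S] (M : Subgroup S) [M.Normal] [IsMulCommutative M]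

/-- The automorphisms acting on the additive copy. -/
def repM : MulAut M →* AddMonoid.End (Additive M) where
  toFun γ := MonoidHom.toAdditive γ.toMonoidHom
  map_one' := rfl
  map_mul' _ _ := rfl

/-- Conjugation by `S`. -/
def bar : S →* MulAut M := MulAut.conjNormal

/-- A subgroup of `S` cut down to `M`, written additively. -/
def subM (K : Subgroup S) : AddSubgroup (Additive M) := Subgroup.toAddSubgroup (K.subgroupOf M)

variable {M}

theorem repM_faithful (γ : MulAut M) (h : repM M γ = 1) : γ = 1 :=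
  MulEquiv.ext fun x => congrArg Additive.toMul (DFunLike.congr_fun h (Additive.ofMul x))

theorem mem_subM {K : Subgroup S} {x : Additive M} : x ∈ subM M K ↔ (x.toMul : S) ∈ K := Iff.rfl

theorem subM_mono {K L : Subgroup S} (h : K ≤ L) : subM M K ≤ subM M L := fun _ hx => h hx

theorem val_bar (g : S) (x : Additive M) :
    ((repM M (bar M g) x).toMul : S) = g * (x.toMul : S) * g⁻¹ := MulAut.conjNormal_apply g x.toMul

theorem val_bar_sub (g : S) (x : Additive M) :
    ((repM M (bar M g) x - x).toMul : S) = ⁅g, (x.toMul : S)⁆ := by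
  rw [toMul_sub, div_eq_mul_inv, Subgroup.coe_mul, Subgroup.coe_inv, val_bar, commutatorElement_def]

theorem bar_mem_setStab [Finite S] {K : Subgroup S} [K.Normal] (g : S) : bar M g ∈ setStab (repM M) (subM M K) := by
  intro x hx
  show ((repM M (bar M g) x).toMul : S) ∈ K
  rw [val_bar]
  exact (inferInstance : K.Normal).conj_mem _ hx g

theorem two_eq_zero (h2 : ∀ x ∈ M, x ^ 2 = 1) (x : Additive M) : x + x = 0 :=
  Additive.toMul.injective (Subtype.ext (by
    show (x.toMul : S) * (x.toMul : S) = 1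
    rw [← pow_two]; exact h2 _ x.toMul.2))

section Mov

variable {X : Type u} [Group X] [Finite X] {V : Type u} [AddCommGroup V] [Finite V] (ρ : X →* AddMonoid.End V)

/-- The elements preserving `A` and `B` and moving `A` into `B`. -/
def movIn (A B : AddSubgroup V) : Subgroup X where
  carrier := {x | x ∈ setStab ρ A ∧ x ∈ setStab ρ B ∧ ∀ v ∈ A, ρ x v - v ∈ B}
  mul_mem' := fun {x y} hx hy => ⟨mul_mem hx.1 hy.1, mul_mem hx.2.1 hy.2.1, fun v hv => by
    have e : ρ (x * y) v - v = (ρ x (ρ y v) - ρ y v) + (ρ y v - v) := by rw [act_mul]; abel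
    rw [e]
    exact add_mem (hx.2.2 _ (hy.1 v hv)) (hy.2.2 v hv)⟩
  one_mem' := ⟨one_mem _, one_mem _, fun v _ => by rw [act_one, sub_self]; exact zero_mem _⟩
  inv_mem' := fun {x} hx => ⟨inv_mem hx.1, inv_mem hx.2.1, fun v hv => by
    have e : ρ x⁻¹ v - v = -(ρ x⁻¹ (ρ x v - v)) := by rw [map_sub, act_inv_cancel]; abel
    rw [e]
    exact neg_mem ((inv_mem hx.2.1 : x⁻¹ ∈ setStab ρ B) _ (hx.2.2 v hv))⟩

variable {ρ}

theorem conj_mem_movIn {A B : AddSubgroup V} {x y : X} (hA : y ∈ setStab ρ A) (hB : y ∈ setStab ρ B)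
    (hx : x ∈ movIn ρ A B) : y * x * y⁻¹ ∈ movIn ρ A B := by
  refine ⟨mul_mem (mul_mem hA hx.1) (inv_mem hA), mul_mem (mul_mem hB hx.2.1) (inv_mem hB), fun v hv => ?_⟩
  have e : ρ (y * x * y⁻¹) v - v = ρ y (ρ x (ρ y⁻¹ v) - ρ y⁻¹ v) := by
    rw [map_sub, act_cancel_inv, act_mul, act_mul]
  rw [e]
  exact hB _ (hx.2.2 _ ((inv_mem hA : y⁻¹ ∈ setStab ρ A) v hv))

theorem comm_mem_movIn {A B : AddSubgroup V} {x y : X} (hA : y ∈ setStab ρ A) (hB : y ∈ setStab ρ B)
    (hx : x ∈ movIn ρ A B) : ⁅y, x⁆ ∈ movIn ρ A B :=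
  mul_mem (conj_mem_movIn hA hB hx) (inv_mem hx)


/-- The residual lies in a subgroup containing a 2-power of each element. -/
theorem residual_le {H L : Subgroup X} (h : ∀ x ∈ H, ∃ k : ℕ, x ^ 2 ^ k ∈ L) :
    Cfsg.pResidualOf 2 H ≤ L := by
  rw [CfsgLib.Baumann.pResidualOf_le_iff]
  intro x hx hc
  obtain ⟨k, hk⟩ := h x hx
  obtain ⟨e, he⟩ := exists_pow_eq_self_of_coprime (x := x) (n := 2 ^ k) ((hc.pow_right k).symm)
  rw [← he]
  exact pow_mem hk e

theorem exists_pow_residual {H : Subgroup X} {x : X} (hx : x ∈ H) :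
    ∃ k : ℕ, x ^ 2 ^ k ∈ Cfsg.pResidualOf 2 H := by
  haveI : Fact (Nat.Prime 2) := ⟨Nat.prime_two⟩
  obtain ⟨k, hk⟩ := CfsgLib.Transfer.exists_pow_mem_pResidual (p := 2) (⟨x, hx⟩ : H)
  exact ⟨k, ⟨_, hk, rfl⟩⟩

theorem residual_trivial (hV2 : ∀ v : V, v + v = 0) {H : Subgroup X} {A B C : AddSubgroup V}
    (hA : H ≤ setStab ρ A) (hC : H ≤ setStab ρ C) (h1 : Cfsg.pResidualOf 2 H ≤ movIn ρ A B)
    (h2 : Cfsg.pResidualOf 2 H ≤ movIn ρ B C) : Cfsg.pResidualOf 2 H ≤ movIn ρ A C := by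
  refine residual_le fun x hx => ?_
  obtain ⟨k, hk⟩ := exists_pow_residual hx
  refine ⟨k + 1, ?_⟩
  rw [pow_succ 2 k, pow_mul, pow_two]
  exact ⟨hA (mul_mem (pow_mem hx _) (pow_mem hx _)), hC (mul_mem (pow_mem hx _) (pow_mem hx _)),
    sq_move hV2 (h1 hk).2.2 (h2 hk).2.2⟩

theorem normalizer_le_normalizer_residual (H : Subgroup X) :
    normalizer (H : Set X) ≤ normalizer (Cfsg.pResidualOf 2 H : Set X) := fun y hy =>
  map_conj_eq_self_iff.1 (by rw [← CfsgLib.Baumann.pResidualOf_cj, map_conj_eq_self_iff.2 hy])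

end Mov

end CfsgLib.SFour
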