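import Cfsg.Agent.Lib.SFour.Config
import Cfsg.Prelude.Def_Transfer

set_option autoImplicit false
set_option linter.unusedSectionVars false

/-! Subgroups without quadratic offender. -/

namespace CfsgLib.SFour

open Subgroup
open scoped commutatorElement

universe u

variable {G : Type u} [Group G] {S V W : Subgroup G}

/-- `V` is elementary abelian, normalised by `S` and has no quadratic offender in `S`. -/
structure GoodSub (S V : Subgroup G) : Prop where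
  elem : Cfsg.IsElementaryAbelian 2 V
  norm : S ≤ normalizer (V : Set G)
  good : ∀ T : Subgroup G, T ≤ S → (∀ s ∈ T, ∀ t ∈ T, ∀ v ∈ V, s * ⁅t, v⁆ = ⁅t, v⁆ * s) →
    ¬ T ≤ centralizer (V : Set G) →
    (centralizer (V : Set G)).relIndex T < (centralizer (T : Set G)).relIndex V

namespace GoodSub

theorem comm (h : GoodSub S V) {v w : G} (hv : v ∈ V) (hw : w ∈ V) : v * w = w * v :=
  congrArg Subtype.val (h.elem.1.1.comm (⟨v, hv⟩ : V) ⟨w, hw⟩)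

theorem of_le_centralizer (hV : Cfsg.IsElementaryAbelian 2 V) (h : S ≤ centralizer (V : Set G)) :
    GoodSub S V :=
  ⟨hV, h.trans (centralizer_le_normalizer _), fun _ hT _ hn => absurd (hT.trans h) hn⟩

theorem mono (h : GoodSub S V) {S' : Subgroup G} (hS : S' ≤ S) : GoodSub S' V :=
  ⟨h.elem, hS.trans h.norm, fun T hT => h.good T (hT.trans hS)⟩

/-- Two such subgroups normalising each other commute. -/
theorem commute (hV : GoodSub S V) {S' : Subgroup G} (hW : GoodSub S' W) (hWS : W ≤ S) (hVS : V ≤ S') :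
    ∀ v ∈ V, ∀ w ∈ W, v * w = w * v := by
  suffices hle : W ≤ centralizer (V : Set G) from fun v hv w hw => mem_centralizer_iff.1 (hle hw) v hv
  by_contra hn
  have hn' : ¬ V ≤ centralizer (W : Set G) := fun h1 => hn (le_centralizer_iff.1 h1)
  have key : ∀ {A B : Subgroup G}, A ≤ normalizer (B : Set G) → B ≤ normalizer (A : Set G) →
      ∀ a ∈ A, ∀ b ∈ B, ⁅a, b⁆ ∈ A ∧ ⁅a, b⁆ ∈ B := by
    intro A B h1 h2 a ha b hb
    rw [commutatorElement_def]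
    refine ⟨?_, mul_mem ((mem_normalizer_iff.1 (h1 ha) b).1 hb) (inv_mem hb)⟩
    rw [mul_assoc, mul_assoc, ← mul_assoc b]
    exact mul_mem ha ((mem_normalizer_iff.1 (h2 hb) _).1 (inv_mem ha))
  have h1 := hV.good W hWS (fun s hs t ht v hv =>
    hW.comm hs (key (hWS.trans hV.norm) (hVS.trans hW.norm) t ht v hv).1) hn
  have h2 := hW.good V hVS (fun s hs t ht v hv =>
    hV.comm hs (key (hVS.trans hW.norm) (hWS.trans hV.norm) t ht v hv).1) hn'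
  exact lt_asymm h1 h2

end GoodSub

/-- The data of the group part: the subgroup `N`, a conjugating element `p` of odd order inverted by
`a ∈ N`, `D ≤ N`, and the map `tau` on the second subgroup `D'` modulo `Y = N ⊓ N^p`. -/
structure GData (S N : Subgroup G) where
  a : G
  p : G
  tau : G → G
  D : Subgroup G
  D' : Subgroup G
  Y : Subgroup G
  D'_eq : D' = D.map (MulAut.conj p).toMonoidHom
  D_le : D ≤ N
  D'_le : D' ≤ S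
  Y_le : Y ≤ D ⊓ D'
  D'_abelian : ∀ f ∈ D', ∀ g ∈ D', f * g = g * f
  D'_sq : ∀ f ∈ D', f * f = 1
  a_mem : a ∈ N
  a_not : a ∉ D
  -- the configuration of `D'` on `N`
  ne_top : D ≠ N
  inv : ∀ f ∈ D', ∀ v ∈ N, ⁅f, v⁆ ∈ D
  inv' : ∀ f ∈ D', ∀ u ∈ D, ⁅f, u⁆ ∈ Y
  fixed : ∀ v ∈ N, (∀ f ∈ D', f * v = v * f) ↔ v ∈ Y
  faith : ∀ v ∈ N, v ∉ D → ∀ f ∈ D', ⁅f, v⁆ ∈ Y → f ∈ Y
  surj : ∀ v ∈ N, v ∉ D → ∀ u ∈ D, ∃ f ∈ D', ⁅f, v⁆ * u⁻¹ ∈ Y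
  big : D.relIndex N ^ 2 * Nat.card Y < Nat.card D
  -- the map `tau`
  tau_mem : ∀ f ∈ D', tau f ∈ D'
  tau_mul : ∀ f ∈ D', ∀ g ∈ D', (tau (f * g))⁻¹ * (tau f * tau g) ∈ Y
  tau_adj : ∀ f ∈ D', ∀ g ∈ D', ⁅tau f, ⁅g, a⁆⁆ = ⁅f, ⁅tau g, a⁆⁆
  tau_inj : ∀ f ∈ D', tau f ∈ Y → f ∈ Y
  tau_inj' : ∀ f ∈ D', tau f * f ∈ Y → f ∈ Y
  tau_normal : ∀ K : Subgroup G, K.Normal → K ≤ S → ∀ f ∈ D' ⊓ K ⊔ Y, tau f ∈ D' ⊓ K ⊔ Y
  z_norm : ∀ z ∈ Cfsg.pCore 2 G, Commute z p → ∀ f ∈ D', z * f * z⁻¹ ∈ D'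
  z_norm_Y : ∀ z ∈ Cfsg.pCore 2 G, Commute z p → ∀ y ∈ Y, z * y * z⁻¹ ∈ Y
  tau_fixed : ∀ z ∈ Cfsg.pCore 2 G, Commute z p → ∀ f ∈ D',
    (tau (z * f * z⁻¹))⁻¹ * (z * tau f * z⁻¹) ∈ Y
  a_fixed : ∀ z ∈ Cfsg.pCore 2 G, Commute z p → ⁅z, a⁆ ∈ Y
  decomp : ∀ K : Subgroup G, K.Normal → K ≤ S → ∀ r ∈ K, ∃ d ∈ D ⊓ K ⊔ Y, ∃ f ∈ D' ⊓ K ⊔ Y, ∃ z ∈ K,
    Commute z p ∧ r = d * f * z
  dvd : ∀ K : Subgroup G, K.Normal → K ≤ S → ∀ v ∈ N, v ∉ D → ∀ u ∈ (N ⊓ K : Subgroup G),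
    ∃ f ∈ D' ⊓ K, ⁅f, v⁆ * u⁻¹ ∈ Y
  /-- Good subgroups of `D` normalised by `S` are normal. -/
  small : ∀ X : Subgroup G, X ≤ D → GoodSub S X → X.Normal

end CfsgLib.SFour
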