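import Cfsg.Agent.Lib.SFour.Good

set_option autoImplicit false
set_option linter.unusedSectionVars false

/-! Modules without quadratic offender. -/

namespace CfsgLib.SFour

open Subgroup CfsgLib.Techniques CfsgLib.Techniques.SThree

universe u v

variable {X : Type u} [Group X] {V : Type v} [AddCommGroup V]

/-- `W` is invariant under `S` and no subgroup of `S` is a quadratic offender on it. -/
structure GoodMod (ρ : X →* AddMonoid.End V) (S : Subgroup X) (W : AddSubgroup V) : Prop where
  inv : ∀ s ∈ S, ∀ w ∈ W, ρ s w ∈ W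
  good : ∀ T : Subgroup X, T ≤ S → (∀ t ∈ T, ∀ w ∈ W, ρ t w - w ∈ fixedPts ρ T) →
    ¬ T ≤ ptStab ρ W → (ptStab ρ W).relIndex T < (fixedPts ρ T).relIndex W

theorem GoodMod.mono {ρ : X →* AddMonoid.End V} {S S' : Subgroup X} {W : AddSubgroup V}
    (h : GoodMod ρ S W) (hS : S' ≤ S) : GoodMod ρ S' W :=
  ⟨fun s hs => h.inv s (hS hs), fun T hT => h.good T (hT.trans hS)⟩

/-- The span of the translates of `W`. -/
def closureMod (ρ : X →* AddMonoid.End V) (W : AddSubgroup V) : AddSubgroup V :=
  AddSubgroup.closure {v | ∃ x : X, ∃ w ∈ W, ρ x w = v}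

theorem le_closureMod (ρ : X →* AddMonoid.End V) (W : AddSubgroup V) : W ≤ closureMod ρ W :=
  fun w hw => AddSubgroup.subset_closure ⟨1, w, hw, act_one ρ w⟩

end CfsgLib.SFour
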