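import Cfsg.Agent.Lib.SFour.Degree

set_option autoImplicit false
set_option linter.unusedSectionVars false
set_option linter.style.haveILetI false

/-! No group without a section `S₃` and with trivial 2-core carries a configuration. -/

namespace CfsgLib.SFour

open Subgroup CfsgLib.Techniques CfsgLib.Techniques.SThree CfsgLib.LLemma

universe u v

variable {X : Type u} [Group X] {V : Type v} [AddCommGroup V]

theorem moveSub_le_iff {ρ : X →* AddMonoid.End V} {x : X} {Z : AddSubgroup V} {c : V}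
    (hc : ρ x c - c ∈ Z) (h : ∀ v ∈ Z, ρ x v - v ∈ Z) :
    ∀ v ∈ Z ⊔ AddSubgroup.zmultiples c, ρ x v - v ∈ Z := by
  intro v hv
  have hle : Z ⊔ AddSubgroup.zmultiples c ≤ moveInto ρ x Z :=
    sup_le h (AddSubgroup.zmultiples_le.2 hc)
  exact hle hv

theorem main_false [Finite X] [Finite V] (ρ : X →* AddMonoid.End V) (hρ : ∀ x, ρ x = 1 → x = 1)
    (hV2 : ∀ v : V, v + v = 0) (hS : S3Free X) (hO : Cfsg.pCore 2 X = ⊥) (P : Sylow 2 X)
    {T : Subgroup X} {U Y : AddSubgroup V} (h : Config ρ T U Y) (hTP : T ≤ P)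
    (hover : ∀ H : Subgroup X, (P : Subgroup X) ≤ H → H ≠ ⊤ → T ≤ Cfsg.pCoreOf 2 H)
    (hctrl : ∃ M : Subgroup X, (P : Subgroup X) ≤ M ∧ M ≠ ⊤ ∧ ∀ A : Subgroup X, A ≤ P → ∀ g : X,
      (∀ a ∈ A, g * a * g⁻¹ ∈ (P : Subgroup X)) → ∃ m ∈ M, ∀ a ∈ A, g * a * g⁻¹ = m * a * m⁻¹) :
    False := by
  classical
  haveI : Fact (Nat.Prime 2) := ⟨Nat.prime_two⟩
  obtain ⟨M, hPM, hMtop, hM⟩ := hctrl
  obtain ⟨t₁, ht₁, ht₁'⟩ := h.exists_move
  have hTne : T ≠ ⊥ := fun e => ht₁' (by rw [e, Subgroup.mem_bot] at ht₁; rw [ht₁, map_one])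
  have hcoreP : ∀ {H : Subgroup X}, (P : Subgroup X) ≤ H → Cfsg.pCoreOf 2 H ≤ P := fun hPH =>
    pCoreOf_le_of_maximal hPH P.2 fun Q _ hQ hle => P.is_maximal' hQ hle
  have hsyl : ∀ {H Q : Subgroup X}, (P : Subgroup X) ≤ H → Q ≤ H → IsPGroup 2 Q →
      ∃ y ∈ H, ∀ q ∈ Q, y * q * y⁻¹ ∈ (P : Subgroup X) := by
    intro H Q hPH hQH hQ
    obtain ⟨y, hy, hle⟩ := exists_conj_le_sylow_of hQH hQ hPH P.2 (not_dvd_relIndex_sylow P hPH)
    exact ⟨y, hy, fun q hq => hle ⟨q, hq, rfl⟩⟩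
  have hTp : IsPGroup 2 T := P.2.to_le hTP
  -- the join of the translates in `P`
  set O : Subgroup X := ⨆ m : M, T.map (MulAut.conj (m : X)).toMonoidHom with hOdef
  have hTO : T ≤ O := by
    refine le_trans ?_ (le_iSup _ (1 : M))
    rw [OneMemClass.coe_one, map_conj_one]
  have hOcore : ∀ {H : Subgroup X}, (P : Subgroup X) ≤ H → H ≠ ⊤ → M ≤ H → O ≤ Cfsg.pCoreOf 2 H := by
    intro H hPH hH hMH
    refine iSup_le fun m => ?_
    exact (Subgroup.map_mono (hover H hPH hH)).trans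
      (map_conj_eq_self_iff.2 (le_normalizer_pCoreOf H (hMH m.2))).le
  have hOP : O ≤ P := (hOcore hPM hMtop le_rfl).trans (hcoreP hPM)
  have helem : ∀ t ∈ T, ∀ g : X, g * t * g⁻¹ ∈ (P : Subgroup X) → g * t * g⁻¹ ∈ O := by
    intro t ht g hg
    obtain ⟨m, hm, e⟩ := hM (zpowers t) (zpowers_le.2 (hTP ht)) g (by
      rintro _ ⟨i, rfl⟩
      show g * t ^ i * g⁻¹ ∈ _
      rw [← conj_zpow]; exact zpow_mem hg i)
    rw [e t (mem_zpowers t)]
    exact le_iSup (fun m : M => T.map (MulAut.conj (m : X)).toMonoidHom) ⟨m, hm⟩ ⟨t, ht, rfl⟩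
  have hMO : ∀ m ∈ M, ∀ o ∈ O, m * o * m⁻¹ ∈ O := by
    intro m hm
    have hle : O ≤ O.comap (MulAut.conj m).toMonoidHom := by
      refine iSup_le fun n => ?_
      rintro _ ⟨t, ht, rfl⟩
      exact le_iSup (fun m : M => T.map (MulAut.conj (m : X)).toMonoidHom) ⟨m * n, mul_mem hm n.2⟩
        ⟨t, ht, by simp [mul_assoc]⟩
    exact fun o ho => hle ho
  -- the involutions in the centre of `O`
  let A : Subgroup X :=
    { carrier := {x | x ∈ O ∧ x * x = 1 ∧ ∀ o ∈ O, x * o = o * x}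
      one_mem' := ⟨one_mem O, one_mul 1, fun o _ => by rw [one_mul, mul_one]⟩
      mul_mem' := by
        rintro x y ⟨hx, hx2, hxc⟩ ⟨hy, hy2, hyc⟩
        refine ⟨mul_mem hx hy, ?_, fun o ho => by rw [mul_assoc, hyc o ho, ← mul_assoc, hxc o ho, mul_assoc]⟩
        rw [mul_assoc, ← mul_assoc y, ← hxc y hy, mul_assoc x y y, hy2, mul_one, hx2]
      inv_mem' := by
        rintro x ⟨hx, hx2, hxc⟩
        rw [show x⁻¹ = x from inv_eq_of_mul_eq_one_right hx2]
        exact ⟨hx, hx2, hxc⟩ }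
  have hAO : A ≤ O := fun x hx => hx.1
  have hAne : A ≠ ⊥ := by
    intro e
    have hOne : O ≠ ⊥ := fun e' => hTne (le_bot_iff.1 (e' ▸ hTO))
    haveI : Nontrivial O := O.nontrivial_iff_ne_bot.2 hOne
    haveI := (P.2.to_le hOP).center_nontrivial
    obtain ⟨k, hk⟩ := IsPGroup.iff_card.1 ((P.2.to_le hOP).to_subgroup (Subgroup.center O))
    have hk1 : k ≠ 0 := by
      rintro rfl
      rw [pow_zero] at hk
      exact (Finite.one_lt_card (α := Subgroup.center O)).ne' hk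
    obtain ⟨z, hz⟩ := exists_prime_orderOf_dvd_card' (G := Subgroup.center O) 2 (hk ▸ dvd_pow_self 2 hk1)
    have hz2 : z * z = 1 := by rw [← pow_two, ← hz, pow_orderOf_eq_one]
    have hzA : ((z : O) : X) ∈ A := ⟨(z : O).2,
      congrArg (fun w : Subgroup.center O => ((w : O) : X)) hz2,
      fun o ho => congrArg Subtype.val (Subgroup.mem_center_iff.1 z.2 ⟨o, ho⟩).symm⟩
    rw [e, Subgroup.mem_bot] at hzA
    have : z = 1 := Subtype.ext (Subtype.ext hzA)
    rw [this, orderOf_one] at hz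
    exact absurd hz (by norm_num)
  have hclosed : ∀ x ∈ A, ∀ g : X, g * x * g⁻¹ ∈ (P : Subgroup X) → g * x * g⁻¹ ∈ A := by
    intro x hx g hg
    obtain ⟨m, hm, e⟩ := hM (zpowers x) (zpowers_le.2 (hOP (hAO hx))) g (by
      rintro _ ⟨i, rfl⟩
      show g * x ^ i * g⁻¹ ∈ _
      rw [← conj_zpow]; exact zpow_mem hg i)
    rw [e x (mem_zpowers x)]
    obtain ⟨h1, h2, h3⟩ := hx
    refine ⟨hMO m hm x h1, by rw [show m * x * m⁻¹ * (m * x * m⁻¹) = m * (x * x) * m⁻¹ by group, h2, mul_one,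
      mul_inv_cancel], fun o ho => ?_⟩
    have h4 := h3 _ (hMO m⁻¹ (inv_mem hm) o ho)
    calc m * x * m⁻¹ * o = m * (x * (m⁻¹ * o * m⁻¹⁻¹)) * m⁻¹ := by group
      _ = o * (m * x * m⁻¹) := by rw [h4]; group
  have hAnorm : ∀ y : X, (∀ a ∈ A, y * a * y⁻¹ ∈ A) → y ∈ normalizer (A : Set X) := fun y hy =>
    Subgroup.mem_normalizer_fintype fun a ha => hy a ha
  set K := normalizer (A : Set X) with hK
  have hPK : (P : Subgroup X) ≤ K := fun s hs => hAnorm s fun a ha =>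
    hclosed a ha s (mul_mem (mul_mem hs (hOP (hAO ha))) (inv_mem hs))
  have hMK : M ≤ K := fun m hm => hAnorm m fun a ha =>
    hclosed a ha m (hOP (hMO m hm a (hAO ha)))
  have hKtop : K ≠ ⊤ := fun e => hAne (le_bot_iff.1 (hO ▸
    CfsgLib.PCore.le_pCore (normalizer_eq_top_iff.1 e) (P.2.to_le (hAO.trans hOP))))
  -- a translate of `T` meeting `P` nontrivially lies in `P`
  have D : ∀ g : X, ∀ t ∈ T, t ≠ 1 → g * t * g⁻¹ ∈ (P : Subgroup X) →
      T.map (MulAut.conj g).toMonoidHom ≤ P := by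
    intro g t ht ht1 hgt
    set A' := A.map (MulAut.conj g⁻¹).toMonoidHom with hA'
    have hA'mem : ∀ {b}, b ∈ A' → g * b * g⁻¹ ∈ A := by
      rintro _ ⟨a, ha, rfl⟩
      simpa [mul_assoc] using ha
    have htA' : ∀ b ∈ A', b * t = t * b := fun b hb => by
      have := (hA'mem hb).2.2 _ (helem t ht g hgt)
      have e : g * (b * t) * g⁻¹ = g * (t * b) * g⁻¹ := by
        calc g * (b * t) * g⁻¹ = g * b * g⁻¹ * (g * t * g⁻¹) := by group
          _ = g * t * g⁻¹ * (g * b * g⁻¹) := this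
          _ = g * (t * b) * g⁻¹ := by group
      exact mul_left_cancel (mul_right_cancel e)
    set P' := T ⊔ A' with hP'
    have hP'c : P' ≤ centralizer ({t} : Set X) := sup_le
      (fun s hs => mem_centralizer_iff.2 fun x hx => by
        rw [Set.mem_singleton_iff.1 hx]; exact h.comm t ht s hs)
      fun b hb => mem_centralizer_iff.2 fun x hx => by
        rw [Set.mem_singleton_iff.1 hx]; exact (htA' b hb).symm
    have hTP' : T ≤ P' := le_sup_left
    set R := Cfsg.pCoreOf 2 P' with hR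
    have hRp : IsPGroup 2 R := pCoreOf_isPGroup P'
    have hAp : IsPGroup 2 A' := (P.2.to_le (hAO.trans hOP)).map _
    have hRA : IsPGroup 2 (A' ⊔ R : Subgroup X) :=
      isPGroup_sup hAp hRp (le_sup_right.trans (le_normalizer_pCoreOf P'))
    obtain ⟨y, -, hy⟩ := hsyl (H := ⊤) le_top le_top hRA
    have hyA : ∀ b ∈ A', y * b * y⁻¹ ∈ A := fun b hb => by
      have h1 := hclosed _ (hA'mem hb) (y * g⁻¹)
        (by rw [show y * g⁻¹ * (g * b * g⁻¹) * (y * g⁻¹)⁻¹ = y * b * y⁻¹ by group]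
            exact hy b (Subgroup.mem_sup_left hb))
      rwa [show y * g⁻¹ * (g * b * g⁻¹) * (y * g⁻¹)⁻¹ = y * b * y⁻¹ by group] at h1
    have hyA' : ∀ a ∈ A, y⁻¹ * a * y ∈ A' := by
      have h1 : y * g⁻¹ ∈ K := hAnorm _ fun a ha => by
        have h2 := hyA _ (show g⁻¹ * a * g⁻¹⁻¹ ∈ A' from ⟨a, ha, rfl⟩)
        rwa [show y * g⁻¹ * a * (y * g⁻¹)⁻¹ = y * (g⁻¹ * a * g⁻¹⁻¹) * y⁻¹ by group]
      intro a ha
      refine ⟨(y * g⁻¹)⁻¹ * a * (y * g⁻¹), ?_, ?_⟩
      · have := (mem_normalizer_iff.1 (K.inv_mem h1) a).1 ha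
        rwa [inv_inv] at this
      · show g⁻¹ * _ * g⁻¹⁻¹ = _
        group
    have hRn : ∀ r ∈ R, ∀ b ∈ A', r * b * r⁻¹ ∈ A' := by
      intro r hr b hb
      have h2 := (mem_normalizer_iff.1 (hPK (hy r (Subgroup.mem_sup_right hr))) _).1 (hyA b hb)
      have h3 := hyA' _ h2
      rwa [show y⁻¹ * (y * r * y⁻¹ * (y * b * y⁻¹) * (y * r * y⁻¹)⁻¹) * y = r * b * r⁻¹ by group] at h3
    obtain ⟨w, -, hw⟩ := hsyl (H := ⊤) le_top le_top
      (isPGroup_sup hTp hRp ((le_sup_left : T ≤ P').trans (le_normalizer_pCoreOf P')))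
    have hBT : ∀ b ∈ A', b ∈ R → ∀ u ∈ T, b * u = u * b := by
      intro b hb hbR u hu
      have h1 := hclosed _ (hA'mem hb) (w * g⁻¹)
        (by rw [show w * g⁻¹ * (g * b * g⁻¹) * (w * g⁻¹)⁻¹ = w * b * w⁻¹ by group]
            exact hw b (Subgroup.mem_sup_right hbR))
      rw [show w * g⁻¹ * (g * b * g⁻¹) * (w * g⁻¹)⁻¹ = w * b * w⁻¹ by group] at h1
      have := h1.2.2 _ (helem u hu w (hw u (Subgroup.mem_sup_left hu)))
      have e : w * (b * u) * w⁻¹ = w * (u * b) * w⁻¹ := by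
        calc w * (b * u) * w⁻¹ = w * b * w⁻¹ * (w * u * w⁻¹) := by group
          _ = w * u * w⁻¹ * (w * b * w⁻¹) := this
          _ = w * (u * b) * w⁻¹ := by group
      exact mul_left_cancel (mul_right_cancel e)
    -- `T` lies in the 2-core of `P'`
    have hTR : T ≤ R := by
      set ρ' := ρ.comp P'.subtype
      set T' := T.subgroupOf P' with hT'
      have h' : Config ρ' T' U Y := h.comp P'.subtype P'.subtype_injective (map_subgroupOf_eq_of_le hTP')
      have hρ' : ∀ x, ρ' x = 1 → x = 1 := fun x hx => Subtype.ext (hρ _ hx)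
      set N := normalClosure (T' : Set P') with hN
      have hstab : N ≤ setStab ρ' U := h'.stab_of_central hV2 (hS.sub P') (t := ⟨t, hTP' ht⟩) ht
        (fun e => ht1 (hρ _ e)) fun x => Subtype.ext
          (mem_centralizer_iff.1 (hP'c x.2) t (Set.mem_singleton t)).symm
      have hTN : T' ≤ N := le_normalClosure
      have h'' : Config (ρ'.comp N.subtype) (T'.subgroupOf N) U Y :=
        h'.comp N.subtype N.subtype_injective (map_subgroupOf_eq_of_le hTN)
      have hcore : (Cfsg.pCore 2 N).map N.subtype ≤ Cfsg.pCore 2 P' :=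
        (CfsgLib.PCore.map_pCore_subtype_of_normal N).le.trans inf_le_right
      have hle := h''.le_pCore_of_central hV2 ((hS.sub P').sub N) (fun x hx => Subtype.ext (hρ' _ hx))
        (fun x v hv => hstab x.2 v hv) ?_
      · intro u hu
        exact ⟨⟨u, hTP' hu⟩, hcore ⟨⟨⟨u, hTP' hu⟩, hTN hu⟩, hle hu, rfl⟩, rfl⟩
      intro s hs x
      set s₀ : X := ((s : P') : X)
      have hsT : s₀ ∈ T := hs.1
      have hsR : s₀ ∈ R := ⟨(s : P'), hcore ⟨s, hs.2, rfl⟩, rfl⟩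
      set Sg : Subgroup X := closure {z | ∃ a ∈ A', ∃ u ∈ T, a * u * a⁻¹ = z} with hSg
      have hcs : Sg ≤ centralizer ({s₀} : Set X) := by
        refine (closure_le _).2 ?_
        rintro _ ⟨a, ha, u, hu, rfl⟩
        refine mem_centralizer_iff.2 fun z hz => ?_
        rw [Set.mem_singleton_iff.1 hz]
        set b := a⁻¹ * s₀ * a * s₀⁻¹ with hb
        have hbA : b ∈ A' := by
          rw [hb, mul_assoc, mul_assoc]
          exact mul_mem (inv_mem ha) (by rw [← mul_assoc]; exact hRn _ hsR a ha)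
        have hbR : b ∈ R := mul_mem (by
          have := (mem_normalizer_iff.1 (le_normalizer_pCoreOf P'
            (inv_mem ((le_sup_right : A' ≤ P') ha))) s₀).1 hsR
          rwa [inv_inv] at this) (inv_mem hsR)
        have hbu : b * u = u * b := hBT b hbA hbR u hu
        have hsu : s₀ * u = u * s₀ := h.comm _ hsT u hu
        calc s₀ * (a * u * a⁻¹) = a * ((b * s₀) * u) * a⁻¹ := by rw [hb]; group
          _ = a * (u * (b * s₀)) * a⁻¹ := by rw [mul_assoc b, hsu, ← mul_assoc b, hbu, mul_assoc u]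
          _ = a * u * a⁻¹ * s₀ := by rw [hb]; group
      have hSgn : P' ≤ normalizer (Sg : Set X) := by
        refine sup_le ((show T ≤ Sg from fun u hu => subset_closure ⟨1, one_mem _, u, hu, by group⟩).trans le_normalizer)
          fun a ha => CfsgLib.Involutions.mem_normalizer_closure ?_
        rintro _ ⟨a', ha', u, hu, rfl⟩
        exact subset_closure ⟨a * a', mul_mem ha ha', u, hu, by group⟩
      haveI : (Sg.subgroupOf P').Normal := ⟨fun z hz q => (mem_normalizer_iff.1 (hSgn q.2) _).1 hz⟩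
      have hNSg : N ≤ Sg.subgroupOf P' := normalClosure_le_normal fun u hu =>
        subset_closure ⟨1, one_mem _, (u : X), hu, by rw [one_mul, inv_one, mul_one]; rfl⟩
      exact Subtype.ext (Subtype.ext
        (mem_centralizer_iff.1 (hcs (hNSg x.2)) s₀ (Set.mem_singleton s₀)).symm)
    have hTA' : ∀ u ∈ T, ∀ b ∈ A', u * b = b * u := by
      intro u hu b hb
      have h1 := (hyA b hb).2.2 _ (helem u hu y (hy u (Subgroup.mem_sup_right (hTR hu))))
      have e : y * (b * u) * y⁻¹ = y * (u * b) * y⁻¹ := by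
        calc y * (b * u) * y⁻¹ = y * b * y⁻¹ * (y * u * y⁻¹) := by group
          _ = y * u * y⁻¹ * (y * b * y⁻¹) := h1
          _ = y * (u * b) * y⁻¹ := by group
      exact (mul_left_cancel (mul_right_cancel e)).symm
    have hgK : T.map (MulAut.conj g).toMonoidHom ≤ K := by
      rintro _ ⟨u, hu, rfl⟩
      refine hAnorm _ fun a ha => ?_
      show g * u * g⁻¹ * a * (g * u * g⁻¹)⁻¹ ∈ A
      have h1 := hTA' u hu (g⁻¹ * a * g⁻¹⁻¹) ⟨a, ha, rfl⟩
      rw [show g * u * g⁻¹ * a * (g * u * g⁻¹)⁻¹ = g * (u * (g⁻¹ * a * g⁻¹⁻¹) * u⁻¹) * g⁻¹ by group, h1,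
        mul_inv_cancel_right, show g * (g⁻¹ * a * g⁻¹⁻¹) * g⁻¹ = a by group]
      exact ha
    obtain ⟨k, hk, hkP⟩ := hsyl hPK hgK (hTp.map _)
    rintro _ ⟨u, hu, rfl⟩
    have h1 : k * (g * u * g⁻¹) * k⁻¹ ∈ O := by
      have := helem u hu (k * g) (by
        rw [show k * g * u * (k * g)⁻¹ = k * (g * u * g⁻¹) * k⁻¹ by group]
        exact hkP _ ⟨u, hu, rfl⟩)
      rwa [show k * g * u * (k * g)⁻¹ = k * (g * u * g⁻¹) * k⁻¹ by group] at this
    exact hcoreP hPK ((mem_normalizer_iff.1 (le_normalizer_pCoreOf K hk) _).2 (hOcore hPK hKtop hMK h1))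
  -- the largest invariant subgroup in `U` with trivial factors
  obtain ⟨Z, hZ⟩ := Set.Finite.exists_maximal
    (s := {Z : AddSubgroup V | Z ≤ U ∧ ∃ hZ : ∀ x : X, ∀ v ∈ Z, ρ x v ∈ Z, T ≤ twoKer (subRep ρ Z hZ)})
    (Set.toFinite _) ⟨⊥, bot_le, fun x v hv => by
      rw [AddSubgroup.mem_bot] at hv ⊢; rw [hv, map_zero],
      fun u _ => ker_le_twoKer _ (AddMonoidHom.ext fun v => Subtype.ext (by
        have h1 : (v : V) = 0 := AddSubgroup.mem_bot.1 v.2
        show ρ u (v : V) = (v : V)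
        rw [h1, map_zero]))⟩
  obtain ⟨hZU, hZi, hTZ⟩ := hZ.prop
  have hUZY : ¬ U ≤ Z ⊔ Y := by
    intro hle
    set τ := quotRep ρ Z hZi
    have hker : T ⊓ twoKer τ = ⊥ := eq_bot_iff.2 fun u hu =>
      (twoKer_eq_bot hρ hO) ▸ inf_twoKer_le hV2 ⟨hTZ hu.1, hu.2⟩
    have hfixZ : ∀ s ∈ T, ∀ u ∈ U, ρ s u - u ∈ Z := by
      intro s hs u hu
      obtain ⟨z, hz, y, hy, rfl⟩ := AddSubgroup.mem_sup.1 (hle hu)
      rw [map_add, h.fixY hs hy, add_sub_add_right_eq_sub]
      exact Z.sub_mem (hZi s z hz) hz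
    have hq : Quad τ T := fun s hs v => QuotientAddGroup.induction_on v fun w r hr =>
      QuotientAddGroup.eq_iff_sub_mem.2 (hfixZ r hr _ (h.inv s hs w))
    rcases cost _ τ (fun v => QuotientAddGroup.induction_on v fun w =>
        congrArg QuotientAddGroup.mk (hV2 w)) hS T hq with hle' | hlt
    · exact hTne (le_bot_iff.1 (hker ▸ le_inf le_rfl hle'))
    · rw [hker, Subgroup.card_bot, mul_one] at hlt
      have h1 : Nat.card U ≤ Nat.card (fixedPts τ T) * Nat.card Z := by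
        rw [← SThree.card_preimage Z]
        exact AddSubgroup.card_le_of_le fun u hu s hs => QuotientAddGroup.eq_iff_sub_mem.2 (hfixZ s hs u hu)
      have h2 : Nat.card T * Nat.card U < Nat.card U * U.index := by
        rw [U.card_mul_index, Z.card_eq_card_quotient_mul_card_addSubgroup]
        exact (Nat.mul_le_mul_left _ h1).trans_lt (by
          rw [← mul_assoc]; exact Nat.mul_lt_mul_of_pos_right hlt Nat.card_pos)
      rw [mul_comm] at h2
      have h3 := h.big_of_faithful hρ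
      have h4 := Nat.lt_of_mul_lt_mul_left h2
      have h5 : U.index ≤ U.index ^ 2 := Nat.le_self_pow (by norm_num) _
      omega
  have hfixU : ∀ v, (∀ s ∈ T, ρ s v - v ∈ Z) → v ∈ U := fun v hv => by
    by_contra hvU
    refine hUZY fun u hu => ?_
    obtain ⟨s, hs, e⟩ := h.surj v hvU u hu
    have e1 : u = (ρ s v - v) + -(ρ s v - v - u) := by abel
    rw [e1]
    exact add_mem (AddSubgroup.mem_sup_left (hv s hs)) (neg_mem (AddSubgroup.mem_sup_right e))
  -- a fixed vector modulo `Z`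
  obtain ⟨a, ha⟩ := h.exists_not_mem
  obtain ⟨c', hc'0, hc'⟩ := exists_fixed_ne_zero (ρ := quotRep ρ Z hZi)
    (fun v => QuotientAddGroup.induction_on v fun w => congrArg QuotientAddGroup.mk (hV2 w))
    P.2 (v₀ := QuotientAddGroup.mk a) fun e => ha (hZU ((QuotientAddGroup.eq_zero_iff a).1 e))
  obtain ⟨c, rfl⟩ := QuotientAddGroup.mk_surjective c'
  have hcZ : c ∉ Z := fun hc => hc'0 ((QuotientAddGroup.eq_zero_iff c).2 hc)
  have hcP : ∀ s ∈ (P : Subgroup X), ρ s c - c ∈ Z := fun s hs => QuotientAddGroup.eq_iff_sub_mem.1 (hc' s hs)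
  have hcU : c ∈ U := hfixU c fun s hs => hcP s (hTP hs)
  set Hc := stabMod ρ Z hZi c with hHc
  have hPHc : (P : Subgroup X) ≤ Hc := hcP
  have hHctop : Hc ≠ ⊤ := by
    intro e
    have hall : ∀ x, ρ x c - c ∈ Z := fun x => (e ▸ mem_top x : x ∈ Hc)
    have hmove : ∀ x, ∀ v ∈ Z ⊔ AddSubgroup.zmultiples c, ρ x v - v ∈ Z := fun x =>
      moveSub_le_iff (hall x) fun v hv => Z.sub_mem (hZi x v hv) hv
    have hi : ∀ x : X, ∀ v ∈ Z ⊔ AddSubgroup.zmultiples c, ρ x v ∈ Z ⊔ AddSubgroup.zmultiples c :=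
      fun x v hv => by
        have h1 := add_mem (AddSubgroup.mem_sup_left (hmove x v hv)) hv
        rwa [sub_add_cancel] at h1
    refine hcZ (hZ.le_of_ge ⟨sup_le hZU (AddSubgroup.zmultiples_le.2 hcU), hi,
      hTZ.trans (le_twoKer inferInstance fun x hx => ?_)⟩ le_sup_left
      (AddSubgroup.mem_sup_right (AddSubgroup.mem_zmultiples c)))
    obtain ⟨k, hk⟩ := exists_pow_of_mem_twoKer hx
    set y := x ^ 2 ^ k with hy
    refine ⟨k + 1, AddMonoidHom.ext fun v => Subtype.ext ?_⟩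
    show ρ (x ^ 2 ^ (k + 1)) v = v
    rw [pow_succ 2 k, pow_mul, ← hy, pow_two]
    refine sub_eq_zero.1 (AddSubgroup.mem_bot.1 (sq_move hV2 (hmove y) (C := ⊥) (fun z hz => ?_) _ v.2))
    rw [AddSubgroup.mem_bot, sub_eq_zero]
    exact congrArg Subtype.val (DFunLike.congr_fun hk (⟨z, hz⟩ : Z))
  have hTHc := hover Hc hPHc hHctop
  -- a bad pair of translates
  have hne : {g : X | ¬ IsPGroup 2 (T ⊔ T.map (MulAut.conj g).toMonoidHom : Subgroup X)}.Nonempty := by
    have ht10 : t₁ ∉ Cfsg.pCore 2 X := fun hm => ht₁' (by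
      rw [hO, Subgroup.mem_bot] at hm; rw [hm, map_one])
    obtain ⟨g, hg⟩ := exists_not_isPGroup ht10
    refine ⟨g, fun hp => hg (hp.to_le ((closure_le _).2 ?_))⟩
    rintro x (rfl | rfl)
    · exact Subgroup.mem_sup_left ht₁
    · exact Subgroup.mem_sup_right ⟨t₁, ht₁, rfl⟩
  obtain ⟨g, hg, hmin⟩ := Set.exists_min_image _
    (fun g : X => Nat.card (T ⊔ T.map (MulAut.conj g).toMonoidHom : Subgroup X)) (Set.toFinite _) hne
  set T' := T.map (MulAut.conj g).toMonoidHom with hT'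
  have hnot : ¬ T' ≤ Hc := fun hle => hg ((isPGroup_sup (hTp.map _) (pCoreOf_isPGroup Hc)
    (hle.trans (le_normalizer_pCoreOf Hc))).to_le (sup_le (hTHc.trans le_sup_right) le_sup_left))
  have h' := h.conj g
  set U' := U.map (ρ g : V →+ V)
  set Y' := Y.map (ρ g : V →+ V)
  -- a zero of the quadratic map
  letI : CommGroup T' := { (inferInstance : Group T') with
    mul_comm := fun s r => Subtype.ext (h'.comm s s.2 r r.2) }
  haveI : Finite (Additive T') := inferInstanceAs (Finite T')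
  have hG2 : ∀ z : Additive T', z + z = 0 := fun z =>
    Additive.toMul.injective (Subtype.ext (h'.sq _ (Additive.toMul z).2))
  have hdeg : DegLE 2 fun z : Additive T' => ρ ((Additive.toMul z : T') : X) c := by
    intro r s x z
    set r₀ : X := ((Additive.toMul r : T') : X)
    set s₀ : X := ((Additive.toMul s : T') : X)
    set z₀ : X := ((Additive.toMul z : T') : X)
    set x₀ : X := ((Additive.toMul x : T') : X)
    have key : ∀ w : X, ρ (w * s₀ * r₀) c - ρ (w * s₀) c - (ρ (w * r₀) c - ρ w c) =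
        ρ w (ρ s₀ (ρ r₀ c - c) - (ρ r₀ c - c)) := fun w => by
      simp only [map_sub, ← act_mul, mul_assoc]
    show ρ (z₀ * x₀ * s₀ * r₀) c - ρ (z₀ * x₀ * s₀) c - (ρ (z₀ * x₀ * r₀) c - ρ (z₀ * x₀) c) =
      ρ (z₀ * s₀ * r₀) c - ρ (z₀ * s₀) c - (ρ (z₀ * r₀) c - ρ z₀ c)
    have hy : ρ s₀ (ρ r₀ c - c) - (ρ r₀ c - c) ∈ Y' :=
      h'.inv' _ (Additive.toMul s).2 _ (h'.inv _ (Additive.toMul r).2 c)
    rw [key, key, h'.fixY (mul_mem (Additive.toMul z).2 (Additive.toMul x).2) hy,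
      h'.fixY (Additive.toMul z).2 hy]
  have hcardT : Nat.card T' = Nat.card T := card_map_conj T g
  obtain ⟨z, hz0, hz⟩ := exists_zero_ne (Q := V ⧸ U) hG2
    (fun v => QuotientAddGroup.induction_on v fun w => congrArg QuotientAddGroup.mk (hV2 w)) 2
    (fun z : Additive T' => QuotientAddGroup.mk' U (ρ ((Additive.toMul z : T') : X) c))
    (hdeg.comp (QuotientAddGroup.mk' U))
    ((QuotientAddGroup.eq_zero_iff _).2 (by show ρ 1 c ∈ U; rw [act_one]; exact hcU))
    (by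
      show Nat.card (V ⧸ U) ^ 2 < Nat.card T'
      rw [hcardT, ← AddSubgroup.index_eq_card]
      exact h.big_of_faithful hρ)
  set b : X := ((Additive.toMul z : T') : X) with hb
  have hbT' : b ∈ T' := (Additive.toMul z).2
  have hb1 : b ≠ 1 := fun e => hz0 (Additive.toMul.injective (Subtype.ext e))
  have hv : ρ b c ∈ U := (QuotientAddGroup.eq_zero_iff _).1 hz
  obtain ⟨t, ht, ht1, htv⟩ := h.exists_fix hV2 hv
  have hb2 : b * b = 1 := h'.sq b hbT'
  have hbi : b⁻¹ = b := inv_eq_of_mul_eq_one_right hb2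
  have hbtb : b * t * b⁻¹ ∈ Hc := by
    show ρ (b * t * b⁻¹) c - c ∈ Z
    rw [hbi, act_mul, act_mul, htv, ← act_mul, hb2, act_one, sub_self]
    exact zero_mem _
  obtain ⟨e, he, heP⟩ := hsyl hPHc (zpowers_le.2 hbtb) (by
    refine ((hTp.to_le (zpowers_le.2 ht)).map (MulAut.conj b).toMonoidHom).to_le ?_
    rw [MonoidHom.map_zpowers]; exact le_rfl)
  have hbT : T.map (MulAut.conj b).toMonoidHom ≤ Hc := by
    have h1 := D (e * b) t ht (fun h1 => ht1 (by rw [h1, map_one]))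
      (by rw [show e * b * t * (e * b)⁻¹ = e * (b * t * b⁻¹) * e⁻¹ by group]
          exact heP _ (mem_zpowers _))
    rintro _ ⟨u, hu, rfl⟩
    have h2 := hPHc (h1 ⟨u, hu, rfl⟩)
    show b * u * b⁻¹ ∈ Hc
    have h3 : e * b * u * (e * b)⁻¹ ∈ Hc := h2
    rw [show b * u * b⁻¹ = e⁻¹ * (e * b * u * (e * b)⁻¹) * e⁻¹⁻¹ by group]
    exact mul_mem (mul_mem (inv_mem he) h3) (inv_mem (inv_mem he))
  set Tb := T.map (MulAut.conj b).toMonoidHom with hTb
  have hsub : T ⊔ Tb ≤ T ⊔ T' := by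
    refine sup_le le_sup_left ?_
    rintro _ ⟨u, hu, rfl⟩
    exact mul_mem (mul_mem (Subgroup.mem_sup_right hbT') (Subgroup.mem_sup_left hu))
      (inv_mem (Subgroup.mem_sup_right hbT'))
  have hne' : T ⊔ Tb ≠ T ⊔ T' := fun e0 => hnot (le_sup_right.trans (e0.ge.trans
    (sup_le (hTHc.trans (pCoreOf_le Hc)) hbT)))
  have hlt : Nat.card (T ⊔ Tb : Subgroup X) < Nat.card (T ⊔ T' : Subgroup X) :=
    lt_of_le_of_ne (Subgroup.card_le_of_le hsub) fun e0 => hne' (eq_of_le_of_card_ge hsub e0.ge)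
  have hTb2 : IsPGroup 2 (T ⊔ Tb : Subgroup X) := by
    by_contra hbad
    exact hlt.not_ge (hmin b hbad)
  have hbn : zpowers b ≤ normalizer ((T ⊔ Tb : Subgroup X) : Set X) := by
    refine zpowers_le.2 (map_conj_eq_self_iff.1 ?_)
    rw [Subgroup.map_sup, hTb, ← map_conj_mul, hb2, map_conj_one, sup_comm]
  have hQ := isPGroup_sup ((hTp.map (MulAut.conj g).toMonoidHom).to_le
    (zpowers_le.2 hbT')) hTb2 hbn
  obtain ⟨y, -, hy⟩ := hsyl (H := ⊤) le_top le_top hQ
  obtain ⟨t₀, ht₀, hbt⟩ := hbT'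
  have hbt' : g * t₀ * g⁻¹ = b := hbt
  have h1 := D (y * g) t₀ ht₀ (fun e0 => hb1 (by rw [← hbt', e0]; group))
    (by rw [show y * g * t₀ * (y * g)⁻¹ = y * (g * t₀ * g⁻¹) * y⁻¹ by group, hbt']
        exact hy b (Subgroup.mem_sup_left (mem_zpowers b)))
  refine hg ?_
  have hle : (T ⊔ T').map (MulAut.conj y).toMonoidHom ≤ P := by
    rw [Subgroup.map_sup]
    refine sup_le ?_ ?_
    · rintro _ ⟨u, hu, rfl⟩
      exact hy u (Subgroup.mem_sup_right (Subgroup.mem_sup_left hu))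
    · rw [hT', ← map_conj_mul]; exact h1
  exact (P.2.to_le hle).of_equiv ((T ⊔ T').equivMapOfInjective _ (MulAut.conj y).injective).symm

end CfsgLib.SFour
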