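import Cfsg.Agent.Lib.SFour.GapTools
import Cfsg.Agent.S2759

set_option autoImplicit false
set_option linter.unusedSectionVars false
set_option linter.style.haveILetI false

/-! Models of a 2-group: actions on a normal subgroup, overgroups, the context of the universal theorem. -/

namespace CfsgLib.SFour

open Subgroup IsMulCommutative CfsgLib.Techniques CfsgLib.Techniques.SThree
open scoped commutatorElement

universe u

variable {S : Type u} [Group S]

/-- The fixed data of the universal theorem: a good subgroup `N` of `S` outside the core of a constrained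
model `m₀`, with the data of the group part. -/
structure Ctx (S : Type u) [Group S] where
  N : Subgroup S
  d : SData N
  m₀ : Model S
  good : GoodSub (⊤ : Subgroup S) N
  com₀ : ∀ K, m₀.Norm K → d.Com₀ K
  /-- Good subgroups of `U` are normal in `m₀`. -/
  small : ∀ X : Subgroup S, X ≤ d.U → GoodSub (⊤ : Subgroup S) X → m₀.Norm X
  /-- If fusion modulo `K` is controlled by a proper overgroup then `T` lies in `N ⊔ K`. -/
  descend : ∀ K W : Subgroup S, K ≤ W → W.Normal → m₀.Norm K → m₀.Ctrl K W → ¬ m₀.Norm W → d.T ≤ N ⊔ K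

namespace Model

variable (m : Model S) {M K L : Subgroup S}

theorem conj_mem (h : m.Norm K) (g : m.G) {x : S} (hx : x ∈ K) : g * m.emb x * g⁻¹ ∈ K.map m.emb :=
  (h : (K.map m.emb).Normal).conj_mem _ ⟨x, hx, rfl⟩ g

theorem norm_bot : m.Norm ⊥ := by
  show ((⊥ : Subgroup S).map m.emb).Normal
  rw [Subgroup.map_bot]
  infer_instance

theorem Norm.normal {m : Model S} (h : m.Norm K) : K.Normal := by
  refine ⟨fun x hx g => ?_⟩
  obtain ⟨y, hy, e⟩ := m.conj_mem h (m.emb g) hx
  rw [← map_inv, ← map_mul, ← map_mul] at e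
  rwa [← m.inj e]

theorem Norm.inf {m : Model S} (hK : m.Norm K) (hL : m.Norm L) : m.Norm (K ⊓ L) := by
  show ((K ⊓ L).map m.emb).Normal
  rw [Subgroup.map_inf _ _ _ m.inj]
  exact @Subgroup.normal_inf_normal _ _ _ _ hK hL

theorem Norm.sup {m : Model S} (hK : m.Norm K) (hL : m.Norm L) : m.Norm (K ⊔ L) := by
  show ((K ⊔ L).map m.emb).Normal
  rw [Subgroup.map_sup]
  exact @Subgroup.sup_normal _ _ _ _ hK hL

theorem range_le_normalizer [M.Normal] : m.emb.range ≤ normalizer ((M.map m.emb : Subgroup m.G) : Set m.G) := by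
  rintro _ ⟨s, rfl⟩
  exact le_normalizer_map m.emb ⟨s, normalizer_eq_top M ▸ mem_top s, rfl⟩

/-- The model given by a subgroup containing `S`. -/
def sub (H : Subgroup m.G) (hH : m.emb.range ≤ H) : Model S where
  G := H
  emb := m.emb.codRestrict H fun s => hH ⟨s, rfl⟩
  inj := fun x y e => m.inj (congrArg Subtype.val e)
  syl := by
    obtain ⟨P, hP⟩ := m.syl
    refine ⟨P.subtype (hP.le.trans hH), ?_⟩
    rw [Sylow.coe_subtype]
    ext x
    constructor
    · intro hx
      obtain ⟨s, hs⟩ := hP.le hx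
      exact ⟨s, Subtype.ext hs⟩
    · rintro ⟨s, rfl⟩
      exact hP.ge ⟨s, rfl⟩
  free := fun h => m.free (CfsgLib.LocalEven.Involved.involves_of_subgroup h)

theorem sub_emb (H : Subgroup m.G) (hH : m.emb.range ≤ H) (s : S) : H.subtype ((m.sub H hH).emb s) = m.emb s :=
  rfl

theorem norm_sub {H : Subgroup m.G} (hH : m.emb.range ≤ H) (h : H ≤ normalizer ((K.map m.emb : Subgroup m.G) : Set m.G)) :
    (m.sub H hH).Norm K := by
  refine ⟨fun x hx g => ?_⟩
  obtain ⟨s, hs, rfl⟩ := hx
  obtain ⟨y, hy, e⟩ := (mem_normalizer_iff.1 (h g.2) (m.emb s)).1 ⟨s, hs, rfl⟩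
  exact ⟨y, hy, Subtype.ext e⟩

theorem norm_sub_of_norm {H : Subgroup m.G} (hH : m.emb.range ≤ H) (h : m.Norm K) : (m.sub H hH).Norm K :=
  m.norm_sub hH fun g _ => by
    rw [@normalizer_eq_top _ _ (K.map m.emb) h]
    exact mem_top g

theorem card_sub_lt [Finite m.G] {H : Subgroup m.G} (hH : m.emb.range ≤ H) (hne : H ≠ ⊤) :
    Nat.card (m.sub H hH).G < Nat.card m.G := by
  show Nat.card H < Nat.card m.G
  by_contra hle
  exact hne (Subgroup.eq_top_of_le_card H (not_lt.1 hle))

section Act

variable (M) [IsMulCommutative M]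

/-- The action of the model on a normal subgroup. -/
noncomputable def act (h : m.Norm M) : m.G →* MulAut M :=
  haveI : (M.map m.emb).Normal := h
  let e : M ≃* (M.map m.emb : Subgroup m.G) := M.equivMapOfInjective m.emb m.inj
  { toFun := fun g => (e.trans (MulAut.conjNormal g)).trans e.symm
    map_one' := MulEquiv.ext fun x => by
      show e.symm (MulAut.conjNormal (1 : m.G) (e x)) = x
      rw [map_one, MulAut.one_apply, MulEquiv.symm_apply_apply]
    map_mul' := fun g g' => MulEquiv.ext fun x => by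
      show e.symm (MulAut.conjNormal (g * g') (e x)) =
        e.symm (MulAut.conjNormal g (e (e.symm (MulAut.conjNormal g' (e x)))))
      rw [map_mul, MulAut.mul_apply, MulEquiv.apply_symm_apply] }

theorem emb_act (h : m.Norm M) (g : m.G) (x : M) :
    m.emb (m.act M h g x : S) = g * m.emb x * g⁻¹ := by
  haveI : (M.map m.emb).Normal := h
  let e : M ≃* (M.map m.emb : Subgroup m.G) := M.equivMapOfInjective m.emb m.inj
  show m.emb ((e.symm (MulAut.conjNormal g (e x)) : M) : S) = _
  rw [← Subgroup.coe_equivMapOfInjective_apply M m.emb m.inj (e.symm _)]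
  show ((e (e.symm (MulAut.conjNormal g (e x))) : _) : m.G) = _
  rw [MulEquiv.apply_symm_apply, MulAut.conjNormal_apply]
  rfl

theorem act_emb [M.Normal] (h : m.Norm M) (s : S) : m.act M h (m.emb s) = bar M s := by
  refine MulEquiv.ext fun x => Subtype.ext (m.inj ?_)
  rw [m.emb_act M h]
  show _ = m.emb ((MulAut.conjNormal s x : M) : S)
  rw [MulAut.conjNormal_apply, map_mul, map_mul, map_inv]

theorem act_eq_one_iff (h : m.Norm M) (g : m.G) :
    m.act M h g = 1 ↔ g ∈ centralizer ((M.map m.emb : Subgroup m.G) : Set m.G) := by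
  rw [mem_centralizer_iff]
  constructor
  · rintro e _ ⟨x, hx, rfl⟩
    have := m.emb_act M h g ⟨x, hx⟩
    rw [e, MulAut.one_apply] at this
    exact (mul_inv_eq_iff_eq_mul.1 this.symm).symm
  · intro e
    refine MulEquiv.ext fun x => Subtype.ext (m.inj ?_)
    rw [m.emb_act M h, MulAut.one_apply, ← e _ ⟨x, x.2, rfl⟩, mul_inv_cancel_right]

/-- The image of the model has no section `S₃`. -/
theorem act_s3Free (h : m.Norm M) (h2 : ∀ x ∈ M, x ^ 2 = 1) : S3Free (m.act M h).range := by
  haveI : Fact (Nat.Prime 2) := ⟨Nat.prime_two⟩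
  intro hbad
  set M' : Subgroup m.G := M.map m.emb with hM'
  have hp : IsPGroup 2 M' := by
    rintro ⟨_, x, hx, rfl⟩
    exact ⟨1, Subtype.ext (show m.emb x ^ 2 ^ 1 = 1 by rw [pow_one, ← map_pow, h2 x hx, map_one])⟩
  have hn : normalizer (M' : Set m.G) = ⊤ := @normalizer_eq_top _ _ M' h
  refine m.free (Cfsg.Agent.S2759.backward M' hp ?_)
  set Nm := normalizer (M' : Set m.G)
  let φ : Nm →* (m.act M h).range := (m.act M h).rangeRestrict.comp Nm.subtype
  have hφ : Function.Surjective φ := by
    rintro ⟨_, g, rfl⟩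
    exact ⟨⟨g, hn ▸ mem_top g⟩, rfl⟩
  have hker : φ.ker = (centralizer (M' : Set m.G)).subgroupOf Nm := by
    ext g
    rw [MonoidHom.mem_ker, mem_subgroupOf, ← m.act_eq_one_iff M h]
    exact Subtype.ext_iff
  let e := (QuotientGroup.quotientMulEquivOfEq hker.symm).trans (QuotientGroup.quotientKerEquivOfSurjective φ hφ)
  exact CfsgLib.LocalEven.Involved.involves_of_surjective e.toMonoidHom e.surjective hbad

end Act

end Model

end CfsgLib.SFour
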