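import Cfsg.Agent.Lib.SFour.Good

set_option autoImplicit false
set_option linter.unusedSectionVars false

/-! The data of the group part, read in the 2-group `S`; models and control of fusion modulo a subgroup. -/

namespace CfsgLib.SFour

open Subgroup
open scoped commutatorElement

universe u

variable (S : Type u) [Group S]

/-- A finite group without a section `S₄` with `S` as a Sylow 2-subgroup. -/
structure Model where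
  G : Type u
  [grp : Group G]
  [fin : Finite G]
  emb : S →* G
  inj : Function.Injective emb
  syl : ∃ P : Sylow 2 G, (P : Subgroup G) = emb.range
  free : ¬ Cfsg.Involves (Equiv.Perm (Fin 4)) G

attribute [instance] Model.grp Model.fin

variable {S}

/-- `K` is normal in the model. -/
def Model.Norm (m : Model S) (K : Subgroup S) : Prop := (K.map m.emb).Normal

/-- Fusion in `m` modulo `K` is controlled by the normalizer of `W`. -/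
def Model.Ctrl (m : Model S) (K W : Subgroup S) : Prop :=
  ∀ A : Subgroup S, ∀ g : m.G, (∀ a ∈ A, g * m.emb a * g⁻¹ ∈ m.emb.range) →
    ∃ n ∈ normalizer ((W.map m.emb : Subgroup m.G) : Set m.G), ∀ a ∈ A,
      g * m.emb a * g⁻¹ * (n * m.emb a * n⁻¹)⁻¹ ∈ K.map m.emb

/-- The data of the group part, read in `S`. -/
structure SData (N : Subgroup S) where
  a : S
  tau : S → S
  T : Subgroup S
  U : Subgroup S
  Y : Subgroup S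
  /-- Normality in the group of the group part. -/
  Com₀ : Subgroup S → Prop
  /-- The elements centralizing the element of odd order. -/
  Fix : S → Prop
  a_mem : a ∈ N
  a_not : a ∉ U
  U_le : U ≤ N
  Y_le : Y ≤ U ⊓ T
  T_abelian : ∀ f ∈ T, ∀ g ∈ T, f * g = g * f
  T_sq : ∀ f ∈ T, f * f = 1
  inv : ∀ f ∈ T, ∀ v ∈ N, ⁅f, v⁆ ∈ U
  inv' : ∀ f ∈ T, ∀ u ∈ U, ⁅f, u⁆ ∈ Y
  fixed : ∀ v ∈ N, (∀ f ∈ T, f * v = v * f) ↔ v ∈ Y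
  faith : ∀ v ∈ N, v ∉ U → ∀ f ∈ T, ⁅f, v⁆ ∈ Y → f ∈ Y
  surj : ∀ v ∈ N, v ∉ U → ∀ u ∈ U, ∃ f ∈ T, ⁅f, v⁆ * u⁻¹ ∈ Y
  big : U.relIndex N ^ 2 * Nat.card Y < Nat.card U
  tau_mem : ∀ f ∈ T, tau f ∈ T
  tau_mul : ∀ f ∈ T, ∀ g ∈ T, (tau (f * g))⁻¹ * (tau f * tau g) ∈ Y
  tau_adj : ∀ f ∈ T, ∀ g ∈ T, ⁅tau f, ⁅g, a⁆⁆ = ⁅f, ⁅tau g, a⁆⁆
  tau_inj : ∀ f ∈ T, tau f ∈ Y → f ∈ Y
  tau_inj' : ∀ f ∈ T, tau f * f ∈ Y → f ∈ Y
  tau_normal : ∀ K : Subgroup S, Com₀ K → ∀ f ∈ T ⊓ K ⊔ Y, tau f ∈ T ⊓ K ⊔ Y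
  z_norm : ∀ K : Subgroup S, Com₀ K → ∀ z ∈ K, Fix z → ∀ f ∈ T, z * f * z⁻¹ ∈ T
  z_norm_Y : ∀ K : Subgroup S, Com₀ K → ∀ z ∈ K, Fix z → ∀ y ∈ Y, z * y * z⁻¹ ∈ Y
  tau_fixed : ∀ K : Subgroup S, Com₀ K → ∀ z ∈ K, Fix z → ∀ f ∈ T,
    (tau (z * f * z⁻¹))⁻¹ * (z * tau f * z⁻¹) ∈ Y
  a_fixed : ∀ K : Subgroup S, Com₀ K → ∀ z ∈ K, Fix z → ⁅z, a⁆ ∈ Y
  decomp : ∀ K : Subgroup S, Com₀ K → ∀ r ∈ K, ∃ d ∈ U ⊓ K ⊔ Y, ∃ f ∈ T ⊓ K ⊔ Y, ∃ z ∈ K,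
    Fix z ∧ r = d * f * z
  dvd : ∀ K : Subgroup S, Com₀ K → ∀ v ∈ N, v ∉ U → ∀ u ∈ N ⊓ K, ∃ f ∈ T ⊓ K, ⁅f, v⁆ * u⁻¹ ∈ Y

end CfsgLib.SFour
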