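import Cfsg.Agent.Lib.SFour.Models
import Cfsg.Agent.Lib.SFour.Context

set_option autoImplicit false
set_option linter.unusedSectionVars false
set_option linter.style.haveILetI false

/-! Preparations for the main induction: transport of good subgroups, the configuration of the context on a
subgroup of `N`, translates. -/

namespace CfsgLib.SFour

open Subgroup IsMulCommutative CfsgLib.Techniques CfsgLib.Techniques.SThree
open scoped commutatorElement

universe u

variable {S : Type u} [Group S]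

/-- The normal closure in a model of a good subgroup inside a normal subgroup is good. -/
theorem exists_goodSub_norm [Finite S] (m : Model S) {K X : Subgroup S} (hK : GoodSub (⊤ : Subgroup S) K)
    (hX : m.Norm X) (hX2 : IsPGroup 2 X) (hKX : K ≤ X) :
    ∃ K' : Subgroup S, GoodSub (⊤ : Subgroup S) K' ∧ m.Norm K' ∧ K ≤ K' ∧ K' ≤ X := by
  haveI : Fact (Nat.Prime 2) := ⟨Nat.prime_two⟩
  obtain ⟨P, hP⟩ := m.syl
  haveI hXn : (X.map m.emb).Normal := hX
  have hG : GoodSub (P : Subgroup m.G) (K.map m.emb) := by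
    rw [hP]; exact (goodSub_map_iff m.inj K).2 hK
  have hle : K.map m.emb ≤ Cfsg.pCore 2 m.G :=
    (Subgroup.map_mono hKX).trans (CfsgLib.PCore.le_pCore hXn (hX2.map _))
  have h1 := goodSub_normalClosure P m.free hG hle
  set W := normalClosure ((K.map m.emb : Subgroup m.G) : Set m.G)
  have hWX : W ≤ X.map m.emb := normalClosure_le_normal (Subgroup.map_mono hKX)
  have eW : (W.comap m.emb).map m.emb = W :=
    Subgroup.map_comap_eq_self (hWX.trans (Subgroup.map_le_range _ _))
  refine ⟨W.comap m.emb, ?_, ?_, Subgroup.map_le_iff_le_comap.1 le_normalClosure, fun x hx => ?_⟩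
  · refine (goodSub_map_iff m.inj _).1 ?_
    rw [eW, ← hP]; exact h1
  · show ((W.comap m.emb).map m.emb).Normal
    rw [eW]; exact normalClosure_normal
  · obtain ⟨y, hy, e⟩ := hWX hx
    exact (m.inj e) ▸ hy

namespace Ctx

variable [Finite S] (c : Ctx S) {M : Subgroup S} [M.Normal] [IsMulCommutative M]

theorem comm : IsMulCommutative c.N := c.good.elem.1

theorem sq_M (hMN : M ≤ c.N) : ∀ x ∈ M, x ^ 2 = 1 := fun x hx => c.good.elem.2 x (hMN hx)

/-- The subgroup `N` acts trivially on `M`. -/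
theorem bar_N (hMN : M ≤ c.N) {n : S} (hn : n ∈ c.N) : bar M n = 1 :=
  MulEquiv.ext fun x => Subtype.ext (by
    show ((MulAut.conjNormal n x : M) : S) = (x : S)
    rw [MulAut.conjNormal_apply, c.good.comm hn (hMN x.2), mul_inv_cancel_right])

/-- The configuration on a subgroup of `N` not contained in `U`. -/
theorem config (hMN : M ≤ c.N) {v₀ : S} (hv₀ : v₀ ∈ M) (hv₀U : v₀ ∉ c.d.U) :
    Config (repM M) (c.d.T.map (bar M)) (subM M c.d.U) (subM M c.d.Y) := by
  haveI := c.comm
  set d := c.d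
  have hbr : ∀ f ∈ d.T, ∀ {v : S}, v ∈ M → ⁅f, v⁆ ∈ M := fun f _ v hv => by
    rw [commutatorElement_def]
    exact mul_mem ((inferInstance : M.Normal).conj_mem v hv f) (inv_mem hv)
  have hfixed : fixedPts (repM M) (d.T.map (bar M)) = subM M d.Y := by
    ext v
    rw [mem_subM, ← d.fixed _ (hMN v.toMul.2)]
    constructor
    · intro h f hf
      have := congrArg (fun w : Additive M => ((w.toMul : M) : S)) (h _ ⟨f, hf, rfl⟩)
      simp only [val_bar] at this
      exact mul_inv_eq_iff_eq_mul.1 this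
    · rintro h _ ⟨f, hf, rfl⟩
      refine Additive.toMul.injective (Subtype.ext ?_)
      rw [val_bar, h f hf, mul_inv_cancel_right]
  refine ⟨?_, ?_, hfixed, subM_mono fun y hy => (d.Y_le hy).1, ?_, ?_, ?_, ?_, ?_, ?_⟩
  · rintro _ ⟨f, hf, rfl⟩ v
    rw [mem_subM, val_bar_sub]; exact d.inv f hf _ (hMN v.toMul.2)
  · rintro _ ⟨f, hf, rfl⟩ v hv
    rw [mem_subM, val_bar_sub]; exact d.inv' f hf _ hv
  · intro e
    exact hv₀U (e.ge (AddSubgroup.mem_top (Additive.ofMul (⟨v₀, hv₀⟩ : M))))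
  · rintro _ ⟨f, hf, rfl⟩ _ ⟨g, hg, rfl⟩
    rw [← map_mul, ← map_mul, d.T_abelian f hf g hg]
  · rintro _ ⟨f, hf, rfl⟩
    rw [← map_mul, d.T_sq f hf, map_one]
  · rintro v hv _ ⟨f, hf, rfl⟩ h1
    rw [mem_subM, val_bar_sub] at h1
    have hfY := d.faith _ (hMN v.toMul.2) hv f hf h1
    rw [c.bar_N hMN (d.U_le (d.Y_le hfY).1), map_one]
  · intro v hv u hu
    obtain ⟨f, hf, hfy⟩ := d.surj _ (hMN v.toMul.2) hv _ hu
    refine ⟨_, mem_map_of_mem _ hf, ?_⟩
    rw [mem_subM, toMul_sub, div_eq_mul_inv, Subgroup.coe_mul, Subgroup.coe_inv, val_bar_sub]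
    exact hfy
  · -- the indices
    set UM : Subgroup S := d.U ⊓ M with hUM
    set YM : Subgroup S := d.Y ⊓ M with hYM
    have e1 : ∀ K : Subgroup S, Nat.card (subM M K) = Nat.card (K ⊓ M : Subgroup S) := fun K =>
      Nat.card_congr ⟨fun z => ⟨((z.1 : Additive M).toMul : S), z.2, ((z.1 : Additive M).toMul).2⟩,
        fun z => ⟨Additive.ofMul (⟨z.1, z.2.2⟩ : M), z.2.1⟩, fun _ => rfl, fun _ => rfl⟩
    have e2 : (subM M d.U).index = d.U.relIndex M := rfl
    have e3 : d.U.relIndex M ≤ d.U.relIndex c.N :=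
      Subgroup.relIndex_le_of_le_right hMN Subgroup.FiniteIndex.index_ne_zero
    -- `U = (U ⊓ M) Y`
    have hcard : Nat.card d.U * Nat.card YM ≤ Nat.card UM * Nat.card d.Y := by
      have hsup : d.U ≤ UM ⊔ d.Y := fun u hu => by
        obtain ⟨f, hf, hfy⟩ := d.surj v₀ (hMN hv₀) hv₀U u hu
        rw [show u = (⁅f, v₀⁆ * u⁻¹)⁻¹ * ⁅f, v₀⁆ by group]
        exact mul_mem (Subgroup.mem_sup_right (inv_mem hfy))
          (Subgroup.mem_sup_left ⟨d.inv f hf v₀ (hMN hv₀), hbr f hf hv₀⟩)
      have hY : ∀ y ∈ d.Y, y ∈ c.N := fun y hy => d.U_le (d.Y_le hy).1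
      have hsplit : ∀ u : d.U, ∃ p : UM × d.Y, (p.1 : S) * p.2 = u := by
        intro u
        have hle : UM ⊔ d.Y ≤ c.N := sup_le (fun x hx => d.U_le hx.1) hY
        have hn : UM ≤ normalizer (d.Y : Set S) := fun x hx => Subgroup.mem_normalizer_fintype fun y hy => by
          rw [c.good.comm (d.U_le hx.1) (hY y hy), mul_inv_cancel_right]; exact hy
        obtain ⟨m, hm, y, hy, e⟩ := CfsgLib.Techniques.exists_mul_of_mem_sup hn (hsup u.2)
        exact ⟨(⟨m, hm⟩, ⟨y, hy⟩), e⟩
      choose pr hpr using hsplit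
      let g : d.U × YM → UM × d.Y := fun z =>
        (⟨(pr z.1).1 * (z.2 : S), mul_mem (pr z.1).1.2 ⟨(d.Y_le z.2.2.1).1, z.2.2.2⟩⟩,
          ⟨(z.2 : S)⁻¹ * (pr z.1).2, mul_mem (inv_mem z.2.2.1) (pr z.1).2.2⟩)
      rw [← Nat.card_prod, ← Nat.card_prod]
      refine Nat.card_le_card_of_injective g ?_
      rintro ⟨u, z⟩ ⟨u', z'⟩ e
      have e1 : ((pr u).1 : S) * z = (pr u').1 * z' := congrArg (fun w : UM × d.Y => (w.1 : S)) e
      have e2 : (z : S)⁻¹ * (pr u).2 = (z' : S)⁻¹ * (pr u').2 := congrArg (fun w : UM × d.Y => (w.2 : S)) e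
      have hu : u = u' := Subtype.ext (by
        calc (u : S) = ((pr u).1 * z) * ((z : S)⁻¹ * (pr u).2) := by rw [← hpr u]; group
          _ = ((pr u').1 * z') * ((z' : S)⁻¹ * (pr u').2) := by rw [e1, e2]
          _ = u' := by rw [← hpr u']; group)
      subst hu
      exact Prod.ext rfl (Subtype.ext (mul_left_cancel e1))
    rw [e1, e1, e2]
    have hbig := d.big
    have h4 : d.U.relIndex M ^ 2 * Nat.card YM * Nat.card d.Y < Nat.card UM * Nat.card d.Y :=
      calc d.U.relIndex M ^ 2 * Nat.card YM * Nat.card d.Y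
          ≤ d.U.relIndex c.N ^ 2 * Nat.card YM * Nat.card d.Y :=
            Nat.mul_le_mul_right _ (Nat.mul_le_mul_right _ (Nat.pow_le_pow_left e3 2))
        _ = d.U.relIndex c.N ^ 2 * Nat.card d.Y * Nat.card YM := by ring
        _ < Nat.card d.U * Nat.card YM := Nat.mul_lt_mul_of_pos_right hbig Nat.card_pos
        _ ≤ Nat.card UM * Nat.card d.Y := hcard
    exact Nat.lt_of_mul_lt_mul_right h4

end Ctx

section Translates

variable {X : Type u} [Group X]

/-- The join of the conjugates of `T` under `G`. -/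
def transl (G T : Subgroup X) : Subgroup X := ⨆ g : G, T.map (MulAut.conj (g : X)).toMonoidHom

variable {G T Z : Subgroup X}

theorem le_transl : T ≤ transl G T := by
  refine le_trans ?_ (le_iSup _ (1 : G))
  rw [OneMemClass.coe_one, map_one]
  exact fun x hx => ⟨x, hx, rfl⟩

theorem conj_le_transl {g : X} (hg : g ∈ G) : T.map (MulAut.conj g).toMonoidHom ≤ transl G T :=
  le_iSup (fun g : G => T.map (MulAut.conj (g : X)).toMonoidHom) ⟨g, hg⟩

theorem transl_le [Finite X] (hT : T ≤ Z) (hG : G ≤ normalizer (Z : Set X)) : transl G T ≤ Z :=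
  iSup_le fun g => (Subgroup.map_mono hT).trans (map_conj_eq_self_iff.2 (hG g.2)).le

theorem le_normalizer_transl [Finite X] : G ≤ normalizer (transl G T : Set X) := fun x hx =>
  Subgroup.mem_normalizer_fintype fun y hy => by
    have hle : transl G T ≤ (transl G T).comap (MulAut.conj x).toMonoidHom := by
      refine iSup_le fun n => ?_
      rintro _ ⟨t, ht, rfl⟩
      exact conj_le_transl (mul_mem hx n.2) ⟨t, ht, by simp [mul_assoc]⟩
    exact hle hy

end Translates

end CfsgLib.SFour
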