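import Cfsg.Agent.Lib.SFour.MainCase
import Cfsg.Agent.Lib.SFour.GapTools

set_option autoImplicit false
set_option linter.unusedSectionVars false
set_option linter.style.haveILetI false

/-! A configuration inside the cores of all proper overgroups centralizes the 2-residual of the
centralizer of the 2-core. -/

namespace CfsgLib.SFour

open Subgroup CfsgLib.Techniques CfsgLib.Techniques.SThree
open scoped commutatorElement

universe u v

variable {X : Type u} [Group X] [Finite X] {V : Type v} [AddCommGroup V] [Finite V]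

theorem eq_one_of_odd_of_two_pow {G : Type*} [Group G] {c : G} (hc : (orderOf c).Coprime 2) {k : ℕ}
    (hk : c ^ 2 ^ k = 1) : c = 1 :=
  orderOf_eq_one_iff.1 (Nat.eq_one_of_dvd_coprimes (hc.pow_right k) dvd_rfl (orderOf_dvd_of_pow_eq_one hk))

/-- An element of odd order centralizing a 2-group and its fixed vectors in an invariant subgroup acts
trivially on it. -/
theorem odd_fix_of_fix_fixedPts (ρ : X →* AddMonoid.End V) (hV2 : ∀ v : V, v + v = 0) {R : Subgroup X}
    (hR : IsPGroup 2 R) {c : X} (hc : (orderOf c).Coprime 2) (hcomm : ∀ r ∈ R, c * r = r * c)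
    (hfix : ∀ v ∈ fixedPts ρ R, ρ c v = v) (v : V) : ρ c v = v := by
  by_contra hv
  let d : V →+ V := AddMonoidHom.mk' (fun w => ρ c w - w) fun a b => by rw [map_add]; abel
  have hI : ∀ r : R, ∀ w ∈ d.range, (ρ.comp R.subtype) r w ∈ d.range := by
    rintro r _ ⟨w, rfl⟩
    refine ⟨ρ r w, ?_⟩
    show ρ c (ρ r w) - ρ r w = ρ r (ρ c w - w)
    rw [map_sub, ← act_mul, ← act_mul, hcomm r r.2]
  obtain ⟨⟨_, u, rfl⟩, hw0, hw⟩ := exists_fixed_ne_zero (ρ := subRep (ρ.comp R.subtype) d.range hI)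
    (fun w => Subtype.ext (hV2 w)) (R := (⊤ : Subgroup R)) (hR.to_subgroup ⊤)
    (v₀ := (⟨d v, v, rfl⟩ : d.range)) fun e => hv (sub_eq_zero.1 (congrArg Subtype.val e))
  have hwc : ρ c (d u) = d u := hfix _ fun r hr => congrArg Subtype.val (hw ⟨r, hr⟩ (mem_top _))
  refine hw0 (Subtype.ext ?_)
  show d u = 0
  have key : ∀ n : ℕ, ρ (c ^ n) u = u + n • d u := by
    intro n
    induction n with
    | zero => rw [pow_zero, act_one, zero_smul, add_zero]
    | succ n ih =>
      rw [pow_succ', act_mul, ih, map_add, map_nsmul, hwc, succ_nsmul]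
      show ρ c u + n • d u = u + (n • d u + (ρ c u - u))
      abel
  have h1 := key (orderOf c)
  rw [pow_orderOf_eq_one, act_one, left_eq_add] at h1
  obtain ⟨k, hk⟩ : Odd (orderOf c) := Nat.coprime_two_right.1 hc
  rwa [hk, add_smul, one_smul, mul_smul, two_nsmul, hV2, zero_add] at h1

/-- If the commutators with odd elements of the centralizer of the core lie in the core, `x` centralizes them. -/
theorem comm_of_comm_mem {R C : Subgroup X} (hR : IsPGroup 2 R) (hC : C ≤ centralizer (R : Set X)) {x : X}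
    (h : ∀ c ∈ C, (orderOf c).Coprime 2 → ⁅c, x⁆ ∈ R) :
    ∀ c ∈ Cfsg.pResidualOf 2 C, c * x = x * c := by
  have hle : Cfsg.pResidualOf 2 C ≤ centralizer ({x} : Set X) := by
    refine CfsgLib.Baumann.pResidualOf_le_iff.2 fun c hc hco => mem_centralizer_singleton_iff.2 ?_
    have hm := h c hc hco
    have hcm : Commute c ⁅c, x⁆ := (mem_centralizer_iff.1 (hC hc) _ hm).symm
    have key : ∀ n : ℕ, ⁅c ^ n, x⁆ = ⁅c, x⁆ ^ n := by
      intro n
      induction n with
      | zero => rw [pow_zero, pow_zero, commutatorElement_one_left]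
      | succ n ih =>
        rw [pow_succ c n, show ⁅c ^ n * c, x⁆ = c ^ n * ⁅c, x⁆ * (c ^ n)⁻¹ * ⁅c ^ n, x⁆ by
          simp only [commutatorElement_def]; group, ih, (hcm.pow_left n).eq, mul_inv_cancel_right, pow_succ']
    have h1 := key (orderOf c)
    rw [pow_orderOf_eq_one, commutatorElement_one_left] at h1
    obtain ⟨k, hk⟩ := hR ⟨_, hm⟩
    have h2 : ⁅c, x⁆ = 1 := by
      refine eq_one_of_odd_of_two_pow ?_ (congrArg Subtype.val hk)
      exact Nat.Coprime.coprime_dvd_left (orderOf_dvd_of_pow_eq_one h1.symm) hco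
    exact commutatorElement_eq_one_iff_mul_comm.1 h2
  exact fun c hc => mem_centralizer_singleton_iff.1 (hle hc)

namespace Config

variable {ρ : X →* AddMonoid.End V} {T : Subgroup X} {U Y : AddSubgroup V}

/-- If one nontrivial element centralizes the residual then all of `T` does. -/
theorem central_of_one (h : Config ρ T U Y) (hρ : ∀ x, ρ x = 1 → x = 1) (hV2 : ∀ v : V, v + v = 0)
    (hS : S3Free X) {t : X} (ht : t ∈ T) (ht1 : t ≠ 1)
    (htC : ∀ c ∈ Cfsg.pResidualOf 2 (centralizer (Cfsg.pCore 2 X : Set X)), c * t = t * c) :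
    ∀ s ∈ T, ∀ c ∈ Cfsg.pResidualOf 2 (centralizer (Cfsg.pCore 2 X : Set X)), c * s = s * c := by
  haveI : Fact (Nat.Prime 2) := ⟨Nat.prime_two⟩
  set R := Cfsg.pCore 2 X with hR
  haveI : R.Normal := Cfsg.pCore_normal 2 X
  set C := centralizer (R : Set X) with hC
  haveI hCn : C.Normal := Subgroup.normal_centralizer
  set C₀ := Cfsg.pResidualOf 2 C with hC₀
  haveI hC₀n : C₀.Normal := normalizer_eq_top_iff.1
    (top_le_iff.1 ((normalizer_eq_top C).ge.trans (normalizer_le_normalizer_residual C)))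
  set B := C₀ ⊔ T with hB
  have htB : B ≤ centralizer ({t} : Set X) := sup_le
    (fun c hc => mem_centralizer_singleton_iff.2 (htC c hc))
    fun s hs => mem_centralizer_singleton_iff.2 (h.comm s hs t ht)
  have hTB : T ≤ B := le_sup_right
  set T' := T.subgroupOf B with hT'
  have h' : Config (ρ.comp B.subtype) T' U Y := h.comp B.subtype B.subtype_injective (map_subgroupOf_eq_of_le hTB)
  have hρ' : ∀ x, (ρ.comp B.subtype) x = 1 → x = 1 := fun x hx => Subtype.ext (hρ _ hx)
  have hstab : normalClosure (T' : Set B) ≤ setStab (ρ.comp B.subtype) U :=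
    h'.stab_of_central hV2 (hS.sub B) (t := ⟨t, hTB ht⟩) ht (fun e => ht1 (hρ _ e))
      fun x => Subtype.ext (mem_centralizer_singleton_iff.1 (htB x.2))
  set N := normalClosure (T' : Set B) with hN
  have hTN : T' ≤ N := le_normalClosure
  have h'' : Config ((ρ.comp B.subtype).comp N.subtype) (T'.subgroupOf N) U Y :=
    h'.comp N.subtype N.subtype_injective (map_subgroupOf_eq_of_le hTN)
  have hcore : (Cfsg.pCore 2 N).map N.subtype ≤ Cfsg.pCore 2 B :=
    (CfsgLib.PCore.map_pCore_subtype_of_normal N).le.trans inf_le_right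
  -- an element of `T` in the core of `B` centralizes the residual
  have hkey : ∀ s : B, s ∈ T' → s ∈ Cfsg.pCore 2 B → ∀ c ∈ C₀, c * (s : X) = s * c := by
    intro s hsT hs
    set Q := (Cfsg.pCore 2 B).map B.subtype with hQ
    have hQn : B ≤ normalizer (Q : Set X) := LLemma.le_normalizer_pCoreOf B
    have h1 : C₀ ⊓ Q ≤ R := by
      refine le_trans (LLemma.le_pCoreOf inf_le_left (fun c hc => mem_normalizer_inf (le_normalizer hc)
        (hQn (Subgroup.mem_sup_left hc))) ((CfsgLib.PCore.pCore_isPGroup.map _).to_le inf_le_right)) ?_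
      exact CfsgLib.PCore.le_pCore (normalizer_eq_top_iff.1 (top_le_iff.1
        ((normalizer_eq_top C₀).ge.trans (CfsgLib.Large.normalizer_le_normalizer_pCoreOf C₀))))
        (LLemma.pCoreOf_isPGroup C₀)
    refine comm_of_comm_mem CfsgLib.PCore.pCore_isPGroup le_rfl fun c hc hco => ?_
    have hcC₀ : c ∈ C₀ := CfsgLib.Baumann.pResidualOf_le_iff.1 le_rfl c hc hco
    have hsQ : (s : X) ∈ Q := ⟨s, hs, rfl⟩
    refine h1 ⟨?_, ?_⟩
    · rw [commutatorElement_def, mul_assoc, mul_assoc, ← mul_assoc (s : X)]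
      exact mul_mem hcC₀ (hC₀n.conj_mem _ (inv_mem hcC₀) _)
    · rw [commutatorElement_def]
      exact mul_mem ((mem_normalizer_iff.1 (hQn (Subgroup.mem_sup_left hcC₀)) _).1 hsQ) (Q.inv_mem hsQ)
  have hle : T'.subgroupOf N ≤ Cfsg.pCore 2 N := by
    refine h''.le_pCore_of_central hV2 ((hS.sub B).sub N) (fun x hx => Subtype.ext (hρ' _ hx))
      (fun x v hv => hstab x.2 v hv) fun s hs x => Subtype.ext (Subtype.ext ?_)
    have hsT : ((s : B) : X) ∈ T := hs.1
    have h1 : B ≤ centralizer ({((s : B) : X)} : Set X) := sup_le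
      (fun c hc => mem_centralizer_singleton_iff.2 (hkey s hs.1 (hcore ⟨s, hs.2, rfl⟩) c hc))
      fun r hr => mem_centralizer_singleton_iff.2 (h.comm r hr _ hsT)
    exact mem_centralizer_singleton_iff.1 (h1 (x : B).2)
  intro s hs c hc
  exact hkey ⟨s, hTB hs⟩ hs (hcore ⟨⟨⟨s, hTB hs⟩, hTN hs⟩, hle hs, rfl⟩) c hc

/-- The translate lemma. -/
theorem central_residual (h : Config ρ T U Y) (hρ : ∀ x, ρ x = 1 → x = 1) (hV2 : ∀ v : V, v + v = 0)
    (hS : S3Free X) (P : Sylow 2 X) (hTP : T ≤ P)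
    (hover : ∀ H : Subgroup X, (P : Subgroup X) ≤ H → H ≠ ⊤ → T ≤ Cfsg.pCoreOf 2 H)
    (hctrl : ∃ M : Subgroup X, (P : Subgroup X) ≤ M ∧ M ≠ ⊤ ∧ ∀ A : Subgroup X, A ≤ P → ∀ g : X,
      (∀ a ∈ A, g * a * g⁻¹ ∈ (P : Subgroup X)) → ∃ m ∈ M, ∀ a ∈ A, g * a * g⁻¹ = m * a * m⁻¹) :
    ∀ s ∈ T, ∀ c ∈ Cfsg.pResidualOf 2 (centralizer (Cfsg.pCore 2 X : Set X)), c * s = s * c := by
  classical
  haveI : Fact (Nat.Prime 2) := ⟨Nat.prime_two⟩
  by_contra hnot
  have hno : ∀ t ∈ T, (∀ c ∈ Cfsg.pResidualOf 2 (centralizer (Cfsg.pCore 2 X : Set X)), c * t = t * c) →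
      t = 1 := fun t ht htc => by_contra fun ht1 => hnot (h.central_of_one hρ hV2 hS ht ht1 htc)
  set R := Cfsg.pCore 2 X with hR
  haveI hRn : R.Normal := Cfsg.pCore_normal 2 X
  set C := centralizer (R : Set X) with hC
  haveI hCn : C.Normal := Subgroup.normal_centralizer
  -- a minimal invariant subgroup of fixed vectors of the core with no odd element of `C` in the kernel
  obtain ⟨W, hW⟩ := Set.Finite.exists_minimal
    (s := {W : AddSubgroup V | W ≤ fixedPts ρ R ∧ (∀ x : X, ∀ v ∈ W, ρ x v ∈ W) ∧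
      ∀ c ∈ C, (orderOf c).Coprime 2 → (∀ v ∈ W, ρ c v = v) → c = 1})
    (Set.toFinite _) ⟨fixedPts ρ R, le_rfl, fixedPts_inv hRn, fun c hc hco hfix =>
      hρ c (AddMonoidHom.ext (odd_fix_of_fix_fixedPts ρ hV2 CfsgLib.PCore.pCore_isPGroup hco
        (fun r hr => (mem_centralizer_iff.1 hc r hr).symm) hfix))⟩
  obtain ⟨hWR, hWi, hWodd⟩ := hW.prop
  set σ := subRep ρ W hWi with hσ
  set K := σ.ker with hK
  have hKmem : ∀ x : X, x ∈ K → ∀ v ∈ W, ρ x v = v := fun x hx v hv =>
    congrArg Subtype.val (DFunLike.congr_fun (hx : σ x = 1) (⟨v, hv⟩ : W))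
  have hRK : R ≤ K := fun r hr => AddMonoidHom.ext fun w => Subtype.ext (hWR w.2 r hr)
  -- normal subgroups of `C` whose image is a 2-group are 2-groups
  have htwo : ∀ J : Subgroup X, J.Normal → (∀ x ∈ J, ∃ k : ℕ, x ^ 2 ^ k ∈ K) → C ⊓ J ≤ R := by
    intro J hJ hJK
    haveI := hJ
    refine CfsgLib.PCore.le_pCore inferInstance fun x => ?_
    obtain ⟨k, hk⟩ := hJK x x.2.2
    set y := (x : X) ^ 2 ^ k with hy
    obtain ⟨a, m, hm, hom⟩ := Nat.exists_eq_two_pow_mul_odd (orderOf_pos y).ne'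
    have hz : y ^ 2 ^ a = 1 := by
      refine hWodd _ (pow_mem (pow_mem x.2.1 _) _) ?_ (hKmem _ (pow_mem hk _))
      rw [orderOf_pow' y (pow_ne_zero _ two_ne_zero), hom, Nat.gcd_mul_right_left,
        Nat.mul_div_cancel_left _ (Nat.two_pow_pos a)]
      exact Nat.coprime_two_right.2 hm
    exact ⟨k + a, Subtype.ext (by rw [SubmonoidClass.coe_pow, pow_add, pow_mul, ← hy, hz]; rfl)⟩
  have hKn : K.Normal := inferInstance
  have hKC : ∀ x ∈ K, ∀ c ∈ Cfsg.pResidualOf 2 C, c * x = x * c := fun x hx =>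
    comm_of_comm_mem CfsgLib.PCore.pCore_isPGroup le_rfl fun c hc _ => htwo K hKn
      (fun y hy => ⟨0, by rw [pow_zero, pow_one]; exact hy⟩) ⟨by
        rw [commutatorElement_def, mul_assoc, mul_assoc, ← mul_assoc x]
        exact mul_mem hc (hCn.conj_mem _ (inv_mem hc) _), by
        rw [commutatorElement_def]
        exact mul_mem (hKn.conj_mem _ hx _) (K.inv_mem hx)⟩
  have hTK : T ⊓ K = ⊥ := eq_bot_iff.2 fun t ht => Subgroup.mem_bot.2 (hno t ht.1 (hKC t ht.2))
  -- the image has trivial core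
  set J := twoKer σ with hJ
  have hJn : J.Normal := inferInstance
  have hJK : J ≤ K := by
    by_contra hle
    set π := QuotientGroup.mk' K
    set F := fixedPts σ J with hF
    set F' := F.map W.subtype with hF'
    have hFi : ∀ x : X, ∀ v ∈ F', ρ x v ∈ F' := by
      rintro x _ ⟨w, hw, rfl⟩
      exact ⟨σ x w, fixedPts_inv hJn x w hw, rfl⟩
    have hlow : F' ≤ W := by rintro _ ⟨w, -, rfl⟩; exact w.2
    have hWF : W ≤ F' := hW.le_of_le ⟨hlow.trans hWR, hFi, fun c hc hco hfix => ?_⟩ hlow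
    · refine hle fun j hj => AddMonoidHom.ext fun w => ?_
      obtain ⟨w', hw', e⟩ := hWF w.2
      rw [← Subtype.ext e]
      exact hw' j hj
    refine hWodd c hc hco fun v hv => ?_
    have hcI : ∀ j ∈ J, ⁅c, j⁆ ∈ K := fun j hj => hRK (htwo J hJn
      (fun y hy => exists_pow_of_mem_twoKer hy) ⟨by
        rw [commutatorElement_def, mul_assoc, mul_assoc, ← mul_assoc j]
        exact mul_mem hc (hCn.conj_mem _ (inv_mem hc) _), by
        rw [commutatorElement_def]
        exact mul_mem (hJn.conj_mem _ hj _) (J.inv_mem hj)⟩)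
    have hJp : IsPGroup 2 (J.map π) := by
      rintro ⟨_, j, hj, rfl⟩
      obtain ⟨k, hk⟩ := exists_pow_of_mem_twoKer hj
      exact ⟨k, Subtype.ext ((QuotientGroup.eq_one_iff (j ^ 2 ^ k)).2 hk)⟩
    have h1 := odd_fix_of_fix_fixedPts (faithRep σ) (fun w : W => Subtype.ext (hV2 w)) hJp
      (c := π c) (hco.coprime_dvd_left (orderOf_map_dvd π c))
      (by
        rintro _ ⟨j, hj, rfl⟩
        rw [← map_mul, ← map_mul]
        refine QuotientGroup.eq.2 ?_
        have := (hKn.conj_mem _ (inv_mem (hcI j hj)) (c * j)⁻¹)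
        rwa [inv_inv, commutatorElement_inv, commutatorElement_def,
          show (c * j)⁻¹ * (j * c * j⁻¹ * c⁻¹) * (c * j) = (c * j)⁻¹ * (j * c) by group] at this)
      (fun w hw => by
        refine Subtype.ext (hfix _ ⟨w, fun j hj => ?_, rfl⟩)
        exact hw (π j) (mem_map_of_mem π hj)) ⟨v, hv⟩
    exact congrArg Subtype.val h1
  by_cases hWU : W ≤ U
  · have hq : Quad σ T := h.quad_sub hWU
    rcases cost W σ (fun w => Subtype.ext (hV2 w)) hS T hq with hle | hlt
    · obtain ⟨t, ht, ht1⟩ := h.exists_move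
      exact ht1 (by rw [Subgroup.mem_bot.1 (hTK ▸ ⟨ht, hJK (hle ht)⟩ : t ∈ (⊥ : Subgroup X)), map_one])
    rw [show T ⊓ twoKer σ = ⊥ from le_bot_iff.1 ((inf_le_inf_left T hJK).trans hTK.le), Subgroup.card_bot,
      mul_one] at hlt
    have hfixW : Nat.card (fixedPts σ T) = Nat.card (W ⊓ Y : AddSubgroup V) :=
      Nat.card_congr ⟨fun w => ⟨w.1.1, w.1.2, h.fixed.le fun t ht => congrArg Subtype.val (w.2 t ht)⟩,
        fun v => ⟨⟨v.1, v.2.1⟩, fun t ht => Subtype.ext (h.fixY ht v.2.2)⟩, fun _ => rfl, fun _ => rfl⟩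
    have hU := h.card_eq_of_faithful hρ
    rw [card_eq_sub_mul_quot U Y, inf_eq_right.2 h.le, mul_comm (Nat.card T)] at hU
    have h3 : Nat.card W ≤ Nat.card T * Nat.card (W ⊓ Y : AddSubgroup V) := by
      rw [card_eq_sub_mul_quot W Y, mul_comm (Nat.card T), ← Nat.eq_of_mul_eq_mul_left Nat.card_pos hU]
      exact Nat.mul_le_mul_left _ (AddSubgroup.card_le_of_le (AddSubgroup.map_mono hWU))
    rw [hfixW] at hlt
    omega
  -- the configuration on `W`
  set f := QuotientGroup.mk' K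
  have hc : Config (faithRep σ) (T.map f) (U.addSubgroupOf W) (Y.addSubgroupOf W) :=
    (h.restrict (hW := hWi) hWU).image f fun t _ => faithRep_mk σ t
  obtain ⟨M, hPM, hMtop, hM⟩ := hctrl
  have hf := QuotientGroup.mk'_surjective K
  refine main_false (faithRep σ) faithRep_eq_one (fun w => Subtype.ext (hV2 w))
    (hS.of_surjective f hf) ?_ (P.mapSurjective hf) hc (Subgroup.map_mono hTP) ?_ ?_
  · refine eq_bot_iff.2 fun q hq => ?_
    obtain ⟨x, rfl⟩ := hf q
    exact Subgroup.mem_bot.2 ((QuotientGroup.eq_one_iff x).2 (hJK hq))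
  · intro H hPH hH
    have hP' : (P : Subgroup X) ≤ H.comap f := Subgroup.map_le_iff_le_comap.1 hPH
    rintro _ ⟨t, ht, rfl⟩
    have hne : H.comap f ≠ ⊤ := fun e => hH (by rw [← map_comap_eq_self_of_surjective hf H, e, map_top_of_surjective _ hf])
    refine LLemma.le_pCoreOf (X := H) (N := (Cfsg.pCoreOf 2 (H.comap f)).map f)
      (Subgroup.map_le_iff_le_comap.2 (LLemma.pCoreOf_le _)) ?_ ((LLemma.pCoreOf_isPGroup _).map f)
      ⟨t, hover _ hP' hne ht, rfl⟩
    rw [← map_comap_eq_self_of_surjective hf H]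
    exact (map_mono (LLemma.le_normalizer_pCoreOf _)).trans
      (by rw [map_comap_eq_self_of_surjective hf H]; exact le_normalizer_map f)
  · refine ⟨M.map f, map_mono hPM, fun e => ?_, ?_⟩
    · -- otherwise `T` lies in the kernel
      have hn : ((Cfsg.pCoreOf 2 M).map f).Normal := normalizer_eq_top_iff.1 (top_le_iff.1
        (e ▸ (map_mono (LLemma.le_normalizer_pCoreOf M)).trans (le_normalizer_map f)))
      obtain ⟨t, ht, ht1⟩ := h.exists_move
      have h1 : f t ∈ Cfsg.pCore 2 (X ⧸ K) :=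
        CfsgLib.PCore.le_pCore hn ((LLemma.pCoreOf_isPGroup M).map f) ⟨t, hover M hPM hMtop ht, rfl⟩
      exact ht1 (by rw [Subgroup.mem_bot.1 (hTK ▸ ⟨ht, hJK h1⟩ : t ∈ (⊥ : Subgroup X)), map_one])
    · intro A hA q hq
      obtain ⟨g, rfl⟩ := hf q
      set B := A.comap f ⊓ P with hB
      have hBA : ∀ a ∈ A, ∃ b ∈ B, f b = a := fun a ha => by
        obtain ⟨b, hb, e⟩ := hA ha
        exact ⟨b, ⟨show f b ∈ A from e ▸ ha, hb⟩, e⟩
      -- correct `g` by an element of the kernel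
      set L := (P : Subgroup X) ⊔ K with hL
      have hBL : B.map (MulAut.conj g).toMonoidHom ≤ L := by
        rintro _ ⟨b, hb, rfl⟩
        obtain ⟨p, hp, e⟩ := hq _ hb.1
        have : p⁻¹ * (g * b * g⁻¹) ∈ K := QuotientGroup.eq.1 (e.trans (by simp [f]))
        show g * b * g⁻¹ ∈ L
        rw [← mul_inv_cancel_left p (g * b * g⁻¹)]
        exact mul_mem (Subgroup.mem_sup_left hp) (Subgroup.mem_sup_right this)
      obtain ⟨y, hy, hyle⟩ := exists_conj_le_sylow_of hBL ((P.2.to_le inf_le_right).map _) le_sup_left P.2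
        (not_dvd_relIndex_sylow P le_sup_left)
      obtain ⟨p, hp, k, hk, rfl⟩ := CfsgLib.Techniques.exists_mul_of_mem_sup
        (fun p _ => normalizer_eq_top K ▸ mem_top p) hy
      obtain ⟨m, hm, hme⟩ := hM B inf_le_right (k * g) fun b hb => by
        have := hyle ⟨g * b * g⁻¹, ⟨b, hb, rfl⟩, rfl⟩
        have h1 := mul_mem (mul_mem (inv_mem hp) this) hp
        simpa [mul_assoc] using h1
      refine ⟨f m, mem_map_of_mem f hm, fun a ha => ?_⟩
      obtain ⟨b, hb, rfl⟩ := hBA a ha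
      have e := congrArg f (hme b hb)
      have hk1 : f k = 1 := (QuotientGroup.eq_one_iff k).2 hk
      simp only [map_mul, map_inv, mul_inv_rev, hk1, one_mul, inv_one, mul_one] at e
      exact e

end Config

end CfsgLib.SFour
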