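import Cfsg.Agent.Lib.SFour.ThetaLists
import Cfsg.Agent.Lib.SFour.Translate

set_option autoImplicit false
set_option linter.unusedSectionVars false
set_option linter.style.haveILetI false

/-! The induction step when the closure of the central elements is all of `M`. -/

namespace CfsgLib.SFour

open Subgroup IsMulCommutative CfsgLib.Techniques CfsgLib.Techniques.SThree CfsgLib.LLemma
open scoped commutatorElement

universe u

/-- The hypothesis on smaller 2-groups: one subgroup above `K` controls fusion modulo `K` in all models. -/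
def CtrlBelow (n : ℕ) : Prop :=
  ∀ (Q : Type u) [Group Q] [Finite Q] (K : Subgroup Q) [K.Normal], IsPGroup 2 Q → K ≠ ⊤ →
    Nat.card (Q ⧸ K) < n → ∃ V : Subgroup Q, V.Normal ∧ K < V ∧ ∀ m : Model Q, m.Norm K → m.Ctrl K V

section Frattini

variable {X : Type u} [Group X] [Finite X]

/-- A normal subgroup lies in its 2-residual and a Sylow subgroup. -/
theorem le_residual_sup (P : Sylow 2 X) (C : Subgroup X) [hC : C.Normal] :
    C ≤ Cfsg.pResidualOf 2 C ⊔ P := by
  haveI : Fact (Nat.Prime 2) := ⟨Nat.prime_two⟩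
  set C₀ := Cfsg.pResidualOf 2 C
  haveI : C₀.Normal := normalizer_eq_top_iff.1
    (top_le_iff.1 ((normalizer_eq_top C).ge.trans (normalizer_le_normalizer_residual C)))
  set π := QuotientGroup.mk' C₀
  have hp : IsPGroup 2 (C.map π) := by
    rintro ⟨_, x, hx, rfl⟩
    obtain ⟨k, hk⟩ := exists_pow_residual hx
    exact ⟨k, Subtype.ext ((QuotientGroup.eq_one_iff (x ^ 2 ^ k)).2 hk)⟩
  have hle : C.map π ≤ (P.mapSurjective (QuotientGroup.mk'_surjective C₀) : Subgroup (X ⧸ C₀)) :=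
    (CfsgLib.PCore.le_pCore (hC.map π (QuotientGroup.mk'_surjective C₀)) hp).trans (CfsgLib.PCore.pCore_le_sylow _)
  rw [Sylow.coe_mapSurjective, Subgroup.map_le_iff_le_comap, comap_map_eq, QuotientGroup.ker_mk'] at hle
  exact hle.trans (sup_comm _ _).le

/-- The Frattini argument from control of fusion. -/
theorem sup_residual_eq_top (P : Sylow 2 X) {M : Subgroup X} (hPM : (P : Subgroup X) ≤ M)
    (hctrl : ∀ A : Subgroup X, A ≤ P → ∀ g : X, (∀ a ∈ A, g * a * g⁻¹ ∈ (P : Subgroup X)) →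
      ∃ m ∈ M, ∀ a ∈ A, g * a * g⁻¹ = m * a * m⁻¹) :
    M ⊔ Cfsg.pResidualOf 2 (centralizer (Cfsg.pCore 2 X : Set X)) = ⊤ := by
  haveI : Fact (Nat.Prime 2) := ⟨Nat.prime_two⟩
  set R := Cfsg.pCore 2 X
  haveI : R.Normal := Cfsg.pCore_normal 2 X
  haveI : (centralizer (R : Set X)).Normal := Subgroup.normal_centralizer
  refine eq_top_iff.2 fun g _ => ?_
  obtain ⟨m, hm, e⟩ := hctrl R (CfsgLib.PCore.pCore_le_sylow P) g fun a ha =>
    CfsgLib.PCore.pCore_le_sylow P ((inferInstance : R.Normal).conj_mem a ha g)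
  have hc : m⁻¹ * g ∈ centralizer (R : Set X) := mem_centralizer_iff.2 fun a ha => by
    have h1 := e a ha
    calc a * (m⁻¹ * g) = m⁻¹ * (m * a * m⁻¹) * g := by group
      _ = m⁻¹ * g * a := by rw [← h1]; group
  rw [show g = m * (m⁻¹ * g) by group]
  refine mul_mem (Subgroup.mem_sup_left hm) ?_
  exact (sup_le le_sup_right ((le_trans hPM) le_sup_left) :
    Cfsg.pResidualOf 2 (centralizer (R : Set X)) ⊔ P ≤ _) (le_residual_sup P _ hc)

end Frattini

variable {S : Type u} [Group S] [Finite S] {M : Subgroup S} [M.Normal] [IsMulCommutative M]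

/-- The image of a model as a model of the image of `S`. -/
noncomputable def imgModel {m : Model S} (h : m.Norm M) (h2 : ∀ x ∈ M, x ^ 2 = 1) : Model (bar M).range where
  G := Img M m
  emb := Subgroup.inclusion (bar_le_img h)
  inj := Subgroup.inclusion_injective _
  syl := by
    obtain ⟨P, hP⟩ := exists_sylow_img h
    refine ⟨P, ?_⟩
    ext x
    constructor
    · intro hx
      exact ⟨⟨x, hP.le ⟨x, hx, rfl⟩⟩, Subtype.ext rfl⟩
    · rintro ⟨y, rfl⟩
      obtain ⟨z, hz, e⟩ := hP.ge y.2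
      exact (Subtype.ext e : z = Subgroup.inclusion (bar_le_img h) y) ▸ hz
  free := (img_s3Free h h2).sfour

theorem card_bar_range_lt (hS : IsPGroup 2 S) (hne : M ≠ ⊥) : Nat.card (bar M).range < Nat.card S := by
  have hker : M ≤ (bar M).ker := fun x hx => MulEquiv.ext fun y => Subtype.ext (by
    show ((MulAut.conjNormal x y : M) : S) = y
    rw [MulAut.conjNormal_apply, show x * (y : S) = y * x from
      congrArg Subtype.val (mul_comm' (⟨x, hx⟩ : M) y), mul_inv_cancel_right])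
  rw [← (bar M).ker.index_mul_card, index_ker]
  refine lt_mul_of_one_lt_right Nat.card_pos ?_
  haveI : Nontrivial (bar M).ker := (bar M).ker.nontrivial_iff_ne_bot.2 fun e => hne (le_bot_iff.1 (e ▸ hker))
  exact Finite.one_lt_card

/-- The step when no smaller invariant subgroup contains the central elements. -/
theorem caseA (c : Ctx S) (hS : IsPGroup 2 S) (hC : CtrlBelow.{u} (Nat.card S)) (hMN : M ≤ c.N) {v₀ : S}
    (hv₀ : v₀ ∈ M) (hv₀U : v₀ ∉ c.d.U) (l : List (Model S)) (hl : ∀ m ∈ l, m.Norm M)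
    (hcl : ∀ K : Subgroup S, K.Normal → M ⊓ center S ≤ K → K ≤ M → (∀ m ∈ l, m.Norm K) → K = M)
    (ih : ∀ l' : List (Model S), msr l' < msr l → (∀ m ∈ l', m.Norm M) → Settled M c l') : Settled M c l := by
  classical
  haveI : Fact (Nat.Prime 2) := ⟨Nat.prime_two⟩
  have h2 := c.sq_M hMN
  set ρ := repM M with hρ
  set T := c.d.T.map (bar M) with hT
  set P0 := (bar M).range with hP0
  have hcfg := c.config hMN hv₀ hv₀U
  have hne : M ≠ ⊥ := fun e => by
    rw [e, Subgroup.mem_bot] at hv₀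
    exact hv₀U (hv₀ ▸ one_mem _)
  have hTP : T ≤ P0 := by rintro _ ⟨s, -, rfl⟩; exact ⟨s, rfl⟩
  have hP0p : IsPGroup 2 P0 := hS.of_surjective (bar M).rangeRestrict (bar M).rangeRestrict_surjective
  have hne1 : (⊥ : Subgroup P0) ≠ ⊤ := by
    intro e
    obtain ⟨t, ht, ht1⟩ := hcfg.exists_move
    have : (⟨t, hTP ht⟩ : P0) ∈ (⊥ : Subgroup P0) := e ▸ mem_top _
    exact ht1 (by rw [show t = 1 from congrArg Subtype.val (Subgroup.mem_bot.1 this), map_one])
  obtain ⟨V, hV, hVlt, hVctrl⟩ := hC P0 ⊥ hP0p hne1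
    (by rw [Nat.card_congr (QuotientGroup.quotientBot (G := P0)).toEquiv]; exact card_bar_range_lt hS hne)
  set Vb := V.map P0.subtype with hVb
  have hVbP : Vb ≤ P0 := map_subtype_le V
  have hP0V : P0 ≤ normalizer (Vb : Set (MulAut M)) := by
    intro x hx
    exact le_normalizer_map P0.subtype ⟨⟨x, hx⟩, normalizer_eq_top V ▸ mem_top _, rfl⟩
  -- some image does not normalise `Vb`
  obtain ⟨m, hm, hmV⟩ : ∃ m ∈ l, ¬ Img M m ≤ normalizer (Vb : Set (MulAut M)) := by
    by_contra! hall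
    have hfix : fixSub M Vb = M := hcl _ (fixSub_normal hP0V) (inf_center_le_fixSub hVbP) (fixSub_le _)
      fun m hm => fixSub_norm (hl m hm) (hall m hm)
    refine hVlt.not_ge fun x hx => Subgroup.mem_bot.2 (Subtype.ext ?_)
    exact Subgroup.mem_bot.1 (eq_one_of_fixSub_eq hfix.ge ▸ mem_map_of_mem P0.subtype hx)
  obtain ⟨l₁, l₂, rfl⟩ := List.append_of_mem hm
  have hmM := hl m hm
  have hrest : ∀ m' ∈ l₁ ++ l₂, m'.Norm M := fun m' h' => hl m' (by
    rcases List.mem_append.1 h' with h | h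
    · exact List.mem_append_left _ h
    · exact List.mem_append_right _ (List.mem_cons_of_mem _ h))
  set a := m.act M hmM with ha
  set H := Img M m with hH
  have hHeq : H = a.range := img_eq hmM
  have hP0H : P0 ≤ H := bar_le_img hmM
  have hemb : ∀ {K : Subgroup (MulAut M)}, P0 ≤ K → m.emb.range ≤ K.comap a := by
    rintro K hK _ ⟨s, rfl⟩
    exact hK ⟨s, (m.act_emb M hmM s).symm⟩
  have hproper : ∀ {K : Subgroup (MulAut M)}, ¬ H ≤ K → K.comap a ≠ ⊤ := fun hK e => hK (by
    rw [hHeq, MonoidHom.range_eq_map, Subgroup.map_le_iff_le_comap, e])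
  set Nv := normalizer (Vb : Set (MulAut M)) with hNv
  set m₁ := m.sub (Nv.comap a) (hemb hP0V) with hm₁
  have hm₁M : m₁.Norm M := m.norm_sub_of_norm _ hmM
  have hm₁i : Img M m₁ = H ⊓ Nv := by
    rw [hm₁, img_sub_le hmM, map_comap_eq, hHeq]
  have hcard₁ : Nat.card m₁.G < Nat.card m.G := m.card_sub_lt _ (hproper hmV)
  obtain ⟨Z₁, hZ₁P, hTZ₁, hPZ₁, hZ₁⟩ := ih ([m₁] ++ (l₁ ++ l₂)) (msr_replace (msr_one hcard₁)) fun m' h' => by
    rcases List.mem_append.1 h' with h | h
    · rw [List.mem_singleton.1 h]; exact hm₁M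
    · exact hrest m' h
  set G := imgSup M ([m₁] ++ (l₁ ++ l₂)) with hG
  have hGZ₁ : G ≤ normalizer (Z₁ : Set (MulAut M)) := imgSup_le hPZ₁ hZ₁
  set Z := transl G T with hZ
  have hZP : Z ≤ P0 := (transl_le hTZ₁ hGZ₁).trans hZ₁P
  have hM₁G : H ⊓ Nv ≤ G := hm₁i ▸ img_le_imgSup (List.mem_append_left _ List.mem_cons_self)
  refine ⟨Z, hZP, le_transl, le_sup_left.trans le_normalizer_transl, fun m' h' => ?_⟩
  by_cases hmm : m' ∈ l₁ ++ l₂
  · exact (img_le_imgSup (List.mem_append_right _ hmm)).trans le_normalizer_transl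
  have hm' : m' = m := by
    rcases List.mem_append.1 h' with h | h
    · exact absurd (List.mem_append_left _ h) hmm
    · rcases List.mem_cons.1 h with h | h
      · exact h
      · exact absurd (List.mem_append_right _ h) hmm
  rw [hm']
  clear hmm h' hm' m'
  -- the group `H`
  obtain ⟨Q, hQ⟩ := exists_sylow_img hmM
  have hQmem : ∀ x : H, x ∈ (Q : Subgroup H) ↔ (x : MulAut M) ∈ P0 := fun x => by
    refine ⟨fun hx => hQ.le ⟨x, hx, rfl⟩, fun hx => ?_⟩
    obtain ⟨y, hy, e⟩ := hQ.ge hx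
    exact (Subtype.ext e : y = x) ▸ hy
  set M₁ := Nv.subgroupOf H with hM₁
  have hQM₁ : (Q : Subgroup H) ≤ M₁ := fun x hx => hP0V ((hQmem x).1 hx)
  have hM₁top : M₁ ≠ ⊤ := fun e => hmV (Subgroup.subgroupOf_eq_top.1 e)
  have hctrl : ∀ A : Subgroup H, A ≤ Q → ∀ g : H, (∀ x ∈ A, g * x * g⁻¹ ∈ (Q : Subgroup H)) →
      ∃ n ∈ M₁, ∀ x ∈ A, g * x * g⁻¹ = n * x * n⁻¹ := by
    intro A hA g hg
    let mm := imgModel hmM h2
    have hmem : ∀ {x : H}, x ∈ (Q : Subgroup H) → ∃ y : P0, mm.emb y = x := fun {x} hx =>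
      ⟨⟨x, (hQmem x).1 hx⟩, Subtype.ext rfl⟩
    obtain ⟨n, hn, he⟩ := hVctrl mm mm.norm_bot (A.comap (Subgroup.inclusion hP0H)) g (by
      intro y hy
      obtain ⟨z, hz⟩ := hmem (hg _ hy)
      exact ⟨z, hz⟩)
    refine ⟨n, ?_, fun x hx => ?_⟩
    · refine Subgroup.mem_normalizer_fintype fun v hv => ?_
      obtain ⟨w, hw, rfl⟩ := hv
      obtain ⟨w', hw', e⟩ := (mem_normalizer_iff.1 hn (mm.emb w)).1 ⟨w, hw, rfl⟩
      exact ⟨w', hw', congrArg Subtype.val e⟩
    · obtain ⟨y, rfl⟩ := hmem (hA hx)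
      have h1 := he y hx
      rw [Subgroup.map_bot, Subgroup.mem_bot, mul_inv_eq_one] at h1
      exact h1
  -- every translate centralizes the residual
  set C₀ := Cfsg.pResidualOf 2 (centralizer (Cfsg.pCore 2 H : Set H))
  have hcent : ∀ g ∈ G, ∀ t ∈ T, ∀ x ∈ C₀, (x : MulAut M) * (g * t * g⁻¹) = g * t * g⁻¹ * x := by
    intro g hg t ht x hx
    set Tg := T.map (MulAut.conj g).toMonoidHom with hTg
    have hTgP : Tg ≤ P0 := (conj_le_transl hg).trans hZP
    have hcfg' := (hcfg.conj g).comp H.subtype H.subtype_injective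
      (map_subgroupOf_eq_of_le (hTgP.trans hP0H))
    have hover : ∀ Y : Subgroup H, (Q : Subgroup H) ≤ Y → Y ≠ ⊤ → Tg.subgroupOf H ≤ Cfsg.pCoreOf 2 Y := by
      intro Y hQY hY
      set Yb := Y.map H.subtype with hYb
      have hPY : P0 ≤ Yb := fun y hy => ⟨⟨y, hP0H hy⟩, hQY ((hQmem _).2 hy), rfl⟩
      set m₂ := m.sub (Yb.comap a) (hemb hPY) with hm₂
      have hYH : ¬ H ≤ Yb := fun hle => hY (eq_top_iff.2 fun y _ => by
        obtain ⟨z, hz, e⟩ := hle y.2
        exact (Subtype.ext e : z = y) ▸ hz)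
      have hcard₂ : Nat.card m₂.G < Nat.card m.G := m.card_sub_lt _ (hproper hYH)
      have hm₂M : m₂.Norm M := m.norm_sub_of_norm _ hmM
      obtain ⟨Z₂, hZ₂P, hTZ₂, hPZ₂, hZ₂⟩ := ih ([m₁, m₂] ++ (l₁ ++ l₂)) (msr_replace (msr_two hcard₁ hcard₂))
        fun m' h' => by
          rcases List.mem_append.1 h' with h | h
          · rcases List.mem_cons.1 h with h | h
            · rw [h]; exact hm₁M
            · rw [List.mem_singleton.1 h]; exact hm₂M
          · exact hrest m' h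
      have hGZ₂ : G ≤ normalizer (Z₂ : Set (MulAut M)) := imgSup_le hPZ₂ fun m' h' => hZ₂ m' (by
        rcases List.mem_append.1 h' with h | h
        · rw [List.mem_singleton.1 h]; exact List.mem_append_left _ List.mem_cons_self
        · exact List.mem_append_right _ h)
      have hYZ₂ : Yb ≤ normalizer (Z₂ : Set (MulAut M)) := by
        have h1 := hZ₂ m₂ (List.mem_append_left _ (List.mem_cons_of_mem _ List.mem_cons_self))
        rw [hm₂, img_sub_le hmM, map_comap_eq, ← hHeq, inf_eq_right.2 (map_subtype_le Y)] at h1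
        exact h1
      refine le_trans (Subgroup.comap_mono ((conj_le_transl hg).trans (transl_le hTZ₂ hGZ₂))) ?_
      refine le_pCoreOf (fun y hy => hQY ((hQmem y).2 (hZ₂P hy)))
        (fun y hy => Subgroup.mem_normalizer_fintype fun z hz =>
          (mem_normalizer_iff.1 (hYZ₂ ⟨y, hy, rfl⟩) (z : MulAut M)).1 hz) ?_
      exact (hP0p.to_le hZ₂P).comap_subtype
    have h1 := hcfg'.central_residual (fun y hy => Subtype.ext (repM_faithful _ hy)) (two_eq_zero h2)
      (img_s3Free hmM h2) Q (fun y hy => (hQmem y).2 (hTgP hy)) hover ⟨M₁, hQM₁, hM₁top, hctrl⟩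
      (⟨g * t * g⁻¹, hP0H (hTgP ⟨t, ht, rfl⟩)⟩ : H) ⟨t, ht, rfl⟩ x hx
    exact congrArg Subtype.val h1
  -- hence `H` normalises the join of the translates
  have hC₀Z : C₀.map H.subtype ≤ normalizer (Z : Set (MulAut M)) := by
    rintro _ ⟨x, hx, rfl⟩
    have hle : Z ≤ centralizer ({(x : MulAut M)} : Set (MulAut M)) := by
      refine iSup_le fun g => ?_
      rintro _ ⟨t, ht, rfl⟩
      exact mem_centralizer_singleton_iff.2 (hcent g g.2 t ht x hx).symm
    refine Subgroup.mem_normalizer_fintype fun z hz => ?_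
    show (x : MulAut M) * z * (x : MulAut M)⁻¹ ∈ Z
    rw [← mem_centralizer_singleton_iff.1 (hle hz), mul_inv_cancel_right]
    exact hz
  calc H = (⊤ : Subgroup H).map H.subtype := by rw [← MonoidHom.range_eq_map, range_subtype]
    _ = (M₁ ⊔ C₀).map H.subtype := by rw [sup_residual_eq_top Q hQM₁ hctrl]
    _ ≤ _ := by
      rw [Subgroup.map_sup]
      exact sup_le (((subgroupOf_map_subtype Nv H).le.trans (inf_comm Nv H).le).trans
        (hM₁G.trans le_normalizer_transl)) hC₀Z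

end CfsgLib.SFour
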