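import Cfsg.Agent.Lib.SFour.ThetaCaseA
import Cfsg.Agent.Lib.SFour.Gap

set_option autoImplicit false
set_option linter.unusedSectionVars false
set_option linter.style.haveILetI false

/-! The induction step when some nontrivial subgroup is normal in `m₀` and in all models of the list. -/

namespace CfsgLib.SFour

open Subgroup IsMulCommutative CfsgLib.Techniques CfsgLib.Techniques.SThree CfsgLib.LLemma
open scoped commutatorElement

universe u

variable {S : Type u} [Group S] [Finite S]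

/-- Common normal subgroups have a central step below a larger one. -/
theorem exists_next (hS : IsPGroup 2 S) {Com : Subgroup S → Prop} {Ns I : Subgroup S}
    (hCom : ∀ K, Com K ↔ (∀ m : Model S, (∀ L, Com L → m.Norm L) → m.Norm K) ∧ K.Normal)
    (hNs : Com Ns) (hI : Com I) (hlt : I < Ns) :
    ∃ Ni, Com Ni ∧ I < Ni ∧ Ni ≤ Ns ∧ ⁅Ni, Ns⁆ ≤ I := by
  haveI : Fact (Nat.Prime 2) := ⟨Nat.prime_two⟩
  haveI hIn : I.Normal := ((hCom I).1 hI).2
  haveI hNn : Ns.Normal := ((hCom Ns).1 hNs).2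
  set π := QuotientGroup.mk' I
  set A := Ns.map π with hA
  haveI : A.Normal := hNn.map π (QuotientGroup.mk'_surjective I)
  set Ni := (centralizer (A : Set (S ⧸ I))).comap π ⊓ Ns with hNi
  have hmem : ∀ {x : S}, x ∈ Ni ↔ x ∈ Ns ∧ ∀ y ∈ Ns, ⁅x, y⁆ ∈ I := by
    intro x
    constructor
    · rintro ⟨hx, hxN⟩
      refine ⟨hxN, fun y hy => (QuotientGroup.eq_one_iff _).1 ?_⟩
      show π ⁅x, y⁆ = 1
      rw [map_commutatorElement, commutatorElement_eq_one_iff_mul_comm]
      exact (mem_centralizer_iff.1 hx _ ⟨y, hy, rfl⟩).symm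
    · rintro ⟨hxN, hx⟩
      refine ⟨mem_centralizer_iff.2 ?_, hxN⟩
      rintro _ ⟨y, hy, rfl⟩
      have h1 : π ⁅x, y⁆ = 1 := (QuotientGroup.eq_one_iff _).2 (hx y hy)
      rw [map_commutatorElement, commutatorElement_eq_one_iff_mul_comm] at h1
      exact h1.symm
  refine ⟨Ni, (hCom Ni).2 ⟨fun m hm => ?_, inferInstance⟩, ?_, inf_le_right,
    commutator_le.2 fun x hx y hy => (hmem.1 hx).2 y hy⟩
  · have hmI := hm I hI
    have hmN := hm Ns hNs
    refine ⟨?_⟩
    rintro _ ⟨x, hx, rfl⟩ g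
    obtain ⟨x', hx', e⟩ := m.conj_mem hmN g (hmem.1 hx).1
    refine ⟨x', hmem.2 ⟨hx', fun y hy => ?_⟩, e⟩
    obtain ⟨y', hy', e'⟩ := m.conj_mem hmN g⁻¹ hy
    rw [inv_inv] at e'
    obtain ⟨z, hz, e''⟩ := m.conj_mem hmI g ((hmem.1 hx).2 y' hy')
    have : m.emb ⁅x', y⁆ = m.emb z := by
      rw [e'', map_commutatorElement, map_commutatorElement, e, e']
      simp only [commutatorElement_def]; group
    exact (m.inj this).symm ▸ hz
  · refine lt_of_le_not_ge (fun x hx => hmem.2 ⟨hlt.le hx, fun y _ => ?_⟩) ?_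
    · rw [commutatorElement_def, mul_assoc, mul_assoc, ← mul_assoc y]
      exact mul_mem hx (hIn.conj_mem _ (inv_mem hx) y)
    · intro hle
      have hAne : A ≠ ⊥ := fun e => hlt.not_ge (by
        rwa [hA, Subgroup.map_eq_bot_iff, QuotientGroup.ker_mk'] at e)
      haveI : Nontrivial A := A.nontrivial_iff_ne_bot.2 hAne
      haveI := ((hS.to_quotient I).to_subgroup A).center_nontrivial
      obtain ⟨z, hz⟩ := exists_ne (1 : Subgroup.center A)
      obtain ⟨x, hx, e⟩ := (z : A).2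
      have hxNi : x ∈ Ni := ⟨mem_centralizer_iff.2 fun a ha => by
        rw [e]
        exact congrArg Subtype.val (Subgroup.mem_center_iff.1 z.2 ⟨a, ha⟩), hx⟩
      refine hz (Subtype.ext (Subtype.ext ?_))
      rw [← e]
      exact (QuotientGroup.eq_one_iff x).2 (hle hxNi)

/-- Odd elements have their commutators in a normal subgroup if they centralize the core modulo it. -/
theorem comm_mem_of_odd {X : Type*} [Group X] {N O : Subgroup X} {c x : X} (hc : (orderOf c).Coprime 2)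
    (hn : c ∈ normalizer (N : Set X)) (hO : IsPGroup 2 O) (hcx : ⁅c, x⁆ ∈ O) (hco : ∀ o ∈ O, ⁅c, o⁆ ∈ N)
    (hON : O ≤ normalizer (N : Set X)) : ⁅c, x⁆ ∈ N := by
  set L := closure ({c} ∪ (O : Set X)) ⊔ N with hL
  have hcO : closure ({c} ∪ (O : Set X)) ≤ normalizer (N : Set X) := (closure_le _).2 (by
    rintro y (rfl | hy)
    · exact hn
    · exact hON hy)
  haveI : (N.subgroupOf L).Normal := ⟨fun y hy g =>
    (mem_normalizer_iff.1 ((sup_le hcO le_normalizer : L ≤ _) g.2) _).1 hy⟩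
  set π := QuotientGroup.mk' (N.subgroupOf L)
  set c' : L := ⟨c, Subgroup.mem_sup_left (subset_closure (Or.inl rfl))⟩
  set y : L := ⟨⁅c, x⁆, Subgroup.mem_sup_left (subset_closure (Or.inr hcx))⟩
  have hcy : Commute (π c') (π y) := by
    refine commutatorElement_eq_one_iff_mul_comm.1 ?_
    rw [← map_commutatorElement]
    exact (QuotientGroup.eq_one_iff _).2 (hco _ hcx)
  have key : ∀ n : ℕ, ∃ h : ⁅c ^ n, x⁆ ∈ L, π ⟨_, h⟩ = π y ^ n := by
    intro n
    induction n with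
    | zero =>
      refine ⟨by rw [pow_zero, commutatorElement_one_left]; exact one_mem _, ?_⟩
      refine (congrArg π (Subtype.ext ?_)).trans ((map_one π).trans (pow_zero _).symm)
      show ⁅c ^ 0, x⁆ = 1
      rw [pow_zero, commutatorElement_one_left]
    | succ n ih =>
      obtain ⟨h, e⟩ := ih
      have e1 : ⁅c ^ (n + 1), x⁆ = ((c' ^ n * y * (c' ^ n)⁻¹ * ⟨_, h⟩ : L) : X) := by
        rw [Subgroup.coe_mul, Subgroup.coe_mul, Subgroup.coe_mul, Subgroup.coe_inv, SubmonoidClass.coe_pow,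
          pow_succ c n]
        simp only [c', y, commutatorElement_def]
        group
      refine ⟨e1 ▸ SetLike.coe_mem _, ?_⟩
      rw [show (⟨_, e1 ▸ SetLike.coe_mem _⟩ : L) = c' ^ n * y * (c' ^ n)⁻¹ * ⟨_, h⟩ from Subtype.ext e1]
      rw [map_mul, map_mul, map_mul, map_inv, map_pow, e, (hcy.pow_left n).eq, mul_inv_cancel_right, pow_succ']
  obtain ⟨h, e⟩ := key (orderOf c)
  have h0 : π y ^ orderOf c = 1 := by
    rw [← e, ← map_one π]
    exact congrArg π (Subtype.ext (show ⁅c ^ orderOf c, x⁆ = 1 by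
      rw [pow_orderOf_eq_one, commutatorElement_one_left]))
  obtain ⟨k, hk⟩ := hO ⟨_, hcx⟩
  have h2 : π y ^ 2 ^ k = 1 := by
    rw [← map_pow, ← map_one π]
    refine congrArg π (Subtype.ext ?_)
    rw [SubmonoidClass.coe_pow, OneMemClass.coe_one]
    exact congrArg Subtype.val hk
  have h3 : π y = 1 := eq_one_of_odd_of_two_pow (hc.coprime_dvd_left (orderOf_dvd_of_pow_eq_one h0)) h2
  exact (QuotientGroup.eq_one_iff y).1 h3

variable {M : Subgroup S} [M.Normal] [IsMulCommutative M]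

/-- The step when a nontrivial subgroup is common. -/
theorem caseC (c : Ctx S) (hS : IsPGroup 2 S) (hC : CtrlBelow.{u} (Nat.card S)) (hMN : M ≤ c.N) {v₀ : S}
    (hv₀ : v₀ ∈ M) (hv₀U : v₀ ∉ c.d.U) (l : List (Model S)) (hl : ∀ m ∈ l, m.Norm M)
    {X : Subgroup S} (hX₀ : c.m₀.Norm X) (hXne : X ≠ ⊥) (hXl : ∀ m ∈ l, m.Norm X)
    (ih : ∀ l' : List (Model S), msr l' < msr l → (∀ m ∈ l', m.Norm M) → Settled M c l') : Settled M c l := by
  classical
  haveI : Fact (Nat.Prime 2) := ⟨Nat.prime_two⟩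
  haveI := c.comm
  have h2 := c.sq_M hMN
  set ρ := repM M with hρ
  set b := bar M with hb
  set T := c.d.T.map b with hT
  set P0 := b.range with hP0
  have hP0p : IsPGroup 2 P0 := hS.of_surjective b.rangeRestrict b.rangeRestrict_surjective
  have hTP : T ≤ P0 := by rintro _ ⟨s, -, rfl⟩; exact ⟨s, rfl⟩
  have hbarK : ∀ {K : Subgroup S}, K.Normal → P0 ≤ normalizer ((K.map b : Subgroup (MulAut M)) : Set (MulAut M)) := by
    rintro K hK _ ⟨s, rfl⟩
    haveI := hK
    exact le_normalizer_map b ⟨s, normalizer_eq_top K ▸ mem_top s, rfl⟩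
  -- the common subgroups
  set Com : Subgroup S → Prop := fun K => c.m₀.Norm K ∧ ∀ m ∈ l, m.Norm K with hCom
  have hComN : ∀ K, Com K → K.Normal := fun K hK => hK.1.normal
  obtain ⟨Ns, hNs⟩ := Set.Finite.exists_maximal (s := {K : Subgroup S | Com K ∧ X ≤ K}) (Set.toFinite _)
    ⟨X, ⟨hX₀, hXl⟩, le_rfl⟩
  obtain ⟨hNsC, hXNs⟩ := hNs.prop
  haveI := hComN _ hNsC
  by_cases hTNs : T ≤ Ns.map b
  · exact ⟨Ns.map b, by rintro _ ⟨s, -, rfl⟩; exact ⟨s, rfl⟩, hTNs, hbarK inferInstance,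
      fun m hm => img_le_normalizer_bar (hl m hm) (hNsC.2 m hm)⟩
  have hNstop : Ns ≠ ⊤ := fun e => hTNs (by
    rw [e, ← MonoidHom.range_eq_map]; exact hTP)
  obtain ⟨V, hV, hVlt, hVctrl⟩ := hC S Ns hS hNstop (by
    rw [← Subgroup.index, ← Ns.index_mul_card]
    refine lt_mul_of_one_lt_right (Nat.pos_of_ne_zero Subgroup.index_ne_zero_of_finite) ?_
    haveI : Nontrivial Ns := Ns.nontrivial_iff_ne_bot.2 fun e => hXne (le_bot_iff.1 (e ▸ hXNs))
    exact Finite.one_lt_card)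
  -- if `V` is not normal in `m₀`, `T` descends
  by_cases hV₀ : c.m₀.Norm V
  swap
  · refine absurd ?_ hTNs
    rintro _ ⟨f, hf, rfl⟩
    have hn : Ns ≤ normalizer (c.N : Set S) := fun x _ => c.good.norm (mem_top x)
    have hf' := c.descend Ns V hVlt.le hV hNsC.1 (hVctrl c.m₀ hNsC.1) hV₀ hf
    rw [sup_comm] at hf'
    obtain ⟨x, hx, n, hn', rfl⟩ := exists_mul_of_mem_sup hn hf'
    rw [map_mul, c.bar_N hMN hn', mul_one]
    exact mem_map_of_mem b hx
  obtain ⟨m, hm, hmV⟩ : ∃ m ∈ l, ¬ m.Norm V := by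
    by_contra! hall
    exact hVlt.not_ge (hNs.le_of_ge ⟨⟨hV₀, hall⟩, hXNs.trans hVlt.le⟩ hVlt.le)
  obtain ⟨l₁, l₂, rfl⟩ := List.append_of_mem hm
  have hmM := hl m hm
  have hrest : ∀ m' ∈ l₁ ++ l₂, m' ∈ l₁ ++ m :: l₂ := fun m' h' => by
    rcases List.mem_append.1 h' with h | h
    · exact List.mem_append_left _ h
    · exact List.mem_append_right _ (List.mem_cons_of_mem _ h)
  have hcases : ∀ m' ∈ l₁ ++ m :: l₂, m' = m ∨ m' ∈ l₁ ++ l₂ := fun m' h' => by
    rcases List.mem_append.1 h' with h | h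
    · exact Or.inr (List.mem_append_left _ h)
    · rcases List.mem_cons.1 h with h | h
      · exact Or.inl h
      · exact Or.inr (List.mem_append_right _ h)
  set a := m.act M hmM with ha
  set H := Img M m with hH
  have hHeq : H = a.range := img_eq hmM
  have hP0H : P0 ≤ H := bar_le_img hmM
  have hmapb : ∀ K : Subgroup S, (K.map m.emb).map a = K.map b := fun K => by
    rw [Subgroup.map_map]
    exact congrArg (Subgroup.map · K) (MonoidHom.ext fun s => m.act_emb M hmM s)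
  -- reduce to a model whose image has its core from the core
  obtain ⟨P, hP⟩ := m.syl
  obtain ⟨Q, hQ⟩ := exists_sylow_img hmM
  set OH := Cfsg.pCoreOf 2 H with hOH
  have hOHP : OH ≤ P0 := by
    exact fun x hx => hQ.le (Subgroup.map_mono (CfsgLib.PCore.pCore_le_sylow Q) hx)
  set J := OH.comap a with hJ
  haveI hJn : J.Normal := ⟨fun x hx g =>
    (by
      show a (g * x * g⁻¹) ∈ OH
      rw [map_mul, map_mul, map_inv]
      exact (mem_normalizer_iff.1 (le_normalizer_pCoreOf H (hHeq ▸ ⟨g, rfl⟩ : a g ∈ H)) _).1 hx)⟩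
  set R := (P : Subgroup m.G) ⊓ J with hR
  set H₁ := normalizer (R : Set m.G) with hH₁
  have hPH₁ : m.emb.range ≤ H₁ := by
    rw [← hP]
    exact fun x hx => mem_normalizer_inf (le_normalizer hx) (normalizer_eq_top J ▸ mem_top x)
  by_cases hH₁top : H₁ = ⊤
  swap
  · have himg : Img M (m.sub H₁ hPH₁) = H := by
      rw [img_sub_le hmM, hHeq]
      refine le_antisymm (map_le_range a _) ?_
      rintro _ ⟨g, rfl⟩
      obtain ⟨n, hn, k, hk, rfl⟩ := exists_eq_mul_normalizer_inf P J g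
      rw [map_mul]
      refine mul_mem ?_ (mem_map_of_mem a hk)
      obtain ⟨s, hs⟩ := hOHP hn
      exact ⟨m.emb s, hPH₁ ⟨s, rfl⟩, (m.act_emb M hmM s).trans hs⟩
    obtain ⟨Z, hZP, hTZ, hPZ, hZ⟩ := ih ([m.sub H₁ hPH₁] ++ (l₁ ++ l₂))
      (msr_replace (msr_one (m.card_sub_lt hPH₁ hH₁top))) fun m' h' => by
        rcases List.mem_append.1 h' with h | h
        · rw [List.mem_singleton.1 h]; exact m.norm_sub_of_norm _ hmM
        · exact hl m' (hrest m' h)
    refine ⟨Z, hZP, hTZ, hPZ, fun m' h' => ?_⟩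
    rcases hcases m' h' with rfl | h
    · exact himg.ge.trans (hZ _ (List.mem_append_left _ List.mem_cons_self))
    · exact hZ m' (List.mem_append_right _ h)
  -- now the core of the image is the image of the core
  set Qc := Cfsg.pCore 2 m.G with hQc
  haveI : Qc.Normal := Cfsg.pCore_normal 2 m.G
  have hQcP : Qc ≤ m.emb.range := hP ▸ CfsgLib.PCore.pCore_le_sylow P
  have hRQ : R ≤ Qc := CfsgLib.PCore.le_pCore (normalizer_eq_top_iff.1 hH₁top) (P.2.to_le inf_le_left)
  have hOHQ : OH ≤ Qc.map a := fun x hx => by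
    obtain ⟨s, rfl⟩ := hOHP hx
    refine ⟨m.emb s, hRQ ⟨hP.ge ⟨s, rfl⟩, ?_⟩, m.act_emb M hmM s⟩
    show a (m.emb s) ∈ OH
    rw [ha, m.act_emb M hmM s]
    exact hx
  set NG := Ns.map m.emb with hNG
  haveI hNGn : NG.Normal := hNsC.2 m hm
  -- the centralizer of the core modulo `Ns`
  set π := QuotientGroup.mk' NG
  set Ch := (centralizer ((Qc.map π : Subgroup (m.G ⧸ NG)) : Set (m.G ⧸ NG))).comap π with hCh
  haveI : (Qc.map π).Normal := Subgroup.Normal.map inferInstance π (QuotientGroup.mk'_surjective NG)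
  haveI hChn : Ch.Normal := Subgroup.Normal.comap Subgroup.normal_centralizer π
  have hChmem : ∀ g ∈ Ch, ∀ q ∈ Qc, ⁅g, q⁆ ∈ NG := fun g hg q hq => (QuotientGroup.eq_one_iff _).1 (by
    show π ⁅g, q⁆ = 1
    rw [map_commutatorElement, commutatorElement_eq_one_iff_mul_comm]
    exact (mem_centralizer_iff.1 hg _ ⟨q, hq, rfl⟩).symm)
  set M₃ := normalizer ((V.map m.emb : Subgroup m.G) : Set m.G) with hM₃
  haveI := hV
  have hM₃P : m.emb.range ≤ M₃ := m.range_le_normalizer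
  have hM₃top : M₃ ≠ ⊤ := fun e => hmV (normalizer_eq_top_iff.1 e)
  have hfrat : ∀ g : m.G, ∃ n ∈ M₃, n⁻¹ * g ∈ Ch := by
    intro g
    obtain ⟨n, hn, e⟩ := hVctrl m (hNsC.2 m hm) (Qc.comap m.emb) g fun x hx =>
      hQcP ((inferInstance : Qc.Normal).conj_mem _ hx g)
    refine ⟨n, hn, mem_centralizer_iff.2 ?_⟩
    rintro _ ⟨q, hq, rfl⟩
    obtain ⟨s, rfl⟩ := hQcP hq
    have h1 : π (g * m.emb s * g⁻¹ * (n * m.emb s * n⁻¹)⁻¹) = 1 :=
      (QuotientGroup.eq_one_iff _).2 (e s hq)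
    rw [map_mul π (g * m.emb s * g⁻¹), map_inv, mul_inv_eq_one] at h1
    simp only [map_mul, map_inv] at h1 ⊢
    calc π (m.emb s) * ((π n)⁻¹ * π g) = (π n)⁻¹ * (π n * π (m.emb s) * (π n)⁻¹) * π g := by group
      _ = (π n)⁻¹ * π g * π (m.emb s) := by rw [← h1]; group
  set C := Ch.map a with hCdef
  have hCH : C ≤ H := hHeq ▸ map_le_range a _
  have hHC : H ≤ normalizer (C : Set (MulAut M)) := by
    rw [hHeq, MonoidHom.range_eq_map, ← normalizer_eq_top Ch]
    exact le_normalizer_map a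
  have hCgap : ∀ x ∈ C, ∀ o ∈ OH, ⁅x, o⁆ ∈ Ns.map b := by
    rintro _ ⟨g, hg, rfl⟩ o ho
    obtain ⟨q, hq, rfl⟩ := hOHQ ho
    rw [← map_commutatorElement, ← hmapb]
    exact mem_map_of_mem a (hChmem g hg q hq)
  have hMQ : M.map m.emb ≤ Qc := CfsgLib.PCore.le_pCore hmM ((hS.to_subgroup M).map _)
  have hCmove : ∀ x ∈ C, ∀ v : Additive M, ρ x v - v ∈ subM M Ns := by
    rintro _ ⟨g, hg, rfl⟩ v
    rw [mem_subM, toMul_sub, div_eq_mul_inv, Subgroup.coe_mul, Subgroup.coe_inv]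
    obtain ⟨z, hz, e⟩ := hChmem g hg (m.emb (v.toMul : S)) (hMQ ⟨_, v.toMul.2, rfl⟩)
    have e' : m.emb z = m.emb ((a g v.toMul : S) * (v.toMul : S)⁻¹) := by
      rw [e, map_mul, map_inv, ha, m.emb_act M hmM g v.toMul, commutatorElement_def]
    exact (m.inj e') ▸ hz
  -- the list with the normaliser of `V`
  set m₃ := m.sub M₃ hM₃P with hm₃
  have hm₃i : Img M m₃ = M₃.map a := img_sub_le hmM hM₃P
  obtain ⟨Z₁, hZ₁P, hTZ₁, hPZ₁, hZ₁⟩ := ih ([m₃] ++ (l₁ ++ l₂))
    (msr_replace (msr_one (m.card_sub_lt hM₃P hM₃top))) fun m' h' => by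
      rcases List.mem_append.1 h' with h | h
      · rw [List.mem_singleton.1 h]; exact m.norm_sub_of_norm _ hmM
      · exact hl m' (hrest m' h)
  set G := imgSup M ([m₃] ++ (l₁ ++ l₂)) with hG
  have hGZ₁ : G ≤ normalizer (Z₁ : Set (MulAut M)) := imgSup_le hPZ₁ hZ₁
  have hGK : ∀ K, Com K → G ≤ setStab ρ (subM M K) ⊓ normalizer ((K.map b : Subgroup (MulAut M)) : Set (MulAut M)) := by
    intro K hK
    haveI := hComN K hK
    refine imgSup_le (le_inf (by rintro _ ⟨s, rfl⟩; exact bar_mem_setStab s) (hbarK inferInstance)) fun m' h' => ?_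
    obtain ⟨hM', hK'⟩ : m'.Norm M ∧ m'.Norm K := by
      rcases List.mem_append.1 h' with h | h
      · rw [List.mem_singleton.1 h]; exact ⟨m.norm_sub_of_norm _ hmM, m.norm_sub_of_norm _ (hK.2 m hm)⟩
      · exact ⟨hl m' (hrest m' h), hK.2 m' (hrest m' h)⟩
    exact le_inf (img_le_setStab hM' hK') (img_le_normalizer_bar hM' hK')
  set Tr := transl G T with hTr
  have hTrP : Tr ≤ P0 := (transl_le hTZ₁ hGZ₁).trans hZ₁P
  have hHK : ∀ K, Com K → H ≤ setStab ρ (subM M K) ⊓ normalizer ((K.map b : Subgroup (MulAut M)) : Set (MulAut M)) :=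
    fun K hK => le_inf (img_le_setStab hmM (hK.2 m hm)) (img_le_normalizer_bar hmM (hK.2 m hm))
  -- the gap lemma for every translate
  have hgap : ∀ w ∈ G, ∀ x ∈ C, ∀ t ∈ T, ⁅x, w * t * w⁻¹⁆ ∈ OH := by
    intro w hw
    set σ := (MulAut.conj w⁻¹).toMonoidHom with hσ
    set C' := C.map σ with hC'
    have hconj : ∀ {K : Subgroup (MulAut M)} {x}, x ∈ K.map σ ↔ w * x * w⁻¹ ∈ K := fun {K x} => by
      rw [Subgroup.mem_map]
      constructor
      · rintro ⟨y, hy, rfl⟩
        simpa [hσ, mul_assoc] using hy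
      · intro h
        exact ⟨_, h, by simp [hσ, mul_assoc]⟩
    have hwT : ∀ t ∈ T, w * t * w⁻¹ ∈ H := fun t ht => hP0H (hTrP (conj_le_transl hw ⟨t, ht, rfl⟩))
    have hCT : C' ⊔ T ≤ H.map σ := sup_le (Subgroup.map_mono hCH) fun t ht => hconj.2 (hwT t ht)
    have hS3 : S3Free ↥(C' ⊔ T) := by
      intro hbad
      obtain ⟨g, hg⟩ : ∃ g : H →* H.map σ, Function.Bijective g :=
        ⟨(H.equivMapOfInjective σ (MulAut.conj w⁻¹).injective).toMonoidHom,
          (H.equivMapOfInjective σ (MulAut.conj w⁻¹).injective).bijective⟩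
      exact (((img_s3Free hmM h2).of_surjective g hg.2).sub ((C' ⊔ T).subgroupOf (H.map σ))).of_surjective
        (subgroupOfEquivOfLe hCT).toMonoidHom (subgroupOfEquivOfLe hCT).surjective hbad
    have hCs : ∀ K, Com K → C' ≤ setStab ρ (subM M K) ⊓ normalizer ((K.map b : Subgroup (MulAut M)) : Set (MulAut M)) := by
      intro K hK x hx
      set L := setStab ρ (subM M K) ⊓ normalizer ((K.map b : Subgroup (MulAut M)) : Set (MulAut M))
      have hwL : w ∈ L := hGK K hK hw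
      have h1 := mul_mem (mul_mem (inv_mem hwL) (hHK K hK (hCH (hconj.1 hx)))) hwL
      rwa [show w⁻¹ * (w * x * w⁻¹) * w = x by group] at h1
    have hwN : w⁻¹ ∈ setStab ρ (subM M Ns) ⊓ normalizer ((Ns.map b : Subgroup (MulAut M)) : Set (MulAut M)) :=
      inv_mem (hGK Ns hNsC hw)
    have h := gap c.d h2 hMN hv₀ hv₀U Com (fun K hK => c.com₀ K hK.1) hComN
      ⟨c.m₀.norm_bot, fun m' _ => m'.norm_bot⟩ hNsC
      (fun I hI hlt => exists_next hS (Com := Com) (fun K => ⟨fun hK => ⟨fun m' h' => h' K hK, hComN K hK⟩,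
        fun ⟨h', _⟩ => ⟨h' c.m₀ fun L hL => hL.1, fun m' hm' => h' m' fun L hL => hL.2 m' hm'⟩⟩) hNsC hI hlt)
      C' hS3 ?_ ?_ ?_ (fun K hK => (hCs K hK).trans inf_le_left) (fun K hK => (hCs K hK).trans inf_le_right)
    · intro x hx t ht
      obtain ⟨f, hf, rfl⟩ := ht
      have h1 := h _ (hconj.2 (by simpa [mul_assoc] using hx) : w⁻¹ * x * w ∈ C') f hf
      have hle : Cfsg.pCoreOf 2 C' ≤ (Cfsg.pCoreOf 2 C).map σ := by
        refine fun y hy => hconj.2 ?_
        refine le_pCoreOf (N := (Cfsg.pCoreOf 2 C').map (MulAut.conj w).toMonoidHom) ?_ ?_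
          ((pCoreOf_isPGroup C').map _) ⟨y, hy, rfl⟩
        · rintro _ ⟨z, hz, rfl⟩
          exact hconj.1 (pCoreOf_le C' hz)
        · intro z hz
          refine Subgroup.mem_normalizer_fintype ?_
          rintro _ ⟨u, hu, rfl⟩
          refine ⟨(w⁻¹ * z * w) * u * (w⁻¹ * z * w)⁻¹, (mem_normalizer_iff.1 (le_normalizer_pCoreOf C'
            (hconj.2 (by simpa [mul_assoc] using hz))) u).1 hu, ?_⟩
          simp [mul_assoc]
      have h3 := hconj.1 (hle h1)
      have hO : Cfsg.pCoreOf 2 C ≤ OH := le_pCoreOf ((pCoreOf_le C).trans hCH)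
        (hHC.trans (CfsgLib.Large.normalizer_le_normalizer_pCoreOf C)) (pCoreOf_isPGroup C)
      have e : w * ⁅w⁻¹ * x * w, b f⁆ * w⁻¹ = ⁅x, w * b f * w⁻¹⁆ := by
        simp only [commutatorElement_def]; group
      rw [e] at h3
      exact hO h3
    · intro t ht
      refine Subgroup.mem_normalizer_fintype fun x hx => hconj.2 ?_
      have h1 := (mem_normalizer_iff.1 (hHC (hwT t ht)) _).1 (hconj.1 hx)
      simpa [mul_assoc] using h1
    · intro x hx
      refine ⟨fun v _ => AddSubgroup.mem_top _, (hCs Ns hNsC hx).1, fun v _ => ?_⟩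
      have h1 := hCmove _ (hconj.1 hx) (ρ w v)
      have h3 := hwN.1 _ h1
      rwa [map_sub, act_inv_cancel, ← act_mul, ← act_mul,
        show w⁻¹ * (w * x * w⁻¹) * w = x by group] at h3
    · intro x hx o ho
      have ho' : w * o * w⁻¹ ∈ OH := by
        refine le_pCoreOf (N := (Cfsg.pCoreOf 2 C').map (MulAut.conj w).toMonoidHom) ?_ ?_
          ((pCoreOf_isPGroup C').map _) ⟨o, ho, rfl⟩
        · rintro _ ⟨z, hz, rfl⟩
          exact hCH (hconj.1 (pCoreOf_le C' hz))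
        · intro z hz
          have hzn : w⁻¹ * z * w ∈ normalizer (C' : Set (MulAut M)) := Subgroup.mem_normalizer_fintype fun u hu =>
            hconj.2 (by simpa [mul_assoc] using (mem_normalizer_iff.1 (hHC hz) _).1 (hconj.1 hu))
          refine Subgroup.mem_normalizer_fintype ?_
          rintro _ ⟨u, hu, rfl⟩
          refine ⟨(w⁻¹ * z * w) * u * (w⁻¹ * z * w)⁻¹, (mem_normalizer_iff.1
            (CfsgLib.Large.normalizer_le_normalizer_pCoreOf C' hzn) u).1 hu, ?_⟩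
          simp [mul_assoc]
      have h1 := (mem_normalizer_iff.1 hwN.2 _).1 (hCgap _ (hconj.1 hx) _ ho')
      rwa [show w⁻¹ * ⁅w * x * w⁻¹, w * o * w⁻¹⁆ * w⁻¹⁻¹ = ⁅x, o⁆ by
        simp only [commutatorElement_def]; group] at h1
  -- the join of the translates and `Ns`
  set Z := Tr ⊔ Ns.map b with hZ
  have hGZ : G ≤ normalizer (Z : Set (MulAut M)) :=
    (le_inf le_normalizer_transl ((hGK Ns hNsC).trans inf_le_right)).trans
      (Subgroup.normalizer_inf_normalizer_le_normalizer_sup _ _)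
  refine ⟨Z, sup_le hTrP (by rintro _ ⟨s, -, rfl⟩; exact ⟨s, rfl⟩), le_transl.trans le_sup_left,
    le_sup_left.trans hGZ, fun m' h' => ?_⟩
  rcases hcases m' h' with rfl | h
  swap
  · exact (img_le_imgSup (List.mem_append_right _ h)).trans hGZ
  have hodd : ∀ x ∈ C, (orderOf x).Coprime 2 → x ∈ normalizer (Z : Set (MulAut M)) := by
    intro x hx hxo
    have hxN : x ∈ normalizer ((Ns.map b : Subgroup (MulAut M)) : Set (MulAut M)) := (hHK Ns hNsC (hCH hx)).2
    have hNZ : Ns.map b ≤ Z := le_sup_right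
    have hle : Z ≤ Z.comap (MulAut.conj x).toMonoidHom := by
      refine sup_le (iSup_le fun g => ?_) fun z hz => hNZ ((mem_normalizer_iff.1 hxN z).1 hz)
      rintro _ ⟨t, ht, rfl⟩
      show x * ((g : MulAut M) * t * (g : MulAut M)⁻¹) * x⁻¹ ∈ Z
      set y := (g : MulAut M) * t * (g : MulAut M)⁻¹
      have h1 := comm_mem_of_odd (x := y) hxo hxN (pCoreOf_isPGroup H) (hgap g g.2 x hx t ht)
        (fun o ho => hCgap x hx o ho) (hOHP.trans (hbarK inferInstance))
      rw [show x * y * x⁻¹ = ⁅x, y⁆ * y by rw [commutatorElement_def]; group]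
      exact mul_mem (hNZ h1) (Subgroup.mem_sup_left (conj_le_transl g.2 ⟨t, ht, rfl⟩))
    exact Subgroup.mem_normalizer_fintype fun z hz => hle hz
  have hC0 : C ≤ normalizer (Z : Set (MulAut M)) := by
    intro x hx
    set Cs := C.subgroupOf H
    haveI : Cs.Normal := ⟨fun y hy g => (mem_normalizer_iff.1 (hHC g.2) _).1 hy⟩
    have h1 := le_residual_sup Q Cs (show (⟨x, hCH hx⟩ : H) ∈ Cs from hx)
    refine (sup_le ?_ ?_ : Cfsg.pResidualOf 2 Cs ⊔ (Q : Subgroup H) ≤
      (normalizer (Z : Set (MulAut M))).comap H.subtype) h1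
    · exact CfsgLib.Baumann.pResidualOf_le_iff.2 fun y hy hyo => hodd y hy (by rwa [Subgroup.orderOf_coe])
    · intro y hy
      exact hGZ (le_sup_left (a := (bar M).range) (hQ.le ⟨y, hy, rfl⟩))
  rw [img_eq (hl _ hm)]
  rintro _ ⟨g, rfl⟩
  obtain ⟨n, hn, hng⟩ := hfrat g
  have : a g = a n * a (n⁻¹ * g) := by rw [← map_mul, mul_inv_cancel_left]
  show a g ∈ _
  rw [this]
  exact mul_mem (hGZ (img_le_imgSup (List.mem_append_left _ List.mem_cons_self) (hm₃i ▸ mem_map_of_mem a hn)))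
    (hC0 (mem_map_of_mem a hng))

end CfsgLib.SFour
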