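import Cfsg.Agent.Lib.SFour.ThetaBasic

set_option autoImplicit false
set_option linter.unusedSectionVars false
set_option linter.style.haveILetI false

/-! Finite lists of models normalising a subgroup `M` and their images in the automorphisms of `M`. -/

namespace CfsgLib.SFour

open Subgroup IsMulCommutative CfsgLib.Techniques CfsgLib.Techniques.SThree
open scoped commutatorElement

universe u

variable {S : Type u} [Group S] (M : Subgroup S) [M.Normal] [IsMulCommutative M]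

open Classical in
/-- The image of a model in the automorphisms of `M`. -/
noncomputable def Img (m : Model S) : Subgroup (MulAut M) :=
  if h : m.Norm M then (m.act M h).range else ⊥

variable {M}

theorem img_eq {m : Model S} (h : m.Norm M) : Img M m = (m.act M h).range := dif_pos h

theorem bar_le_img {m : Model S} (h : m.Norm M) : (bar M).range ≤ Img M m := by
  rw [img_eq h]
  rintro _ ⟨s, rfl⟩
  exact ⟨m.emb s, m.act_emb M h s⟩

theorem img_s3Free {m : Model S} (h : m.Norm M) (h2 : ∀ x ∈ M, x ^ 2 = 1) : S3Free (Img M m) := by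
  rw [img_eq h]; exact m.act_s3Free M h h2

/-- The range of `bar` is a Sylow subgroup of the image of a model. -/
theorem exists_sylow_img {m : Model S} (h : m.Norm M) :
    ∃ P : Sylow 2 (Img M m), (P : Subgroup (Img M m)).map (Img M m).subtype = (bar M).range := by
  haveI : Fact (Nat.Prime 2) := ⟨Nat.prime_two⟩
  obtain ⟨P, hP⟩ := m.syl
  let f : m.G →* (Img M m) := (m.act M h).codRestrict (Img M m) fun g => by rw [img_eq h]; exact ⟨g, rfl⟩
  have hf : Function.Surjective f := by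
    rintro ⟨x, hx⟩
    rw [img_eq h] at hx
    obtain ⟨g, hg⟩ := hx
    exact ⟨g, Subtype.ext hg⟩
  refine ⟨P.mapSurjective hf, ?_⟩
  rw [Sylow.coe_mapSurjective, Subgroup.map_map, hP]
  ext x
  constructor
  · rintro ⟨_, ⟨s, rfl⟩, rfl⟩
    exact ⟨s, (m.act_emb M h s).symm⟩
  · rintro ⟨s, rfl⟩
    exact ⟨m.emb s, ⟨s, rfl⟩, m.act_emb M h s⟩

theorem img_sub_le {m : Model S} (h : m.Norm M) {H : Subgroup m.G} (hH : m.emb.range ≤ H) :
    Img M (m.sub H hH) = H.map (m.act M h) := by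
  have h' := m.norm_sub_of_norm hH h
  rw [img_eq h']
  have hval : ∀ g : H, (m.sub H hH).act M h' g = m.act M h g := fun g =>
    MulEquiv.ext fun x => Subtype.ext (m.inj (by
      have e := congrArg H.subtype ((m.sub H hH).emb_act M h' g x)
      rw [m.emb_act M h g x]
      exact e))
  ext y
  constructor
  · rintro ⟨g, rfl⟩; exact ⟨_, g.2, (hval g).symm⟩
  · rintro ⟨g, hg, rfl⟩; exact ⟨⟨g, hg⟩, hval ⟨g, hg⟩⟩

theorem img_le_normalizer_bar {m : Model S} (h : m.Norm M) {K : Subgroup S} (hK : m.Norm K) :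
    Img M m ≤ normalizer ((K.map (bar M) : Subgroup (MulAut M)) : Set (MulAut M)) := by
  haveI : (K.map m.emb).Normal := hK
  rw [img_eq h, show K.map (bar M) = (K.map m.emb).map (m.act M h) by
    rw [Subgroup.map_map]; congr 1; exact MonoidHom.ext fun s => (m.act_emb M h s).symm,
    MonoidHom.range_eq_map, ← normalizer_eq_top (K.map m.emb)]
  exact le_normalizer_map _

theorem img_le_setStab [Finite S] {m : Model S} (h : m.Norm M) {K : Subgroup S} (hK : m.Norm K) :
    Img M m ≤ setStab (repM M) (subM M K) := by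
  rw [img_eq h]
  rintro _ ⟨g, rfl⟩ v hv
  rw [mem_subM]
  show ((m.act M h g v.toMul : M) : S) ∈ K
  obtain ⟨y, hy, e⟩ := m.conj_mem hK g hv
  rw [show M.subtype v.toMul = (v.toMul : S) from rfl, ← m.emb_act M h g v.toMul] at e
  exact (m.inj e) ▸ hy

variable (M) in
/-- The fixed points in `M` of a set of automorphisms, as a subgroup of `S`. -/
def fixSub (Z : Subgroup (MulAut M)) : Subgroup S where
  carrier := {x | ∃ hx : x ∈ M, ∀ z ∈ Z, z ⟨x, hx⟩ = ⟨x, hx⟩}
  mul_mem' := fun {a b} ⟨ha, ha'⟩ ⟨hb, hb'⟩ => ⟨mul_mem ha hb, fun z hz => by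
    show z (⟨a, ha⟩ * ⟨b, hb⟩) = ⟨a, ha⟩ * ⟨b, hb⟩
    rw [map_mul, ha' z hz, hb' z hz]⟩
  one_mem' := ⟨one_mem M, fun z _ => map_one z⟩
  inv_mem' := fun {a} ⟨ha, ha'⟩ => ⟨inv_mem ha, fun z hz => by
    show z (⟨a, ha⟩⁻¹) = ⟨a, ha⟩⁻¹
    rw [map_inv, ha' z hz]⟩

theorem fixSub_le (Z : Subgroup (MulAut M)) : fixSub M Z ≤ M := fun _ ⟨hx, _⟩ => hx

theorem fixSub_normal {Z : Subgroup (MulAut M)} (hZ : (bar M).range ≤ normalizer (Z : Set (MulAut M))) :
    (fixSub M Z).Normal := by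
  refine ⟨fun x ⟨hx, hx'⟩ g => ⟨(inferInstance : M.Normal).conj_mem x hx g, fun z hz => ?_⟩⟩
  have hz' : (bar M g)⁻¹ * z * (bar M g)⁻¹⁻¹ ∈ Z :=
    (mem_normalizer_iff.1 (hZ (inv_mem ⟨g, rfl⟩)) z).1 hz
  rw [inv_inv] at hz'
  have e : (⟨g * x * g⁻¹, (inferInstance : M.Normal).conj_mem x hx g⟩ : M) = bar M g ⟨x, hx⟩ :=
    Subtype.ext (MulAut.conjNormal_apply g (⟨x, hx⟩ : M)).symm
  rw [e]
  conv_rhs => rw [← hx' _ hz']
  simp

theorem fixSub_norm {Z : Subgroup (MulAut M)} {m : Model S} (h : m.Norm M)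
    (hZ : Img M m ≤ normalizer (Z : Set (MulAut M))) : m.Norm (fixSub M Z) := by
  refine ⟨?_⟩
  rintro _ ⟨x, ⟨hx, hx'⟩, rfl⟩ g
  refine ⟨(m.act M h g ⟨x, hx⟩ : S), ⟨SetLike.coe_mem _, fun z hz => ?_⟩, m.emb_act M h g ⟨x, hx⟩⟩
  have hg : (m.act M h g)⁻¹ ∈ Img M m := inv_mem (by rw [img_eq h]; exact ⟨g, rfl⟩)
  have hz' := (mem_normalizer_iff.1 (hZ hg) z).1 hz
  rw [inv_inv] at hz'
  show z (m.act M h g ⟨x, hx⟩) = m.act M h g ⟨x, hx⟩
  conv_rhs => rw [← hx' _ hz']
  simp

/-- Central elements of `S` in `M` are fixed by subgroups of the image of `S`. -/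
theorem inf_center_le_fixSub {Z : Subgroup (MulAut M)} (hZ : Z ≤ (bar M).range) :
    M ⊓ center S ≤ fixSub M Z := by
  rintro x ⟨hx, hxc⟩
  refine ⟨hx, fun z hz => ?_⟩
  obtain ⟨s, rfl⟩ := hZ hz
  refine Subtype.ext ?_
  show ((MulAut.conjNormal s (⟨x, hx⟩ : M) : M) : S) = x
  rw [MulAut.conjNormal_apply, mem_center_iff.1 hxc s, mul_inv_cancel_right]

theorem eq_one_of_fixSub_eq {Z : Subgroup (MulAut M)} (h : M ≤ fixSub M Z) : Z = ⊥ :=
  eq_bot_iff.2 fun z hz => Subgroup.mem_bot.2 (MulEquiv.ext fun x => by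
    obtain ⟨_, hx⟩ := h x.2
    exact hx z hz)

variable (M) in
/-- The statement proved by induction: the image of `T` lies in a subgroup of the image of `S`
normalised by the images of the list. -/
def Settled (c : Ctx S) (l : List (Model S)) : Prop :=
  ∃ Z : Subgroup (MulAut M), Z ≤ (bar M).range ∧ c.d.T.map (bar M) ≤ Z ∧
    (bar M).range ≤ normalizer (Z : Set (MulAut M)) ∧ ∀ m ∈ l, Img M m ≤ normalizer (Z : Set (MulAut M))

/-- The measure of a list. -/
noncomputable def msr (l : List (Model S)) : ℕ := (l.map fun m => 3 ^ Nat.card m.G).sum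

theorem msr_replace {m : Model S} {l₁ l₂ new : List (Model S)} (h : msr new < 3 ^ Nat.card m.G) :
    msr (new ++ (l₁ ++ l₂)) < msr (l₁ ++ m :: l₂) := by
  simp only [msr, List.map_append, List.sum_append, List.map_cons, List.sum_cons] at h ⊢
  omega

theorem msr_one {m m' : Model S} (h : Nat.card m'.G < Nat.card m.G) : msr [m'] < 3 ^ Nat.card m.G := by
  simpa [msr] using Nat.pow_lt_pow_right (by norm_num) h

theorem msr_two {m m₁ m₂ : Model S} (h₁ : Nat.card m₁.G < Nat.card m.G) (h₂ : Nat.card m₂.G < Nat.card m.G) :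
    msr [m₁, m₂] < 3 ^ Nat.card m.G := by
  obtain ⟨k, hk⟩ : ∃ k, Nat.card m.G = k + 1 := ⟨_, (Nat.sub_add_cancel (Nat.one_le_iff_ne_zero.2 (by omega))).symm⟩
  have a1 := Nat.pow_le_pow_right (show 0 < 3 by norm_num) (show Nat.card m₁.G ≤ k by omega)
  have a2 := Nat.pow_le_pow_right (show 0 < 3 by norm_num) (show Nat.card m₂.G ≤ k by omega)
  have a3 : 0 < 3 ^ k := by positivity
  simp only [msr, List.map_cons, List.map_nil, List.sum_cons, List.sum_nil, hk, pow_succ]
  omega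

variable (M) in
/-- The group generated by the images of a list. -/
noncomputable def imgSup (l : List (Model S)) : Subgroup (MulAut M) :=
  (bar M).range ⊔ ⨆ m : {m // m ∈ l}, Img M m.1

theorem img_le_imgSup {l : List (Model S)} {m : Model S} (h : m ∈ l) : Img M m ≤ imgSup M l :=
  le_sup_of_le_right (le_iSup (fun m : {m // m ∈ l} => Img M m.1) ⟨m, h⟩)

theorem imgSup_le {l : List (Model S)} {H : Subgroup (MulAut M)} (h1 : (bar M).range ≤ H)
    (h2 : ∀ m ∈ l, Img M m ≤ H) : imgSup M l ≤ H :=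
  sup_le h1 (iSup_le fun m => h2 m.1 m.2)

end CfsgLib.SFour
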