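import Cfsg.Agent.Lib.SFour.ThetaBasic
import Cfsg.Agent.Lib.PLocal.Thompson

/-!
The candidate of the universal theorem: the least subgroup above `Ω₁(Z(S))` normal in all models
normalising the join of the good normal subgroups of `S`.
-/

set_option autoImplicit false
set_option linter.unusedSectionVars false
set_option linter.style.haveILetI false

namespace CfsgLib.SFour

open Subgroup IsMulCommutative CfsgLib.PLocal

universe u

variable {S : Type u} [Group S]

/-- The join of two good normal subgroups is good. -/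
theorem GoodSub.sup_top [Finite S] {X Y : Subgroup S} (hX : GoodSub (⊤ : Subgroup S) X)
    (hY : GoodSub (⊤ : Subgroup S) Y) : GoodSub (⊤ : Subgroup S) (X ⊔ Y) := by
  have hc := hX.commute hY le_top le_top
  have hel : Cfsg.IsElementaryAbelian 2 (X ⊔ Y : Subgroup S) :=
    elemAb_sup hX.elem hY.elem fun x hx => mem_centralizer_iff.2 fun y hy => (hc x hx y hy).symm
  haveI : X.Normal := normalizer_eq_top_iff.1 (top_le_iff.1 hX.norm)
  haveI : Y.Normal := normalizer_eq_top_iff.1 (top_le_iff.1 hY.norm)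
  haveI : IsMulCommutative (X ⊔ Y : Subgroup S) := hel.1
  refine (goodSub_iff_goodMod le_rfl hel).2 ?_
  rw [subgroupOf_sup le_sup_left le_sup_right, OrderIso.map_sup]
  exact ((goodSub_iff_goodMod le_sup_left hX.elem).1 hX).sup
    ((goodSub_iff_goodMod le_sup_right hY.elem).1 hY)

theorem goodSub_omegaOne_center : GoodSub (⊤ : Subgroup S) (Cfsg.omegaOne 2 (center S)) :=
  GoodSub.of_le_centralizer (omegaOne_elemAb 2 _) fun s _ => mem_centralizer_iff.2 fun x hx =>
    (mem_center_iff.1 ((omegaOne_le 2 _) hx) s).symm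

variable (S) in
/-- The join of the good normal subgroups. -/
def wGood : Subgroup S := sSup {X | GoodSub (⊤ : Subgroup S) X}

theorem le_wGood {X : Subgroup S} (h : GoodSub (⊤ : Subgroup S) X) : X ≤ wGood S := le_sSup h

theorem goodSub_wGood [Finite S] : GoodSub (⊤ : Subgroup S) (wGood S) := by
  obtain ⟨X, hX⟩ := (Set.toFinite {X : Subgroup S | GoodSub (⊤ : Subgroup S) X}).exists_maximal
    ⟨_, goodSub_omegaOne_center⟩
  have e : wGood S = X := le_antisymm
    (sSup_le fun Y hY => le_sup_right.trans (hX.le_of_ge (hX.prop.sup_top hY) le_sup_left))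
    (le_sSup hX.prop)
  rw [e]; exact hX.prop

variable (S) in
/-- The subgroups above `Ω₁(Z(S))` normal in all models normalising `wGood S`. -/
def univSet : Set (Subgroup S) :=
  {K | Cfsg.omegaOne 2 (center S) ≤ K ∧ ∀ m : Model.{u} S, m.Norm (wGood S) → m.Norm K}

variable (S) in
/-- The least subgroup of `univSet`. -/
def wUniv : Subgroup S := sInf (univSet S)

theorem wUniv_le_of_mem {K : Subgroup S} (h : K ∈ univSet S) : wUniv S ≤ K := sInf_le h

theorem omegaOne_center_le_wUniv : Cfsg.omegaOne 2 (center S) ≤ wUniv S := le_sInf fun _ h => h.1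

theorem wUniv_le_wGood : wUniv S ≤ wGood S :=
  wUniv_le_of_mem ⟨le_wGood goodSub_omegaOne_center, fun _ h => h⟩

theorem wUniv_mem [Finite S] : wUniv S ∈ univSet S := by
  obtain ⟨K, hK⟩ := (Set.toFinite (univSet S)).exists_minimal
    ⟨wGood S, le_wGood goodSub_omegaOne_center, fun _ h => h⟩
  have e : wUniv S = K := le_antisymm (sInf_le hK.prop) (le_sInf fun L hL =>
    (hK.le_of_le ⟨le_inf hK.prop.1 hL.1, fun m hm => (hK.prop.2 m hm).inf (hL.2 m hm)⟩
      inf_le_left).trans inf_le_right)
  rw [e]; exact hK.prop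

/-- The candidate is good. -/
theorem goodSub_wUniv [Finite S] (hS : IsPGroup 2 S) : GoodSub (⊤ : Subgroup S) (wUniv S) := by
  obtain ⟨K, hK⟩ := (Set.toFinite {K : Subgroup S | GoodSub (⊤ : Subgroup S) K ∧ K ≤ wUniv S ∧
    Cfsg.omegaOne 2 (center S) ≤ K}).exists_maximal
    ⟨_, goodSub_omegaOne_center, omegaOne_center_le_wUniv, le_rfl⟩
  obtain ⟨hgood, hle, hW0⟩ := hK.prop
  have hmem : K ∈ univSet S := ⟨hW0, fun m hm => by
    obtain ⟨K', hK', hn, hKK', hK'le⟩ :=
      exists_goodSub_norm m hgood (wUniv_mem.2 m hm) (hS.to_subgroup _) hle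
    rwa [le_antisymm hKK' (hK.le_of_ge ⟨hK', hK'le, hW0.trans hKK'⟩ hKK')]⟩
  rw [le_antisymm (wUniv_le_of_mem hmem) hle]
  exact hgood

theorem wUniv_ne_bot [Finite S] (hS : IsPGroup 2 S) [Nontrivial S] : wUniv S ≠ ⊥ := by
  haveI : Fact (Nat.Prime 2) := ⟨Nat.prime_two⟩
  intro e
  haveI := hS.center_nontrivial
  obtain ⟨x, hx⟩ := exists_prime_orderOf_dvd_card' (G := center S) 2
    (((hS.to_subgroup _).card_eq_or_dvd).resolve_left Finite.one_lt_card.ne')
  have h1 : (x : S) ∈ wUniv S := omegaOne_center_le_wUniv (mem_omegaOne x.2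
    (by rw [← SubmonoidClass.coe_pow, ← hx, pow_orderOf_eq_one, OneMemClass.coe_one]))
  rw [e, mem_bot, OneMemClass.coe_eq_one] at h1
  rw [h1, orderOf_one] at hx
  exact absurd hx (by norm_num)

section Equiv

variable {R : Type u} [Group R] (φ : S ≃* R)

/-- Pulling a model back along an isomorphism. -/
def Model.comapEquiv (m : Model R) : Model S where
  G := m.G
  emb := m.emb.comp φ.toMonoidHom
  inj := m.inj.comp φ.injective
  syl := by
    obtain ⟨P, hP⟩ := m.syl
    refine ⟨P, hP.trans ?_⟩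
    rw [MonoidHom.range_comp, (MonoidHom.range_eq_top (f := φ.toMonoidHom)).2 φ.surjective,
      MonoidHom.range_eq_map]
  free := m.free

theorem Model.norm_comapEquiv (m : Model R) (K : Subgroup S) :
    (m.comapEquiv φ).Norm K ↔ m.Norm (K.map φ.toMonoidHom) := by
  show ((K.map (m.emb.comp φ.toMonoidHom)).Normal) ↔ ((K.map φ.toMonoidHom).map m.emb).Normal
  rw [Subgroup.map_map]

theorem map_wGood_le : (wGood S).map φ.toMonoidHom ≤ wGood R := by
  rw [Subgroup.map_le_iff_le_comap]
  refine sSup_le fun X hX => Subgroup.map_le_iff_le_comap.1 (le_wGood ?_)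
  have h := (goodSub_map_iff (f := φ.toMonoidHom) φ.injective X).2 hX
  rwa [MonoidHom.range_eq_top.2 φ.surjective] at h

theorem map_symm_map (K : Subgroup R) : (K.map φ.symm.toMonoidHom).map φ.toMonoidHom = K := by
  rw [Subgroup.map_map]
  convert Subgroup.map_id K
  ext x
  simp

theorem map_wGood : (wGood S).map φ.toMonoidHom = wGood R :=
  le_antisymm (map_wGood_le φ) ((map_symm_map φ _).symm.le.trans (Subgroup.map_mono (map_wGood_le φ.symm)))

theorem map_omegaOne_center :
    (Cfsg.omegaOne 2 (center S)).map φ.toMonoidHom = Cfsg.omegaOne 2 (center R) := by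
  rw [← omegaOne_map (f := φ.toMonoidHom) φ.injective]
  congr 1
  ext y
  simp only [Subgroup.mem_map, mem_center_iff]
  constructor
  · rintro ⟨x, hx, rfl⟩ z
    obtain ⟨w, rfl⟩ := φ.surjective z
    show φ w * φ x = φ x * φ w
    rw [← map_mul, ← map_mul, hx w]
  · intro hy
    exact ⟨φ.symm y, fun z => φ.injective (by rw [map_mul, map_mul, φ.apply_symm_apply]; exact hy _),
      φ.apply_symm_apply y⟩

theorem map_wUniv_le [Finite R] : wUniv R ≤ (wUniv S).map φ.toMonoidHom := by
  haveI : Finite S := Finite.of_equiv R φ.toEquiv.symm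
  refine wUniv_le_of_mem ⟨(map_omegaOne_center φ).ge.trans (Subgroup.map_mono omegaOne_center_le_wUniv),
    fun m hm => (m.norm_comapEquiv φ _).1 (wUniv_mem.2 _ ?_)⟩
  rw [m.norm_comapEquiv, map_wGood]
  exact hm

theorem map_wUniv [Finite S] : (wUniv S).map φ.toMonoidHom = wUniv R := by
  haveI : Finite R := Finite.of_equiv S φ.toEquiv
  refine le_antisymm ?_ (map_wUniv_le φ)
  refine (Subgroup.map_mono (map_wUniv_le φ.symm)).trans (map_symm_map φ _).le

end Equiv

end CfsgLib.SFour
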