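import Cfsg.Agent.Lib.SFour.UnivFunctor
import Cfsg.Agent.Lib.SFour.ThetaCaseA
import Cfsg.Agent.Lib.Fusion.QdFreeFunctor
import Cfsg.Agent.Lib.LocalEven.PReduced

/-!
The universal theorem: `wUniv S` is normal in every constrained model of `S`, and the functor for the
`S₄`-free groups, from the induction step `ThetaFalse` and the control `CtrlFromFunctor`.
-/

set_option autoImplicit false
set_option linter.unusedSectionVars false
set_option linter.style.haveILetI false

namespace CfsgLib.SFour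

open Subgroup CfsgLib.PLocal

universe u

/-- The statement of the main induction. -/
def ThetaFalse : Prop :=
  ∀ (S : Type u) [Group S] [Finite S] (c : Ctx S), IsPGroup 2 S → CtrlBelow.{u} (Nat.card S) →
    ∀ (M : Subgroup S) [M.Normal] [IsMulCommutative M], M ≤ c.N → ¬ M ≤ c.d.U →
      ∀ l : List (Model S), (∀ m ∈ l, m.Norm M) →
        (∀ K : Subgroup S, K.Normal → M ⊓ center S ≤ K → K ≤ M → (∀ m ∈ l, m.Norm K) → K = M) → False

/-- Control below `n` from a functor on the groups of order less than `n`. -/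
def CtrlFromFunctor : Prop :=
  ∀ (n : ℕ) (W : ∀ (Q : Type u) [Group Q], Subgroup Q),
    (∀ (Q : Type u) [Group Q] [Finite Q], IsPGroup 2 Q → Nontrivial Q → Nat.card Q < n → W Q ≠ ⊥) →
    (∀ (Q R : Type u) [Group Q] [Group R] [Finite Q], IsPGroup 2 Q → ∀ φ : Q ≃* R,
      (W Q).map φ.toMonoidHom = W R) →
    (∀ (Q : Type u) [Group Q] [Finite Q] (m : Model Q), IsPGroup 2 Q → Nat.card Q < n →
      centralizer (Cfsg.pCore 2 m.G : Set m.G) ≤ Cfsg.pCore 2 m.G → m.Norm (W Q)) →
    CtrlBelow.{u} n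

variable {S : Type u} [Group S] [Finite S]

/-- A proper overgroup of `S` in a constrained model is a constrained model. -/
theorem Model.sub_constrained (m : Model S) (hC : centralizer (Cfsg.pCore 2 m.G : Set m.G) ≤ Cfsg.pCore 2 m.G)
    {H : Subgroup m.G} (hH : m.emb.range ≤ H) :
    centralizer (Cfsg.pCore 2 (m.sub H hH).G : Set (m.sub H hH).G) ≤ Cfsg.pCore 2 (m.sub H hH).G := by
  show centralizer (Cfsg.pCore 2 H : Set H) ≤ Cfsg.pCore 2 H
  haveI : Fact (Nat.Prime 2) := ⟨Nat.prime_two⟩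
  obtain ⟨P, hP⟩ := m.syl
  set Q := Cfsg.pCore 2 m.G
  have hQH : Q ≤ H := (CfsgLib.PCore.pCore_le_sylow P).trans (hP.le.trans hH)
  haveI : Q.Normal := Cfsg.pCore_normal 2 m.G
  have hQle : Q.subgroupOf H ≤ Cfsg.pCore 2 H :=
    CfsgLib.PCore.le_pCore inferInstance (CfsgLib.PCore.pCore_isPGroup.comap_of_injective H.subtype H.subtype_injective)
  intro x hx
  refine hQle (mem_subgroupOf.2 (hC (mem_centralizer_iff.2 fun q hq => ?_)))
  exact congrArg Subtype.val (mem_centralizer_iff.1 hx ⟨q, hQH hq⟩ (hQle (mem_subgroupOf.2 hq)))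

theorem norm_wUniv_step (hθ : ThetaFalse.{u}) (hS : IsPGroup 2 S) (hctrl : CtrlBelow.{u} (Nat.card S)) :
    ∀ (k : ℕ) (m : Model S), Nat.card m.G = k →
      centralizer (Cfsg.pCore 2 m.G : Set m.G) ≤ Cfsg.pCore 2 m.G → m.Norm (wUniv S) := by
  intro k
  induction k using Nat.strong_induction_on with
  | _ k ih =>
  rintro m rfl hC
  haveI : Fact (Nat.Prime 2) := ⟨Nat.prime_two⟩
  by_contra hbad
  obtain ⟨P, hP⟩ := m.syl
  set W := wUniv S
  set Q := Cfsg.pCore 2 m.G
  haveI : Q.Normal := Cfsg.pCore_normal 2 m.G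
  have hgood : GoodSub (⊤ : Subgroup S) W := goodSub_wUniv hS
  -- proper overgroups of `S` normalise `W`
  have hover : ∀ H : Subgroup m.G, m.emb.range ≤ H → H ≠ ⊤ →
      H ≤ normalizer ((W.map m.emb : Subgroup m.G) : Set m.G) := by
    intro H hH hne
    have h := ih _ (m.card_sub_lt hH hne) (m.sub H hH) rfl (m.sub_constrained hC hH)
    refine le_normalizer_iff.2 fun g hg x hx => ?_
    obtain ⟨y, hy, rfl⟩ := hx
    obtain ⟨z, hz, e⟩ := (m.sub H hH).conj_mem h (⟨g, hg⟩ : H) hy
    exact ⟨z, hz, congrArg Subtype.val e⟩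
  by_cases hWQ : W.map m.emb ≤ Q
  · -- inside the core
    set Z := normalClosure ((W.map m.emb : Subgroup m.G) : Set m.G)
    have hZgood : GoodSub (P : Subgroup m.G) Z :=
      goodSub_normalClosure P m.free (hP ▸ (goodSub_map_iff m.inj W).2 hgood) hWQ
    have hZP : Z ≤ m.emb.range :=
      hP ▸ (normalClosure_le_normal hWQ).trans (CfsgLib.PCore.pCore_le_sylow P)
    have eZ : (Z.comap m.emb).map m.emb = Z := map_comap_eq_self hZP
    have hZc : GoodSub (⊤ : Subgroup S) (Z.comap m.emb) := (goodSub_map_iff m.inj _).1 (by rw [eZ, ← hP]; exact hZgood)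
    set C := centralizer (Z : Set m.G)
    haveI : Z.Normal := normalClosure_normal
    haveI hCn : C.Normal := Subgroup.normal_centralizer
    have hWgC : (wGood S).map m.emb ≤ C := by
      rintro _ ⟨x, hx, rfl⟩
      refine mem_centralizer_iff.2 fun z hz => ?_
      obtain ⟨y, hy, rfl⟩ := eZ.ge hz
      rw [← map_mul, ← map_mul, goodSub_wGood.comm (le_wGood hZc hy) hx]
    set PC := C ⊓ (P : Subgroup m.G)
    set N₁ := normalizer (PC : Set m.G)
    have hPN : m.emb.range ≤ N₁ := by
      rw [← hP]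
      exact le_normalizer_iff.2 fun g hg x hx =>
        ⟨hCn.conj_mem x hx.1 g, (P : Subgroup m.G).mul_mem ((P : Subgroup m.G).mul_mem hg hx.2)
          ((P : Subgroup m.G).inv_mem hg)⟩
    by_cases hN₁ : N₁ = ⊤
    · have hPCQ : PC ≤ Q := CfsgLib.PCore.le_pCore (normalizer_eq_top_iff.1 hN₁) (P.2.to_le inf_le_right)
      have hWg : (wGood S).map m.emb ≤ Q :=
        (le_inf hWgC (hP ▸ map_le_range m.emb _)).trans hPCQ
      set Z' := normalClosure (((wGood S).map m.emb : Subgroup m.G) : Set m.G)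
      have h1 : GoodSub (P : Subgroup m.G) Z' :=
        goodSub_normalClosure P m.free (hP ▸ (goodSub_map_iff m.inj _).2 goodSub_wGood) hWg
      have eZ' : (Z'.comap m.emb).map m.emb = Z' :=
        map_comap_eq_self (hP ▸ (normalClosure_le_normal hWg).trans (CfsgLib.PCore.pCore_le_sylow P))
      have h2 : (Z'.comap m.emb) ≤ wGood S :=
        le_wGood ((goodSub_map_iff m.inj _).1 (by rw [eZ', ← hP]; exact h1))
      have e : (wGood S).map m.emb = Z' :=
        le_antisymm le_normalClosure (eZ'.ge.trans (Subgroup.map_mono h2))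
      refine hbad (wUniv_mem.2 m ?_)
      show ((wGood S).map m.emb).Normal
      rw [e]; exact normalClosure_normal
    · have hCW : C ≤ normalizer ((W.map m.emb : Subgroup m.G) : Set m.G) := by
        refine le_trans (Subgroup.centralizer_le ?_) (centralizer_le_normalizer _)
        exact fun x hx => le_normalClosure (G := m.G) hx
      have hsup : N₁ ⊔ C = ⊤ := by
        obtain ⟨T, hT⟩ := CfsgLib.PRed.exists_sylow_inf_normal P C
        have := Sylow.normalizer_sup_eq_top T
        rwa [show ((T : Subgroup C).map C.subtype : Subgroup m.G) = PC from by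
          rw [hT, Subgroup.subgroupOf_map_subtype, inf_comm]] at this
      refine hbad (normalizer_eq_top_iff.1 (top_le_iff.1 ?_))
      rw [← hsup]
      exact sup_le (hover N₁ hPN hN₁) hCW
  · -- outside the core
    have hctrlQ : ∀ K : Subgroup S, K ≠ ⊥ → K ≠ ⊤ → m.Norm K →
        ∃ V : Subgroup S, V.Normal ∧ K < V ∧ m.Ctrl K V := by
      intro K hKb hKt hK
      haveI := hK.normal
      have hlt : Nat.card (S ⧸ K) < Nat.card S := by
        rw [Subgroup.card_eq_card_quotient_mul_card_subgroup K]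
        exact lt_mul_of_one_lt_right Nat.card_pos (K.one_lt_card_iff_ne_bot.2 hKb)
      obtain ⟨V, hV, hKV, hc⟩ := hctrl S K hS hKt hlt
      exact ⟨V, hV, hKV, hc m hK⟩
    obtain ⟨c, hcN, hcm⟩ := exists_ctx hS m hC hgood hWQ hover hctrlQ
    haveI : W.Normal := normalizer_eq_top_iff.1 (top_le_iff.1 hgood.norm)
    haveI : IsMulCommutative W := hgood.elem.1
    -- one witness for each subgroup below `W`
    let bad := {K : Subgroup S // ∃ m' : Model.{u} S, m'.Norm (wGood S) ∧ ¬ m'.Norm K}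
    haveI : Fintype bad := Fintype.ofFinite bad
    let l : List (Model S) := (Finset.univ : Finset bad).toList.map fun K => K.2.choose
    refine hθ S c hS hctrl W hcN.ge (fun h => c.d.a_not (h (hcN ▸ c.d.a_mem))) l ?_ ?_
    · intro m' hm'
      obtain ⟨K, -, rfl⟩ := List.mem_map.1 hm'
      exact wUniv_mem.2 _ K.2.choose_spec.1
    · intro K _ hZK hKW hl
      refine le_antisymm hKW (wUniv_le_of_mem ⟨(le_inf omegaOne_center_le_wUniv (omegaOne_le 2 _)).trans hZK,
        fun m' hm' => ?_⟩)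
      by_contra hn
      have hK : ∃ m' : Model.{u} S, m'.Norm (wGood S) ∧ ¬ m'.Norm K := ⟨m', hm', hn⟩
      exact hK.choose_spec.2 (hl _ (List.mem_map.2 ⟨⟨K, hK⟩, Finset.mem_toList.2 (Finset.mem_univ _), rfl⟩))

/-- The universal theorem. -/
theorem norm_wUniv (hθ : ThetaFalse.{u}) (hK : CtrlFromFunctor.{u}) :
    ∀ (S : Type u) [Group S] [Finite S] (m : Model S), IsPGroup 2 S →
      centralizer (Cfsg.pCore 2 m.G : Set m.G) ≤ Cfsg.pCore 2 m.G → m.Norm (wUniv S) := by
  suffices H : ∀ (n : ℕ) (S : Type u) [Group S] [Finite S] (m : Model S), IsPGroup 2 S → Nat.card S < n →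
      centralizer (Cfsg.pCore 2 m.G : Set m.G) ≤ Cfsg.pCore 2 m.G → m.Norm (wUniv S) from
    fun S _ _ m hS hC => H _ S m hS (Nat.lt_succ_self _) hC
  intro n
  induction n with
  | zero => exact fun _ _ _ _ _ h => absurd h (Nat.not_lt_zero _)
  | succ n ih =>
    intro S _ _ m hS hlt hC
    refine norm_wUniv_step hθ hS (hK (Nat.card S) (fun Q => wUniv Q)
      (fun Q _ _ hQ _ _ => wUniv_ne_bot hQ) (fun Q R _ _ _ _ φ => map_wUniv φ) ?_) _ m rfl hC
    intro Q _ _ m' hQ hQlt hC'
    exact ih Q m' hQ (lt_of_lt_of_le hQlt (Nat.le_of_lt_succ hlt)) hC'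

/-- The model given by a Sylow 2-subgroup. -/
def Model.ofSylow {L : Type u} [Group L] [Finite L] (T : Sylow 2 L)
    (h : ¬ Cfsg.Involves (Equiv.Perm (Fin 4)) L) : Model (T : Subgroup L) where
  G := L
  emb := (T : Subgroup L).subtype
  inj := Subgroup.subtype_injective _
  syl := ⟨T, (Subgroup.range_subtype _).symm⟩
  free := h

/-- The functor for the `S₄`-free groups. -/
theorem twoFunctor (hθ : ThetaFalse.{u}) (hK : CtrlFromFunctor.{u}) : CfsgLib.Fusion.TwoFunctor.{u} :=
  ⟨fun Q => wUniv Q, fun Q _ _ hQ _ => wUniv_ne_bot hQ, fun Q R _ _ _ _ φ => map_wUniv φ,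
    fun L _ _ T hc hf => norm_wUniv hθ hK (T : Subgroup L) (Model.ofSylow T hf) T.2 hc⟩

end CfsgLib.SFour
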